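import Cfsg.Agent.Lib.GW.CaseA.LStructure

/-!
# Case A, an involution acting partially: the group `A = T ∩ L`

`Y` is cyclic and `A = T ∩ L = C_T(Y)` is abelian, the product of `Y` and the cyclic group of its elements
inverted by `v`.
-/

set_option autoImplicit false
set_option linter.style.haveILetI false
set_option linter.unusedSectionVars false

open Subgroup
open CfsgLib.Coprime.BenderPair CfsgLib.Coprime.BenderUniqueness

namespace CfsgLib.GW.CaseA

universe u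

variable {G : Type u} [Group G] [Finite G]

/-- an element of odd order is a fixed one times an inverted one -/
theorem exists_fixed_mul_inverted {H : Subgroup G} {u : G} (hu : orderOf u = 2) (huH : u ∈ normalizer (H : Set G))
    {a : G} (ha : a ∈ H) (hodd : Odd (Nat.card H)) :
    ∃ y x : G, y ∈ H ∧ x ∈ H ∧ Commute y u ∧ u * x * u⁻¹ = x⁻¹ ∧ a = y * x := by
  have huu := Invol.invol_mul_self hu
  set c := a⁻¹ * (u * a * u⁻¹) with hc
  have hcH : c ∈ H := mul_mem (inv_mem ha) ((mem_normalizer_iff.1 huH a).1 ha)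
  have hcinv : u * c * u⁻¹ = c⁻¹ := by
    calc u * c * u⁻¹ = u * a⁻¹ * u⁻¹ * ((u * u) * a * (u * u)⁻¹) := by rw [hc]; group
      _ = c⁻¹ := by rw [huu, hc]; group
  obtain ⟨i, hi⟩ := CaseB.orderOf_odd_of_mem hodd hcH
  set k := c ^ (i + 1) with hk
  have hk2 : k * k = c := by
    rw [hk, ← pow_add, show i + 1 + (i + 1) = orderOf c + 1 by omega, pow_succ, pow_orderOf_eq_one, one_mul]
  have hkinv : u * k * u⁻¹ = k⁻¹ := by rw [hk, ← conj_pow, hcinv, inv_pow]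
  refine ⟨a * k, k⁻¹, mul_mem ha (pow_mem hcH _), inv_mem (pow_mem hcH _), ?_, ?_, (mul_inv_cancel_right a k).symm⟩
  · refine (mul_inv_eq_iff_eq_mul.1 ?_).symm
    calc u * (a * k) * u⁻¹ = a * c * (u * k * u⁻¹) := by rw [hc]; group
      _ = a * k := by rw [hkinv, ← hk2]; group
  · rw [← conj_inv, hkinv]

/-- an inverted element gives a second conjugate of the involution -/
theorem conj_mul_self_of_inverted {u x : G} (hu : orderOf u = 2) (h : u * x * u⁻¹ = x⁻¹) :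
    x * u * x⁻¹ * u = x ^ 2 := by
  have hui : u⁻¹ = u := inv_eq_of_mul_eq_one_right (Invol.invol_mul_self hu)
  rw [hui] at h
  have h' : u * x⁻¹ * u = x := by
    have := congrArg Inv.inv h
    rw [_root_.mul_inv_rev, _root_.mul_inv_rev, hui, inv_inv, ← mul_assoc] at this
    exact this
  rw [sq]
  calc x * u * x⁻¹ * u = x * (u * x⁻¹ * u) := by group
    _ = x * x := by rw [h']

theorem mem_of_sq_mem {S : Subgroup G} {x : G} (hodd : Odd (orderOf x)) (h : x ^ 2 ∈ S) : x ∈ S := by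
  obtain ⟨j, hj⟩ := hodd
  have h' := pow_mem h (j + 1)
  rwa [← pow_mul, show 2 * (j + 1) = orderOf x + 1 by omega, pow_succ, pow_orderOf_eq_one, one_mul] at h'

namespace Setup

variable {t v : G} {p : ℕ} {L : Subgroup G} (hS : Setup t v p L)
include hS

theorem v_tConj : v ∈ tConj t L := hS.fused.fuse_v

theorem tv_tConj : t * v ∈ tConj t L := hS.fused.fuse_tv

/-- elements of odd order inverted by `v` centralise `O(L)` -/
theorem inverted_mem_cent {x : G} (hx : x ∈ L) (hodd : Odd (orderOf x)) (h : v * x * v⁻¹ = x⁻¹) :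
    x ∈ centralizer (CaseB.ocN L : Set G) := by
  refine mem_of_sq_mem hodd ?_
  rw [← conj_mul_self_of_inverted hS.part.hv h]
  refine mul_mem (mem_centralizer_iff.2 fun k hk => ?_) (mem_centralizer_iff.2 fun k hk => (hS.commute_ocN_v hk).eq)
  obtain ⟨g, hg, hgv⟩ := hS.v_tConj
  exact (hS.commute_ocN_tConj (u := x * v * x⁻¹) ⟨x * g, mul_mem hx hg, by rw [← hgv]; group⟩ hk).eq

/-- no element of odd order of `O(L)` but `1` is inverted by `v` -/
theorem eq_one_of_inverted_ocN {x : G} (hx : x ∈ CaseB.ocN L) (h : v * x * v⁻¹ = x⁻¹) : x = 1 :=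
  CaseB.eq_one_of_inv_fix h (hS.commute_ocN_v hx).symm (CaseB.orderOf_odd_of_mem (CaseB.odd_ocN L) hx)

/-- the images of the `O_q(C(t)) ∩ L` lie in a cyclic group -/
theorem exists_cyclic_image :
    ∃ T0 : Subgroup (L ⧸ Cfsg.oddCore L), IsCyclic T0 ∧ ∀ q : ℕ, q.Prime → q ≠ 2 →
      ∀ x ∈ coreAt q t, ∀ hxL : x ∈ L, QuotientGroup.mk' (Cfsg.oddCore L) ⟨x, hxL⟩ ∈ T0 := by
  obtain ⟨F, iF, jF, M, hMn, ho, h5, hM, hC, ⟨e⟩⟩ := hS.exists_psl
  have hP := hS.part
  have h2 : (2 : F) ≠ 0 := CfsgLib.Perm.Dickson.two_ne_zero_of_odd (F := F) (by rwa [Nat.card_eq_fintype_card])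
  obtain ⟨T0, hT0, hmem⟩ := psl_torus_cyclic M e hS.dihTwo_quot hC h2 (orderOf_mk_two hS.t_mem hP.hA.invol)
  refine ⟨T0, hT0, fun q hq hq2 x hx hxL => ?_⟩
  haveI := Fact.mk hq
  exact hmem _ (le_diagPart M e (hS.fused.image_mem hP.hA hP.hv hP.hne hP.hc ho h5 hC e hq hq2 hx hxL))
    (orderOf_mk_odd hxL (orderOf_odd hq2 (isPGroup_coreAt q t) hx))
    ((show Commute (⟨x, hxL⟩ : L) ⟨t, hS.t_mem⟩ from Subtype.ext (commute_coreAt hx).eq).map _)

/-- elements of the `O_q(C(t)) ∩ L` commute modulo `O(L)` -/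
theorem commutator_mem_ocN_core {q r : ℕ} (hq : q.Prime) (hq2 : q ≠ 2) (hr : r.Prime) (hr2 : r ≠ 2) {x y : G}
    (hx : x ∈ coreAt q t) (hxL : x ∈ L) (hy : y ∈ coreAt r t) (hyL : y ∈ L) :
    x * y * x⁻¹ * y⁻¹ ∈ CaseB.ocN L := by
  obtain ⟨T0, hT0, hmem⟩ := hS.exists_cyclic_image
  refine ⟨⟨x, hxL⟩ * ⟨y, hyL⟩ * (⟨x, hxL⟩ : L)⁻¹ * (⟨y, hyL⟩ : L)⁻¹, ?_, rfl⟩
  show _ ∈ Cfsg.oddCore L
  refine (QuotientGroup.eq_one_iff _).1 ?_
  show QuotientGroup.mk' (Cfsg.oddCore L) _ = 1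
  rw [map_mul, map_mul, map_mul, map_inv, map_inv]
  have h : Commute (QuotientGroup.mk' (Cfsg.oddCore L) ⟨x, hxL⟩) (QuotientGroup.mk' (Cfsg.oddCore L) ⟨y, hyL⟩) :=
    congrArg Subtype.val (IsCyclic.commGroup.mul_comm (⟨_, hmem q hq hq2 x hx hxL⟩ : T0) ⟨_, hmem r hr hr2 y hy hyL⟩)
  rw [h.eq, mul_inv_cancel_right, mul_inv_cancel]

/-- a subgroup of some `O_q(C(t)) ∩ L` meeting `O(L)` trivially is cyclic -/
theorem isCyclic_of_disjoint {q : ℕ} (hq : q.Prime) (hq2 : q ≠ 2) {B : Subgroup G} (hB : B ≤ coreAt q t)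
    (hBL : B ≤ L) (hd : ∀ x ∈ B, x ∈ CaseB.ocN L → x = 1) : IsCyclic B := by
  obtain ⟨T0, hT0, hmem⟩ := hS.exists_cyclic_image
  haveI := hT0
  let f : B →* T0 := ((QuotientGroup.mk' (Cfsg.oddCore L)).comp (Subgroup.inclusion hBL)).codRestrict T0
    fun x => hmem q hq hq2 x (hB x.2) (hBL x.2)
  refine isCyclic_of_injective f ((injective_iff_map_eq_one f).2 fun x hx => ?_)
  have h1 : QuotientGroup.mk' (Cfsg.oddCore L) ⟨x, hBL x.2⟩ = 1 := congrArg Subtype.val hx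
  exact Subtype.ext (hd x x.2 ⟨⟨x, hBL x.2⟩, (QuotientGroup.eq_one_iff _).1 h1, rfl⟩)

/-- `C(t)` is not in `L` -/
theorem exists_not_mem : ∃ c : G, Commute c t ∧ c ∉ L := by
  by_contra! h
  have hA := hS.part.hA
  have heq : L = centralizer ({t} : Set G) :=
    ((hA.maximal t hA.invol).le_iff.1 fun x hx => h x (mem_centralizer_singleton_iff.1 hx)).resolve_left hS.coatom.1
  obtain ⟨g, hg, hgv⟩ := hS.v_tConj
  rw [heq, mem_centralizer_singleton_iff] at hg
  exact hS.part.hne (by rw [← hgv, hg, mul_inv_cancel_right])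

/-- some element of `C(t)` outside `L` normalises `T ∩ L` -/
theorem exists_move :
    ∃ c : G, Commute c t ∧ c ∉ L ∧ c ∈ normalizer ((coreAt p t ⊓ L : Subgroup G) : Set G) := by
  haveI := Fact.mk hS.part.prime
  by_cases hTL : coreAt p t ≤ L
  · obtain ⟨c, hc, hcL⟩ := hS.exists_not_mem
    exact ⟨c, hc, hcL, by rw [inf_eq_left.2 hTL]; exact mem_normalizer_coreAt hc⟩
  · haveI := (isPGroup_coreAt p t).isNilpotent
    have hlt : (coreAt p t ⊓ L).subgroupOf (coreAt p t) < ⊤ := by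
      rw [lt_top_iff_ne_top, Ne, subgroupOf_eq_top]
      exact fun h => hTL (h.trans inf_le_right)
    obtain ⟨c, hc, hcn⟩ := SetLike.exists_of_lt (Group.normalizerCondition_of_isNilpotent _ hlt)
    refine ⟨c, commute_coreAt c.2, fun h => hcn (mem_subgroupOf.2 ⟨c.2, h⟩), ?_⟩
    rw [mem_normalizer_iff] at hc ⊢
    refine fun x => ⟨fun hx => ?_, fun hx => ?_⟩
    · exact mem_subgroupOf.1 ((hc ⟨x, hx.1⟩).1 (mem_subgroupOf.2 hx))
    · have hxT : x ∈ coreAt p t := by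
        have := mul_mem (mul_mem (inv_mem c.2) hx.1) c.2
        simpa [mul_assoc] using this
      exact mem_subgroupOf.1 ((hc ⟨x, hxT⟩).2 (mem_subgroupOf.2 hx))

/-- **`Y` is cyclic** -/
theorem isCyclic_fixAt : IsCyclic (fixAt p t v) := by
  obtain ⟨c, hc, hcL, hcn⟩ := hS.exists_move
  have hP := hS.part
  set B := (fixAt p t v).map (MulAut.conj c).toMonoidHom with hBdef
  have hle : B ≤ coreAt p t ⊓ L := by
    rintro _ ⟨x, hx, rfl⟩
    exact (mem_normalizer_iff.1 hcn x).1 ⟨(mem_fixAt.1 hx).1, hS.fixAt_le hx⟩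
  haveI : IsCyclic B := hS.isCyclic_of_disjoint hP.prime hP.odd (hle.trans inf_le_left) (hle.trans inf_le_right)
    fun x hx hxK => by
      by_contra hx1
      exact hcL (hS.mem_of_meet hc (hS.mem_fixAt_iff.2 ⟨(hle hx).1, hxK⟩) hx1 (CaseB.mem_conj.1 hx))
  exact ((fixAt p t v).equivMapOfInjective _ (MulAut.conj c).injective).isCyclic.2 ‹_›

theorem commute_fixAt {x y : G} (hx : x ∈ fixAt p t v) (hy : y ∈ fixAt p t v) : Commute x y := by
  haveI := hS.isCyclic_fixAt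
  exact congrArg Subtype.val (IsCyclic.commGroup.mul_comm (⟨x, hx⟩ : fixAt p t v) ⟨y, hy⟩)

/-- **`T ∩ L = C_T(Y)`** -/
theorem inf_L_eq : coreAt p t ⊓ L = coreAt p t ⊓ centralizer (fixAt p t v : Set G) := by
  haveI := Fact.mk hS.part.prime
  have hP := hS.part
  refine le_antisymm (fun a ha => ⟨ha.1, ?_⟩) (inf_le_inf_left _ hS.centralizer_le)
  obtain ⟨y, x, hy, hx, hyv, hxv, rfl⟩ := exists_fixed_mul_inverted (H := coreAt p t ⊓ L) hP.hv
    (CfsgLib.Coprime.inf_le_normalizer (A := zpowers v) (zpowers_le.2 (mem_normalizer_coreAt hP.hc.symm))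
      (zpowers_le.2 (le_normalizer hS.v_mem)) (mem_zpowers v)) ha
    (CaseB.odd_card_of_pGroup hP.odd ((isPGroup_coreAt p t).to_le inf_le_left))
  have hxC := hS.inverted_mem_cent hx.2 (orderOf_odd hP.odd (isPGroup_coreAt p t) hx.1) hxv
  exact mul_mem (mem_centralizer_iff.2 fun z hz => (hS.commute_fixAt hz (mem_fixAt.2 ⟨hy.1, hyv⟩)).eq)
    (Subgroup.centralizer_le hS.fixAt_le_ocN hxC)

/-- **`A = T ∩ L` is abelian** -/
theorem commute_inf_L {a b : G} (ha : a ∈ coreAt p t ⊓ L) (hb : b ∈ coreAt p t ⊓ L) : Commute a b := by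
  obtain ⟨T0, hT0, hmem⟩ := hS.exists_cyclic_image
  haveI := hT0
  let f : (coreAt p t ⊓ L : Subgroup G) →* T0 :=
    ((QuotientGroup.mk' (Cfsg.oddCore L)).comp (Subgroup.inclusion inf_le_right)).codRestrict T0
      fun x => hmem p hS.part.prime hS.part.odd x x.2.1 x.2.2
  haveI : IsCyclic f.range := inferInstance
  have hker : f.ker ≤ center _ := fun x hx => mem_center_iff.2 fun g => by
    have hx1 : QuotientGroup.mk' (Cfsg.oddCore L) ⟨x, x.2.2⟩ = 1 := congrArg Subtype.val hx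
    have hxY : (x : G) ∈ fixAt p t v :=
      hS.mem_fixAt_iff.2 ⟨x.2.1, ⟨⟨x, x.2.2⟩, (QuotientGroup.eq_one_iff _).1 hx1, rfl⟩⟩
    refine Subtype.ext ?_
    have hg : (g : G) ∈ coreAt p t ⊓ centralizer (fixAt p t v : Set G) := hS.inf_L_eq.le g.2
    exact (mem_centralizer_iff.1 hg.2 x hxY).symm
  exact congrArg Subtype.val (commutative_of_cyclic_center_quotient f hker ⟨a, ha⟩ ⟨b, hb⟩)

/-- the elements of `A` inverted by `v` -/
def invPart : Subgroup G where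
  carrier := {x | x ∈ coreAt p t ⊓ L ∧ v * x * v⁻¹ = x⁻¹}
  one_mem' := ⟨one_mem _, by group⟩
  mul_mem' := by
    rintro a b ⟨ha, ha'⟩ ⟨hb, hb'⟩
    refine ⟨mul_mem ha hb, ?_⟩
    rw [show v * (a * b) * v⁻¹ = (v * a * v⁻¹) * (v * b * v⁻¹) by group, ha', hb', ← _root_.mul_inv_rev,
      (hS.commute_inf_L hb ha).eq]
  inv_mem' := by
    rintro a ⟨ha, ha'⟩
    exact ⟨inv_mem ha, by rw [← conj_inv, ha']⟩

theorem mem_invPart {x : G} : x ∈ hS.invPart ↔ x ∈ coreAt p t ⊓ L ∧ v * x * v⁻¹ = x⁻¹ := Iff.rfl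

theorem invPart_le : hS.invPart ≤ coreAt p t ⊓ L := fun _ hx => hx.1

theorem disjoint_invPart {x : G} (hx : x ∈ hS.invPart) (hxK : x ∈ CaseB.ocN L) : x = 1 :=
  hS.eq_one_of_inverted_ocN hxK hx.2

theorem isCyclic_invPart : IsCyclic hS.invPart :=
  hS.isCyclic_of_disjoint hS.part.prime hS.part.odd (hS.invPart_le.trans inf_le_left)
    (hS.invPart_le.trans inf_le_right) fun _ => hS.disjoint_invPart

theorem exists_mul_invPart {a : G} (ha : a ∈ coreAt p t ⊓ L) :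
    ∃ y ∈ fixAt p t v, ∃ x ∈ hS.invPart, a = y * x := by
  haveI := Fact.mk hS.part.prime
  have hP := hS.part
  obtain ⟨y, x, hy, hx, hyv, hxv, rfl⟩ := exists_fixed_mul_inverted (H := coreAt p t ⊓ L) hP.hv
    (CfsgLib.Coprime.inf_le_normalizer (A := zpowers v) (zpowers_le.2 (mem_normalizer_coreAt hP.hc.symm))
      (zpowers_le.2 (le_normalizer hS.v_mem)) (mem_zpowers v)) ha
    (CaseB.odd_card_of_pGroup hP.odd ((isPGroup_coreAt p t).to_le inf_le_left))
  exact ⟨y, mem_fixAt.2 ⟨hy.1, hyv⟩, x, ⟨hx, hxv⟩, rfl⟩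

theorem sup_invPart : fixAt p t v ⊔ hS.invPart = coreAt p t ⊓ L := by
  refine le_antisymm (sup_le (le_inf inf_le_left hS.fixAt_le) hS.invPart_le) fun a ha => ?_
  obtain ⟨y, hy, x, hx, rfl⟩ := hS.exists_mul_invPart ha
  exact mul_mem_sup hy hx

/-- `v` inverts some element of `A` -/
theorem invPart_ne_bot : hS.invPart ≠ ⊥ := by
  haveI := Fact.mk hS.part.prime
  have hP := hS.part
  intro h
  obtain ⟨x, hx, hxv⟩ := hP.moved
  refine hxv (commute_of_pq (P := fixAt p t v) ((isPGroup_coreAt p t).to_le inf_le_left) (isPGroup_coreAt p t)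
    (orderOf_coprime_two hP.prime hP.odd hP.hv) (fun z hz => (mem_fixAt.1 hz).2)
    (inf_le_left.trans le_normalizer) (mem_normalizer_coreAt hP.hc.symm) (fun z hz hzY => ?_) x hx)
  have hza : z ∈ coreAt p t ⊓ L := hS.inf_L_eq ▸ ⟨hz, mem_centralizer_iff.2 fun w hw => (hzY w hw).eq.symm⟩
  obtain ⟨y, hy, w, hw, rfl⟩ := hS.exists_mul_invPart hza
  rw [h, mem_bot] at hw
  rw [hw, mul_one]
  exact (mem_fixAt.1 hy).2

end Setup

end CfsgLib.GW.CaseA
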