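import Cfsg.Agent.Lib.GW.Formula

/-!
# Arithmetic of the first case
-/

set_option autoImplicit false

namespace CfsgLib.GW.CaseA

open CfsgLib.GW

/-- **(7a) the index of the centraliser** -/
theorem index_eq {n c h : ℕ} {j : ℤ} (hh : 2 ≤ h) (hj : j ≠ 0)
    (hn : (n : ℚ) = 8 * (h : ℚ) ^ 2 * rho (1 + 4 * h * j) * (c : ℚ) ^ 2) :
    (n : ℤ) * j ^ 2 = (c : ℤ) ^ 2 * (1 + 4 * h * j) * (1 + 2 * h * j) ∧ j ∣ (c : ℤ) ∧
      32 * n ≤ 45 * 8 * h ^ 2 * c ^ 2 := by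
  have hjq : (j : ℚ) ≠ 0 := by exact_mod_cast hj
  have hhq : (h : ℚ) ≠ 0 := by exact_mod_cast (show h ≠ 0 by omega)
  rw [rho] at hn
  push_cast at hn
  rw [show (1 : ℚ) + 4 * h * j - 1 = 4 * h * j by ring] at hn
  field_simp at hn
  have hnQ : (n : ℚ) * (j : ℚ) ^ 2 = (c : ℚ) ^ 2 * (1 + 4 * h * j) * (1 + 2 * h * j) := by
    refine mul_left_cancel₀ (show (16 * (h : ℚ) ^ 2) ≠ 0 by positivity) ?_
    linear_combination (norm := ring_nf) (h : ℚ) ^ 2 * hn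
  have hnZ : (n : ℤ) * j ^ 2 = (c : ℤ) ^ 2 * (1 + 4 * h * j) * (1 + 2 * h * j) := by exact_mod_cast hnQ
  refine ⟨hnZ, ?_, ?_⟩
  · have h1 : IsCoprime (j ^ 2) ((1 + 4 * h * j) * (1 + 2 * h * j)) := by
      refine IsCoprime.pow_left (IsCoprime.mul_right ?_ ?_)
      · exact ⟨-(4 * h : ℤ), 1, by ring⟩
      · exact ⟨-(2 * h : ℤ), 1, by ring⟩
    refine (Int.pow_dvd_pow_iff two_ne_zero).1 (h1.dvd_of_dvd_mul_right ?_)
    exact ⟨n, by rw [← mul_assoc, ← hnZ, mul_comm]⟩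
  · have h2 : (2 : ℤ) ≤ h := by exact_mod_cast hh
    have h3 : (32 : ℤ) * ((1 + 4 * h * j) * (1 + 2 * h * j)) ≤ 45 * 8 * (h : ℤ) ^ 2 * j ^ 2 := by
      rcases lt_or_gt_of_ne hj with hneg | hpos
      · nlinarith [mul_le_mul_of_nonneg_left (show (2 : ℤ) ≤ h * (-j) by nlinarith) (show (0 : ℤ) ≤ h * (-j) by nlinarith)]
      · nlinarith [mul_le_mul_of_nonneg_left (show (2 : ℤ) ≤ h * j by nlinarith) (show (0 : ℤ) ≤ h * j by nlinarith)]
    have h4 : (32 : ℤ) * n * j ^ 2 ≤ 45 * 8 * (h : ℤ) ^ 2 * (c : ℤ) ^ 2 * j ^ 2 := by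
      rw [mul_assoc, hnZ]
      nlinarith [mul_le_mul_of_nonneg_left h3 (sq_nonneg (c : ℤ))]
    exact_mod_cast le_of_mul_le_mul_right h4 (by positivity)

/-- **(7b) the count of the first configuration** -/
theorem alpha {n nL k p b h : ℕ} {ε r a : ℤ} (hk : 3 ≤ k) (hkp : k ≤ p) (hpb : p ∣ b) (hb : b ≠ 0) (hh : 2 ≤ h)
    (hε : ε = 1 ∨ ε = -1) (hr : r = 4 * h * b + ε) (ha : a = 2 * h * b + ε)
    (hn : 32 * n ≤ 45 * 8 * h ^ 2 * (k * b) ^ 2) (hle : ((k : ℤ) - 1) * r * a ≤ (nL : ℤ) - 1)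
    (heq : (nL : ℤ) * r * a = (n : ℤ) * k) : False := by
  have hkb : k ≤ b := hkp.trans (Nat.le_of_dvd (Nat.pos_of_ne_zero hb) hpb)
  have hk' : (3 : ℤ) ≤ k := by exact_mod_cast hk
  have hh' : (2 : ℤ) ≤ h := by exact_mod_cast hh
  have hkb' : (k : ℤ) ≤ b := by exact_mod_cast hkb
  have hn' : 32 * (n : ℤ) ≤ 45 * 8 * (h : ℤ) ^ 2 * ((k : ℤ) * b) ^ 2 := by exact_mod_cast hn
  set P : ℤ := h * b with hP
  have hP6 : (6 : ℤ) ≤ P := by nlinarith
  have hra : 4 * P ^ 2 ≤ r * a := by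
    rw [hr, ha]
    rcases hε with rfl | rfl <;> nlinarith
  have h1 : ((k : ℤ) - 1) * (4 * P ^ 2) ^ 2 ≤ (n : ℤ) * k := by
    have h0 : (0 : ℤ) ≤ 4 * P ^ 2 := by positivity
    calc ((k : ℤ) - 1) * (4 * P ^ 2) ^ 2 ≤ ((k : ℤ) - 1) * (r * a) ^ 2 :=
          mul_le_mul_of_nonneg_left (pow_le_pow_left₀ h0 hra 2) (by linarith)
      _ = ((k : ℤ) - 1) * r * a * (r * a) := by ring
      _ ≤ (nL : ℤ) * (r * a) := mul_le_mul_of_nonneg_right (by linarith) (h0.trans hra)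
      _ = (n : ℤ) * k := by rw [← mul_assoc, heq]
  have h2 : ((k : ℤ) - 1) * 512 * P ^ 2 * P ^ 2 ≤ 360 * k ^ 3 * P ^ 2 := by
    have h6 := mul_le_mul_of_nonneg_right hn' (Int.natCast_nonneg k)
    rw [hP] at h1 ⊢
    linarith
  have h3 := le_of_mul_le_mul_right h2 (by positivity)
  have h4 : (k : ℤ) ^ 3 ≤ k * (b : ℤ) ^ 2 := by nlinarith [mul_le_mul hkb' hkb' (by linarith) (by linarith)]
  have h5 : 4 * (b : ℤ) ^ 2 ≤ P ^ 2 := by
    rw [hP, mul_pow]; exact mul_le_mul_of_nonneg_right (by nlinarith) (sq_nonneg _)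
  have h7 : ((k : ℤ) - 1) * 512 * (4 * (b : ℤ) ^ 2) ≤ 360 * (k * (b : ℤ) ^ 2) :=
    ((mul_le_mul_of_nonneg_left h5 (by linarith)).trans h3).trans (by linarith)
  have h8 : (1688 * (k : ℤ) - 2048) * (b : ℤ) ^ 2 ≤ 0 := by linarith
  nlinarith [show (0 : ℤ) < (b : ℤ) ^ 2 by positivity]

/-- **(7c) the congruence of the second configuration** -/
theorem beta {p R k b h r : ℕ} {ε η : ℤ} (hp : p.Prime) (hp2 : p ≠ 2) (hR : Odd R) (hRp : R ≤ p) (hk : k = p * R)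
    (hpb : p ∣ b) (hb : Odd b) (hh : 2 ≤ h) (hε : ε = 1 ∨ ε = -1) (hη : η = 1 ∨ η = -1)
    (hr : (r : ℤ) = 4 * h * b + ε) (hrp : IsPrimePow r)
    (hd : (r : ℤ) ∣ (k : ℤ) * (η + 4 * h * k * b) * (η + 2 * h * k * b)) : False := by
  obtain ⟨s, m, hs, hm, rfl⟩ := hrp
  rw [← Nat.prime_iff] at hs
  have hsZ : Prime (s : ℤ) := Nat.prime_iff_prime_int.1 hs
  have hp3 : 3 ≤ p := by have := hp.two_le; omega
  have hbp : p ≤ b := Nat.le_of_dvd hb.pos hpb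
  have hh' : (2 : ℤ) ≤ h := by exact_mod_cast hh
  have hp' : (3 : ℤ) ≤ p := by exact_mod_cast hp3
  have hbp' : (p : ℤ) ≤ b := by exact_mod_cast hbp
  push_cast at hr hd
  set r : ℤ := (s : ℤ) ^ m with hrdef
  have hr8 : 8 * (p : ℤ) - 1 ≤ r := by rw [hr]; rcases hε with rfl | rfl <;> nlinarith
  have hs2 : (s : ℤ) ≠ 2 := fun e => by
    have h2r : (2 : ℤ) ∣ r := e ▸ dvd_pow_self _ hm.ne'
    rw [hr, show (4 : ℤ) * h * b = 4 * ((h : ℤ) * b) by ring] at h2r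
    generalize (h : ℤ) * b = N at h2r
    rcases hε with rfl | rfl <;> omega
  -- modulo `r`
  obtain ⟨x, hx⟩ : ∃ x : ℤ, x = k * ε * η := ⟨_, rfl⟩
  have hε1 : ε * ε = 1 := by rcases hε with rfl | rfl <;> norm_num
  have hη1 : η * η = 1 := by rcases hη with rfl | rfl <;> norm_num
  have hd' : r ∣ (k : ℤ) * ((x - 1) * (x - 2)) := by
    obtain ⟨q, hq⟩ := hd
    refine ⟨2 * q - (k : ℤ) * (r * k ^ 2 + 3 * η * k - 2 * ε * k ^ 2), ?_⟩
    have h1 : (k : ℤ) * (η + 4 * h * k * b) * (2 * η + 4 * h * k * b) = r * (2 * q) := by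
      rw [mul_left_comm r, ← hq]; ring
    have e1 : (4 : ℤ) * h * b = r - ε := by rw [hr]; ring
    have h2 : (k : ℤ) * (η + k * (r - ε)) * (2 * η + k * (r - ε)) = r * (2 * q) := by rw [← e1, ← h1]; ring
    rw [hx]
    linear_combination h2 + (k : ℤ) ^ 3 * η ^ 2 * hε1 + (k : ℤ) ^ 3 * hη1 - (k : ℤ) ^ 3 * hε1 +
      (-2 * (k : ℤ)) * hη1
  have hrk : IsCoprime r (k : ℤ) := by
    refine IsCoprime.pow_left (hsZ.coprime_iff_not_dvd.2 fun hsk => ?_)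
    have hsx : (s : ℤ) ∣ x := hx ▸ (hsk.mul_right _).mul_right _
    have hc : ∀ i : ℤ, i = 1 ∨ i = 2 → IsCoprime r (x - i) := fun i hi => by
      refine IsCoprime.pow_left (hsZ.coprime_iff_not_dvd.2 fun hsi => ?_)
      have h' : (s : ℤ) ∣ i := by have := dvd_sub hsx hsi; rwa [sub_sub_cancel] at this
      have h'' : s ∣ i.natAbs := Int.natCast_dvd.1 h'
      have h2' := hs.two_le
      rcases hi with rfl | rfl <;> have := Nat.le_of_dvd (by decide) h'' <;> simp at this <;> omega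
    have hrk' : r ∣ (k : ℤ) := (IsCoprime.mul_right (hc 1 (Or.inl rfl)) (hc 2 (Or.inr rfl))).dvd_of_dvd_mul_right hd'
    rw [hk, Nat.cast_mul] at hrk'
    have hrp' : IsCoprime r (p : ℤ) := by
      refine ((Nat.prime_iff_prime_int.1 hp).coprime_iff_not_dvd.2 fun hpr => ?_).symm
      have hp4 : (p : ℤ) ∣ 4 * h * b := (Int.natCast_dvd_natCast.2 hpb).mul_left _
      have h' : (p : ℤ) ∣ ε := by have := dvd_sub hpr hp4; rwa [hr, add_sub_cancel_left] at this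
      have h'' := Int.natCast_dvd.1 h'
      rcases hε with rfl | rfl <;> simp at h'' <;> omega
    have hRd := Int.le_of_dvd (by exact_mod_cast hR.pos) (hrp'.dvd_of_dvd_mul_left hrk')
    have hRp' : (R : ℤ) ≤ p := by exact_mod_cast hRp
    linarith
  obtain ⟨i, hi, hri⟩ : ∃ i : ℤ, (i = 1 ∨ i = 2) ∧ r ∣ x - i := by
    have h12 := hrk.dvd_of_dvd_mul_left hd'
    by_cases hs1 : (s : ℤ) ∣ x - 1
    · refine ⟨1, Or.inl rfl, (IsCoprime.pow_left (hsZ.coprime_iff_not_dvd.2 fun hsi => ?_)).dvd_of_dvd_mul_right h12⟩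
      have h' : (s : ℤ) ∣ 1 := by have := dvd_sub hs1 hsi; rwa [show x - 1 - (x - 2) = 1 by ring] at this
      exact hsZ.not_unit (isUnit_of_dvd_one h')
    · exact ⟨2, Or.inr rfl, (IsCoprime.pow_left (hsZ.coprime_iff_not_dvd.2 hs1)).dvd_of_dvd_mul_left h12⟩
  obtain ⟨Q, hQ⟩ := hri
  have hQb : |Q| ≤ (p : ℤ) - 3 ∨ (p : ℤ) = 3 ∧ |Q| ≤ 0 := by
    left
    by_contra hQ2
    push Not at hQ2
    have h1 : |x - i| ≤ (p : ℤ) * p + 2 := by
      have hxk : |x| = (k : ℤ) := by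
        rw [hx, abs_mul, abs_mul, Nat.abs_cast]
        rcases hε with rfl | rfl <;> rcases hη with rfl | rfl <;> simp
      have hk' : (k : ℤ) ≤ (p : ℤ) * p := by
        rw [hk, Nat.cast_mul]
        exact mul_le_mul_of_nonneg_left (by exact_mod_cast hRp) (by positivity)
      have := abs_sub x i
      rcases hi with rfl | rfl <;> norm_num at this <;> linarith
    rw [hQ, abs_mul, abs_of_nonneg (by linarith : (0 : ℤ) ≤ r)] at h1
    nlinarith [mul_le_mul_of_nonneg_right hr8 (abs_nonneg Q)]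
  have hQv : Q + i * ε = 0 := by
    refine Int.eq_zero_of_abs_lt_dvd (m := (p : ℤ)) ?_ ?_
    · have hpk : (p : ℤ) ∣ x := hx ▸ ((Int.natCast_dvd_natCast.2 (hk ▸ dvd_mul_right p R)).mul_right _).mul_right _
      have hp4 : (p : ℤ) ∣ 4 * h * b := (Int.natCast_dvd_natCast.2 hpb).mul_left _
      have h1 : Q + i * ε = ε * (x - 4 * h * b * Q) := by
        rw [hr] at hQ
        linear_combination (-ε) * hQ + (-Q) * hε1
      exact h1 ▸ (dvd_sub hpk (hp4.mul_right Q)).mul_left ε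
    · have := abs_add_le Q (i * ε)
      have hi2 : |i * ε| ≤ 2 := by rcases hi with rfl | rfl <;> rcases hε with rfl | rfl <;> norm_num
      rcases hQb with h | ⟨h3, h⟩ <;> linarith
  have hQe : Q = -(i * ε) := eq_neg_of_add_eq_zero_left hQv
  have hxe : x = -(4 * i * ε * h * b) := by
    rw [hr, hQe] at hQ
    linear_combination hQ - i * hε1
  have hxodd : Odd x := by
    rw [hx]
    refine (Odd.mul ?_ ?_).mul ?_
    · exact_mod_cast hk ▸ (hp.odd_of_ne_two hp2).mul hR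
    · rcases hε with rfl | rfl <;> decide
    · rcases hη with rfl | rfl <;> decide
  exact Int.not_even_iff_odd.2 hxodd ⟨-(2 * i * ε * h * b), by rw [hxe]; ring⟩

end CfsgLib.GW.CaseA
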