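import Cfsg.Agent.Lib.GW.Setting
import Cfsg.Agent.Lib.Coprime.BenderUniqueness

/-!
# Case A of the Gorenstein-Walter theorem: every involution centraliser is maximal

The standing hypothesis `CaseA` and the dichotomy on the action of the other involutions of `C(t)` on the
`O_p(C(t))`.
-/

set_option autoImplicit false
set_option linter.unusedSectionVars false

open Subgroup

namespace CfsgLib.GW

universe u

variable {G : Type u} [Group G] [Finite G]

/-- case A at the involution `t`: all involution centralisers are maximal -/
structure CaseA (t : G) : Prop where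
  min : Min G
  invol : orderOf t = 2
  maximal : ∀ u : G, orderOf u = 2 → IsCoatom (centralizer ({u} : Set G))

/-- `O_p(C(t))` in `G` -/
noncomputable abbrev coreAt (p : ℕ) (t : G) : Subgroup G :=
  CfsgLib.Coprime.BenderPair.opc p (centralizer ({t} : Set G))

/-- every involution of `C(t)` centralises each `O_p(C(t))` or acts fixed point freely on it -/
def Degenerate (t : G) : Prop :=
  ∀ p : ℕ, p.Prime → p ≠ 2 → ∀ a : G, orderOf a = 2 → a ≠ t → Commute a t →
    (∀ x ∈ coreAt p t, Commute x a) ∨ ∀ x ∈ coreAt p t, Commute x a → x = 1

/-- every involution of `C(t)` other than `t` inverts each `O_p(C(t))` -/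
def AllInverted (t : G) : Prop :=
  ∀ p : ℕ, p.Prime → p ≠ 2 → ∀ a : G, orderOf a = 2 → a ≠ t → Commute a t →
    ∀ x ∈ coreAt p t, a * x * a⁻¹ = x⁻¹

end CfsgLib.GW
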