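import Cfsg.Agent.Lib.GW.CaseA.Cores
import Cfsg.Agent.Lib.Coprime.Fitting

/-!
# Case A, an involution acting partially: `T` with an abelian normal complement to `Y`

When `T = B Y` with `B` abelian, normal in `C(t)` and inverted by `v`, the subgroup `F` generated by `B` and the
other `O_q(C(t))` is abelian, inverted by `v` and self-centralising in `O`, and `O = F C_O(v)`.
-/

set_option autoImplicit false
set_option linter.style.haveILetI false
set_option linter.unusedSectionVars false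

open Subgroup
open scoped Pointwise
open CfsgLib.Coprime.BenderPair CfsgLib.Coprime.BenderUniqueness

namespace CfsgLib.GW.CaseA

universe u

variable {G : Type u} [Group G] [Finite G]

/-- `T = B Y` with `B` abelian normal in `C(t)` and inverted by `v`, and `T` not in `L` -/
structure Big (t v : G) (p : ℕ) (L B : Subgroup G) : Prop where
  setup : Setup t v p L
  le : B ≤ coreAt p t
  norm : centralizer ({t} : Set G) ≤ normalizer (B : Set G)
  comm : ∀ x ∈ B, ∀ y ∈ B, Commute x y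
  disj : B ⊓ fixAt p t v = ⊥
  sup : B ⊔ fixAt p t v = coreAt p t
  inv : ∀ x ∈ B, v * x * v⁻¹ = x⁻¹
  cent : coreAt p t ⊓ centralizer (B : Set G) ≤ B
  not_le : ¬ coreAt p t ≤ L

/-- `B` with the `O_q(C(t))`, `q ≠ p` -/
noncomputable def bigF (p : ℕ) (t : G) (B : Subgroup G) : Subgroup G :=
  B ⊔ ⨆ (q : ℕ) (_ : q.Prime ∧ q ≠ 2 ∧ q ≠ p), coreAt q t

theorem le_bigF (p : ℕ) (t : G) (B : Subgroup G) : B ≤ bigF p t B := le_sup_left

theorem core_le_bigF {p q : ℕ} {t : G} {B : Subgroup G} (hq : q.Prime) (hq2 : q ≠ 2) (hqp : q ≠ p) :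
    coreAt q t ≤ bigF p t B :=
  le_sup_of_le_right (le_iSup₂ (f := fun (q : ℕ) (_ : q.Prime ∧ q ≠ 2 ∧ q ≠ p) => coreAt q t) q ⟨hq, hq2, hqp⟩)

theorem bigF_le {p : ℕ} {t : G} {B X : Subgroup G} (hB : B ≤ X)
    (h : ∀ q : ℕ, q.Prime → q ≠ 2 → q ≠ p → coreAt q t ≤ X) : bigF p t B ≤ X :=
  sup_le hB (iSup₂_le fun q hq => h q hq.1 hq.2.1 hq.2.2)

namespace Big

variable {t v : G} {p : ℕ} {L B : Subgroup G} (hB : Big t v p L B)
include hB

/-- the other primes have no fixed points of `v` -/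
theorem inverted_core {q : ℕ} (hq : q.Prime) (hq2 : q ≠ 2) (hqp : q ≠ p) {x : G} (hx : x ∈ coreAt q t) :
    v * x * v⁻¹ = x⁻¹ := by
  haveI := Fact.mk hq
  haveI := Fact.mk hB.setup.part.prime
  have hP := hB.setup.part
  have hfix : fixAt q t v = ⊥ := by
    by_contra hne
    have hS' := hB.setup.setup_other hq hq2 hqp hne
    exact hB.not_le fun y hy => hS'.centralizer_le (mem_centralizer_iff.2 fun w hw =>
      (commute_opc hqp hy (mem_fixAt.1 hw).1).eq.symm)
  obtain ⟨y, k, hy, -, hyv, hkv, rfl⟩ := exists_fixed_mul_inverted hP.hv (mem_normalizer_coreAt hP.hc.symm) hx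
    (CaseB.odd_card_of_pGroup hq2 (isPGroup_coreAt q t))
  have hy1 : y = 1 := mem_bot.1 (hfix ▸ (mem_fixAt.2 ⟨hy, hyv⟩ : y ∈ fixAt q t v))
  rw [hy1, one_mul]
  exact hkv

theorem comm_F {x y : G} (hx : x ∈ bigF p t B) (hy : y ∈ bigF p t B) : Commute x y := by
  haveI := Fact.mk hB.setup.part.prime
  suffices h : bigF p t B ≤ centralizer (bigF p t B : Set G) from (mem_centralizer_iff.1 (h hx) y hy).symm
  have hgen : ∀ (X : Subgroup G), (∀ a ∈ X, ∀ b ∈ B, Commute a b) →
      (∀ a ∈ X, ∀ r : ℕ, r.Prime → r ≠ 2 → r ≠ p → ∀ b ∈ coreAt r t, Commute a b) →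
      X ≤ centralizer (bigF p t B : Set G) := fun X h1 h2 => by
    rw [le_centralizer_iff]
    exact bigF_le (fun b hb => mem_centralizer_iff.2 fun a ha => (h1 a ha b hb).eq)
      fun r hr hr2 hrp b hb => mem_centralizer_iff.2 fun a ha => (h2 a ha r hr hr2 hrp b hb).eq
  refine bigF_le (hgen B hB.comm fun a ha r hr _ hrp b hb => ?_) fun q hq hq2 hqp => hgen _ (fun a ha b hb => ?_)
    fun a ha r hr hr2 hrp b hb => ?_
  · haveI := Fact.mk hr
    exact commute_opc hrp (hB.le ha) hb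
  · haveI := Fact.mk hq
    exact commute_opc hqp.symm ha (hB.le hb)
  · haveI := Fact.mk hq
    haveI := Fact.mk hr
    rcases eq_or_ne q r with rfl | hqr
    · -- inverted by `v`, hence abelian
      have hab := hB.inverted_core hq hq2 hqp (mul_mem ha hb)
      rw [show v * (a * b) * v⁻¹ = (v * a * v⁻¹) * (v * b * v⁻¹) by group, hB.inverted_core hq hq2 hqp ha,
        hB.inverted_core hq hq2 hqp hb, ← _root_.mul_inv_rev, inv_inj] at hab
      exact hab.symm
    · exact commute_opc (Ne.symm hqr) ha hb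

theorem inv_F {x : G} (hx : x ∈ bigF p t B) : v * x * v⁻¹ = x⁻¹ := by
  let X : Subgroup G :=
    { carrier := {x | x ∈ bigF p t B ∧ v * x * v⁻¹ = x⁻¹}
      one_mem' := ⟨one_mem _, by group⟩
      mul_mem' := by
        rintro a b ⟨ha, ha'⟩ ⟨hb, hb'⟩
        refine ⟨mul_mem ha hb, ?_⟩
        rw [show v * (a * b) * v⁻¹ = (v * a * v⁻¹) * (v * b * v⁻¹) by group, ha', hb', ← _root_.mul_inv_rev,
          (hB.comm_F hb ha).eq]
      inv_mem' := by
        rintro a ⟨ha, ha'⟩
        exact ⟨inv_mem ha, by rw [← conj_inv, ha']⟩ }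
  exact ((bigF_le (X := X) (fun a ha => ⟨le_bigF p t B ha, hB.inv a ha⟩)
    fun q hq hq2 hqp a ha => ⟨core_le_bigF hq hq2 hqp ha, hB.inverted_core hq hq2 hqp ha⟩) hx).2

theorem F_le_ocore : bigF p t B ≤ Ocore t := by
  haveI := Fact.mk hB.setup.part.prime
  refine bigF_le (hB.le.trans (coreAt_le_ocore hB.setup.part.odd t)) fun q hq hq2 _ => ?_
  haveI := Fact.mk hq
  exact coreAt_le_ocore hq2 t

theorem norm_F : centralizer ({t} : Set G) ≤ normalizer (bigF p t B : Set G) := by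
  have key : ∀ g ∈ centralizer ({t} : Set G), ∀ x ∈ bigF p t B, g * x * g⁻¹ ∈ bigF p t B := by
    intro g hg
    have hgt : Commute g t := mem_centralizer_singleton_iff.1 hg
    exact fun x hx => (bigF_le (X := (bigF p t B).comap (MulAut.conj g).toMonoidHom)
      (fun a ha => le_bigF p t B ((mem_normalizer_iff.1 (hB.norm hg) a).1 ha))
      fun q hq hq2 hqp a ha => core_le_bigF hq hq2 hqp
        ((mem_normalizer_iff.1 (mem_normalizer_coreAt hgt) a).1 ha)) hx
  intro g hg
  refine mem_normalizer_iff.2 fun x => ⟨key g hg x, fun h => ?_⟩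
  have := key g⁻¹ (inv_mem hg) _ h
  simpa [mul_assoc] using this

/-- **`F` is self-centralising in `O`** -/
theorem selfCent : Ocore t ⊓ centralizer (bigF p t B : Set G) ≤ bigF p t B := by
  haveI := Fact.mk hB.setup.part.prime
  have hP := hB.setup.part
  set F := bigF p t B with hF
  set C := Ocore t ⊓ centralizer (F : Set G) with hC
  set Y := fixAt p t v with hY
  have hYN : Y ≤ normalizer (F : Set G) := fun y hy =>
    hB.norm_F (coreAt_le p t (mem_fixAt.1 hy).1)
  -- an element of `F Y` centralising `F` lies in `F`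
  have hfit : fit (Ocore t) ⊓ centralizer (F : Set G) ≤ F := by
    rintro f ⟨hf, hfc⟩
    have hle : fit (Ocore t) ≤ F ⊔ Y := fit_ocore_le fun q hq hq2 => by
      rcases eq_or_ne q p with rfl | hqp
      · exact hB.sup.ge.trans (sup_le_sup_right (le_bigF q t B) _)
      · exact (core_le_bigF hq hq2 hqp).trans le_sup_left
    have hmem : f ∈ (F : Set G) * (Y : Set G) := by
      rw [← coe_mul_of_right_le_normalizer_left F Y hYN]
      exact hle hf
    obtain ⟨a, ha, y, hy, rfl⟩ := hmem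
    have hyB : y ∈ coreAt p t ⊓ centralizer (B : Set G) := by
      refine ⟨(mem_fixAt.1 hy).1, mem_centralizer_iff.2 fun b hb => ?_⟩
      have h1 : b * (a * y) = a * y * b := mem_centralizer_iff.1 hfc b (le_bigF p t B hb)
      have h2 := (hB.comm_F ha (le_bigF p t B hb)).eq
      rw [← mul_assoc, ← h2, mul_assoc, mul_assoc] at h1
      exact mul_left_cancel h1
    have hy1 : y = 1 := mem_bot.1 (hB.disj ▸ mem_inf.2 ⟨hB.cent hyB, hy⟩)
    rw [hy1]
    simpa using ha
  have hCN : centralizer ({t} : Set G) ≤ normalizer (C : Set G) :=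
    (le_inf (centralizer_le_normalizer_ocore t)
      (hB.norm_F.trans (CfsgLib.Coprime.normalizer_le_normalizer_centralizer _))).trans
      fun g hg => CfsgLib.Coprime.inf_le_normalizer (A := zpowers g) (zpowers_le.2 hg.1) (zpowers_le.2 hg.2)
        (mem_zpowers g)
  -- elements of `C` act on `T` as transvections over `B`
  have htrans : ∀ c ∈ C, ∀ y ∈ Y, c * y * c⁻¹ * y⁻¹ ∈ B := by
    intro c hc y hy
    refine hB.cent ⟨mul_mem ((mem_normalizer_iff.1 (mem_normalizer_coreAt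
      (mem_centralizer_singleton_iff.1 (ocore_le t hc.1))) y).1 (mem_fixAt.1 hy).1) ((coreAt p t).inv_mem (mem_fixAt.1 hy).1), ?_⟩
    have h1 : y * c⁻¹ * y⁻¹ ∈ C := (mem_normalizer_iff.1 (hCN (coreAt_le p t (mem_fixAt.1 hy).1)) _).1 (inv_mem hc)
    have h2 := mul_mem hc.2 h1.2
    rw [show c * (y * c⁻¹ * y⁻¹) = c * y * c⁻¹ * y⁻¹ by group] at h2
    exact Subgroup.centralizer_le (le_bigF p t B) h2
  have hcomm : ∀ c ∈ C, ∀ d ∈ C, (d * c)⁻¹ * (c * d) ∈ F := by
    intro c hc d hd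
    set z := (d * c)⁻¹ * (c * d)
    have hzC : z ∈ C := mul_mem (inv_mem (mul_mem hd hc)) (mul_mem hc hd)
    refine hfit ⟨?_, hzC.2⟩
    refine CaseB.mem_fit_ocN (M := centralizer ({t} : Set G)) hzC.1 fun f hf => ?_
    have hle : fit (Ocore t) ≤ centralizer ({z} : Set G) := by
      refine fit_ocore_le fun q hq hq2 => ?_
      have hFz : F ≤ centralizer ({z} : Set G) := fun a ha =>
        mem_centralizer_singleton_iff.2 (mem_centralizer_iff.1 hzC.2 a ha)
      rcases eq_or_ne q p with rfl | hqp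
      · refine hB.sup.ge.trans (sup_le ((le_bigF q t B).trans hFz) fun y hy => mem_centralizer_singleton_iff.2 ?_)
        have h1 := htrans c hc y hy
        have h2 := htrans d hd y hy
        set b1 := c * y * c⁻¹ * y⁻¹ with hb1
        set b2 := d * y * d⁻¹ * y⁻¹ with hb2
        have hc2 : c * b2 = b2 * c := (mem_centralizer_iff.1 hc.2 b2 (le_bigF q t B h2)).symm
        have hd1 : d * b1 = b1 * d := (mem_centralizer_iff.1 hd.2 b1 (le_bigF q t B h1)).symm
        have e1 : c * d * y * (c * d)⁻¹ = b2 * b1 * y := by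
          calc c * d * y * (c * d)⁻¹ = (c * b2) * y * c⁻¹ := by rw [hb2]; group
            _ = b2 * b1 * y := by rw [hc2, hb1]; group
        have e2 : d * c * y * (d * c)⁻¹ = b1 * b2 * y := by
          calc d * c * y * (d * c)⁻¹ = (d * b1) * y * d⁻¹ := by rw [hb1]; group
            _ = b1 * b2 * y := by rw [hd1, hb2]; group
        rw [(hB.comm b1 h1 b2 h2).eq, ← e1] at e2
        show y * ((d * c)⁻¹ * (c * d)) = (d * c)⁻¹ * (c * d) * y
        calc y * ((d * c)⁻¹ * (c * d)) = (d * c)⁻¹ * (d * c * y * (d * c)⁻¹) * (c * d) := by group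
          _ = (d * c)⁻¹ * (c * d * y * (c * d)⁻¹) * (c * d) := by rw [e2]
          _ = (d * c)⁻¹ * (c * d) * y := by group
      · exact (core_le_bigF hq hq2 hqp).trans hFz
    exact mem_centralizer_singleton_iff.1 (hle hf)
  -- `C` is nilpotent, so it lies in `F(O)`
  have hnil : Group.IsNilpotent C := by
    haveI : IsMulCommutative (C ⧸ center C) := ⟨⟨fun a b => by
      obtain ⟨c, rfl⟩ := QuotientGroup.mk'_surjective _ a
      obtain ⟨d, rfl⟩ := QuotientGroup.mk'_surjective _ b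
      rw [← map_mul, ← map_mul, QuotientGroup.mk'_eq_mk']
      refine ⟨(c * d)⁻¹ * (d * c), mem_center_iff.2 fun g => Subtype.ext ?_, mul_inv_cancel_left _ _⟩
      have hz := hcomm (d : G) d.2 (c : G) c.2
      exact mem_centralizer_iff.1 g.2.2 _ hz |>.symm⟩⟩
    letI : CommGroup (C ⧸ center C) :=
      { (inferInstance : Group (C ⧸ center C)) with mul_comm := fun a b => mul_comm' a b }
    exact Group.of_quotient_center_nilpotent inferInstance
  intro c hc
  have hCO : C ≤ Ocore t := inf_le_left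
  haveI : (C.subgroupOf (Ocore t)).Normal :=
    (normal_subgroupOf_iff_le_normalizer hCO).2 ((ocore_le t).trans hCN)
  haveI := hnil
  have hnil' : Group.IsNilpotent (C.subgroupOf (Ocore t)) :=
    (Group.isNilpotent_congr (subgroupOfEquivOfLe hCO).symm).1 hnil
  refine hfit ⟨⟨⟨c, hc.1⟩, CfsgLib.Coprime.le_fitting hnil' (mem_subgroupOf.2 hc), rfl⟩, hc.2⟩

/-- **`O = F C_O(v)`** -/
theorem exists_factor_F {x : G} (hx : x ∈ Ocore t) :
    ∃ d a : G, d ∈ Ocore t ∧ Commute d v ∧ a ∈ bigF p t B ∧ x = d * a := by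
  have hP := hB.setup.part
  obtain ⟨d, a, hd, ha, hdv, hav, rfl⟩ := exists_fixed_mul_inverted hP.hv
    (centralizer_le_normalizer_ocore t (mem_centralizer_singleton_iff.2 hP.hc.symm.eq)) hx (odd_ocore t)
  refine ⟨d, a, hd, hdv, mem_of_sq_mem (CaseB.orderOf_odd_of_mem (odd_ocore t) ha) (hB.selfCent
    ⟨pow_mem ha 2, mem_centralizer_iff.2 fun f hf => ?_⟩), rfl⟩
  have h1 : v * f * v⁻¹ = f⁻¹ := hB.inv_F hf
  have h2 : a * v * a⁻¹ * f * (a * v * a⁻¹)⁻¹ = f⁻¹ := by
    have hf' : a⁻¹ * f * a ∈ bigF p t B :=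
      (mem_normalizer_iff''.1 (hB.norm_F (ocore_le t ha)) f).1 hf
    calc a * v * a⁻¹ * f * (a * v * a⁻¹)⁻¹ = a * (v * (a⁻¹ * f * a) * v⁻¹) * a⁻¹ := by group
      _ = f⁻¹ := by rw [hB.inv_F hf']; group
  have h4 : a * v * a⁻¹ * v * f * (a * v * a⁻¹ * v)⁻¹ = f := by
    calc a * v * a⁻¹ * v * f * (a * v * a⁻¹ * v)⁻¹ = a * v * a⁻¹ * (v * f * v⁻¹) * (a * v * a⁻¹)⁻¹ := by group
      _ = (a * v * a⁻¹ * f * (a * v * a⁻¹)⁻¹)⁻¹ := by rw [h1]; group
      _ = f := by rw [h2, inv_inv]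
  rw [conj_mul_self_of_inverted hP.hv hav] at h4
  exact ((mul_inv_eq_iff_eq_mul.1 h4)).symm

/-- `O = B (O ∩ L)` -/
theorem exists_factor_B {x : G} (hx : x ∈ Ocore t) : ∃ b d : G, b ∈ B ∧ d ∈ Ocore t ⊓ L ∧ x = b * d := by
  haveI := Fact.mk hB.setup.part.prime
  obtain ⟨d, a, hd, hdv, ha, rfl⟩ := hB.exists_factor_F hx
  have hdL : d ∈ Ocore t ⊓ L := ⟨hd, hB.setup.ocore_cent_le ⟨hd, mem_centralizer_singleton_iff.2 hdv.eq⟩⟩
  set K := Ocore t ⊓ L
  have hKN : K ≤ normalizer (B : Set G) := inf_le_left.trans ((ocore_le t).trans hB.norm)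
  have hle : bigF p t B ≤ B ⊔ K := bigF_le le_sup_left fun q hq hq2 hqp => by
    haveI := Fact.mk hq
    exact (le_inf (coreAt_le_ocore hq2 t) (hB.setup.core_le hq hq2 hqp)).trans le_sup_right
  have h : d * a ∈ B ⊔ K := mul_mem (mem_sup_right hdL) (hle ha)
  rw [← SetLike.mem_coe, coe_mul_of_right_le_normalizer_left B K hKN] at h
  obtain ⟨b, hb, k, hk, hbk⟩ := h
  exact ⟨b, k, hb, hk, hbk.symm⟩

end Big

end CfsgLib.GW.CaseA
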