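import Cfsg.Agent.Lib.GW.CaseA.Counts

/-!
# Case A, an involution acting partially: the contradiction

The three shapes of `T`: if `A = T ∩ L` is normal the incidence count is too large, in the middle shape the index
of `C(t)` violates a congruence, and in the big shape `F` is abelian and inverted, so case II applies.
-/

set_option autoImplicit false
set_option linter.style.haveILetI false
set_option linter.unusedSectionVars false

open Subgroup

namespace CfsgLib.GW.CaseA

universe u

variable {G : Type u} [Group G] [Finite G]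

/-- **case A I**: no involution acts partially, given case II -/
theorem false_of_partial {t v : G} {p : ℕ} (hP : Partial t v p) (h8 : 8 ∣ Nat.card G)
    (hII : ∀ F : Subgroup G, Inverted.Hyp t F →
      (∃ a x, orderOf a = 2 ∧ a ≠ t ∧ Commute a t ∧ x ∈ Ocore t ∧ x ≠ 1 ∧ Commute x a) → False) : False := by
  classical
  obtain ⟨L, hS⟩ := hP.exists_setup
  haveI := Fact.mk hP.prime
  have hG := hP.hA.min
  have ht := hP.hA.invol
  have hp := hP.prime
  set C := centralizer ({t} : Set G) with hCdef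
  set k := (centL t L).relIndex C with hk
  set b := fixIndex t v L with hb
  obtain ⟨P, σ, τ, h', D, hσ, -⟩ := hG.exists_frame h8 ht
  obtain ⟨h, j, hh, -, hj0, hCcard, hn, hjd, hbound⟩ := index_formula hG h8 ht (c := k * b)
    fun a ha hne hc => hS.share ha hne hc
  have hhh : h' = h := by
    have h1 := card_centralizer D hG (hσ ▸ ht)
    rw [hσ, hCcard] at h1
    exact (Nat.eq_of_mul_eq_mul_left (by norm_num) (Nat.eq_of_mul_eq_mul_right Nat.card_pos h1)).symm
  subst hhh
  have h8C : 8 ∣ Nat.card C := by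
    refine Dvd.dvd.trans ?_ (card_dvd_of_le fun x hx => mem_centralizer_singleton_iff.2 (hσ ▸ (D.J_comm hx).eq))
    obtain ⟨i, hi⟩ := D.h_even
    rw [D.card, hi]
    exact ⟨i, by ring⟩
  have hpb : p ∣ b := hS.dvd_fixIndex hp hP.odd hS.loc.core_ne_bot
  obtain ⟨F, iF, jF, M, hMn, ho, h5, hM, hC, ⟨e⟩⟩ := hS.exists_psl
  obtain ⟨ε, hε, hinv⟩ := exists_sign (F := F) ho
  have hr : (Fintype.card F : ℤ) = 4 * h' * b + ε := by
    rw [hS.invCard_eq ho hC e P, D.card] at hinv
    push_cast at hinv
    linarith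
  have hS2 : (Nat.card (tConj t L) : ℤ) = (Fintype.card F : ℤ) * (2 * h' * b + ε) := by
    refine mul_left_cancel₀ (two_ne_zero (α := ℤ)) ?_
    rw [hS.card_tConj_eq ho h5 hC e hε hinv, hr]
    ring
  rcases hS.shape with hnorm | hmid | ⟨B, hB⟩
  · obtain ⟨heq, hle⟩ := hS.incidence (Or.inl hnorm)
    exact false_alpha_data hS.three_le_relIndex_centL (hS.relIndex_le_prime hnorm) hpb hS.odd_fixIndex hh hε hr hS2
      hbound heq hle
  · obtain ⟨R, hRodd, hRp, hkR⟩ := hmid.exists_relIndex
    obtain ⟨heq, -⟩ := hS.incidence (Or.inr ⟨hmid.cardT, hmid.norm⟩)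
    refine false_beta_data (n := C.index) (r := Fintype.card F) hp hP.odd hRodd hRp hkR hS.odd_fixIndex hpb hh hε hr
      Fintype.isPrimePow_card_of_field hj0 (by exact_mod_cast hn) (by exact_mod_cast hjd)
      (fun q hq hqb => hS.index_modEq_of_dvd hq hqb) ?_
    have h1 : (Fintype.card F : ℤ) ∣ (Nat.card (tConj t L) : ℤ) := Dvd.intro _ hS2.symm
    exact (Int.natCast_dvd_natCast.1 h1).trans (Dvd.intro_left _ heq)
  · obtain ⟨x, hx, hx1, hxv⟩ := hP.fixed
    exact hII _ (hS.hyp_of_big h8C hB)
      ⟨v, x, hP.hv, hP.hne.symm, hP.hc.symm, coreAt_le_ocore hP.odd t hx, hx1, hxv⟩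

end CfsgLib.GW.CaseA
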