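import Cfsg.Agent.Lib.GW.CaseA.AStructure

/-!
# Case A, an involution acting partially: the inner involutions of `C_L(t)` and the index of their fixed points

Every conjugate `u ≠ t` of `t` in `C_L(t)` gives the same `L` and `Y`.  The index `b` of `C_O(v)` in `O ∩ L` is the
odd part of the order of the centraliser of an involution of the component.
-/

set_option autoImplicit false
set_option linter.style.haveILetI false
set_option linter.unusedSectionVars false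

open Subgroup
open CfsgLib.Coprime.BenderPair CfsgLib.Coprime.BenderUniqueness

namespace CfsgLib.GW.CaseA

universe u

variable {G : Type u} [Group G] [Finite G]

/-- the index of `C_O(v)` in `O ∩ L` -/
noncomputable def fixIndex (t v : G) (L : Subgroup G) : ℕ :=
  (Ocore t ⊓ centralizer ({v} : Set G)).relIndex (Ocore t ⊓ L)

namespace Setup

variable {t v : G} {p : ℕ} {L : Subgroup G} (hS : Setup t v p L)
include hS

section Component

variable {F : Type} [Field F] [Fintype F] {M : Subgroup (L ⧸ Cfsg.oddCore L)} [M.Normal]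

theorem two_ne_zero' (ho : Odd (Fintype.card F)) : (2 : F) ≠ 0 :=
  CfsgLib.Perm.Dickson.two_ne_zero_of_odd (F := F) (by rwa [Nat.card_eq_fintype_card])

theorem t_mem_component (ho : Odd (Fintype.card F)) (hC : centralizer (M : Set (L ⧸ Cfsg.oddCore L)) = ⊥)
    (e : M ≃* Matrix.ProjectiveSpecialLinearGroup (Fin 2) F) :
    QuotientGroup.mk' (Cfsg.oddCore L) ⟨t, hS.t_mem⟩ ∈ M :=
  (hS.fused.four_mem hS.part.hA hS.part.hv hS.part.hne hS.part.hc ho hC e).1

/-- conjugates of `t` map into the component -/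
theorem tConj_mem (ho : Odd (Fintype.card F)) (hC : centralizer (M : Set (L ⧸ Cfsg.oddCore L)) = ⊥)
    (e : M ≃* Matrix.ProjectiveSpecialLinearGroup (Fin 2) F) {u : G} (hu : u ∈ tConj t L) (huL : u ∈ L) :
    QuotientGroup.mk' (Cfsg.oddCore L) ⟨u, huL⟩ ∈ M := by
  obtain ⟨g, hg, rfl⟩ := hu
  have h := ‹M.Normal›.conj_mem _ (hS.t_mem_component ho hC e) (QuotientGroup.mk' (Cfsg.oddCore L) ⟨g, hg⟩)
  rw [← map_inv, ← map_mul, ← map_mul] at h
  exact h

/-- the conjugates of `t` are the involutions over the component -/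
theorem mem_tConj (ho : Odd (Fintype.card F)) (hC : centralizer (M : Set (L ⧸ Cfsg.oddCore L)) = ⊥)
    (e : M ≃* Matrix.ProjectiveSpecialLinearGroup (Fin 2) F) {u : G} (hu : orderOf u = 2) (huL : u ∈ L)
    (huM : QuotientGroup.mk' (Cfsg.oddCore L) ⟨u, huL⟩ ∈ M) : u ∈ tConj t L := by
  obtain ⟨m, -, hm⟩ := isConj_of_invol_mem M e (orderOf_mk_two hS.t_mem hS.part.hA.invol) (orderOf_mk_two huL hu)
    (hS.t_mem_component ho hC e) huM
  obtain ⟨g, -, hg⟩ := exists_conj_lift (odd_oddCore L) (u := (⟨t, hS.t_mem⟩ : L)) (v := ⟨u, huL⟩)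
    (by rw [Subgroup.orderOf_mk, hS.part.hA.invol]) (by rw [Subgroup.orderOf_mk, hu]) hm
  exact ⟨g, g.2, congrArg Subtype.val hg⟩

end Component

theorem mul_tConj {u : G} (hu : u ∈ tConj t L) (hut : Commute u t) (hne : u ≠ t) : t * u ∈ tConj t L := by
  obtain ⟨F, iF, jF, M, hMn, ho, h5, hM, hC, ⟨e⟩⟩ := hS.exists_psl
  have huL := mem_of_tConj hS.t_mem hu
  refine hS.mem_tConj ho hC e (CaseB.invol_mul hS.part.hA.invol (orderOf_tConj hS.part.hA.invol hu) hne.symm hut.symm)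
    (mul_mem hS.t_mem huL) ?_
  have h := mul_mem (hS.t_mem_component ho hC e) (hS.tConj_mem ho hC e hu huL)
  rwa [← map_mul] at h

theorem fused_of_tConj {u : G} (hu : u ∈ tConj t L) (hut : Commute u t) (hne : u ≠ t) : Fused t u L :=
  ⟨hS.t_mem, mem_of_tConj hS.t_mem hu, hu, hS.mul_tConj hu hut hne, hS.fused.typeC, hS.fused.not_four, hS.fused.ocN_le⟩

/-- **every such involution fixes exactly `Y` on `T` and gives the same `L`** -/
theorem change {u : G} (hu : u ∈ tConj t L) (hut : Commute u t) (hne : u ≠ t) :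
    Setup t u p L ∧ fixAt p t u = fixAt p t v := by
  haveI := Fact.mk hS.part.prime
  have hP := hS.part
  have hu2 := orderOf_tConj hP.hA.invol hu
  have hF := hS.fused_of_tConj hu hut hne
  have hfixL : ∀ x ∈ coreAt p t, x ∈ L → Commute x u → x ∈ fixAt p t v := fun x hx hxL hxu =>
    hS.mem_fixAt_iff.2 ⟨hx, hF.mem_ocN_of_fixed hS.loc hP.hA hP.prime hP.odd hu2 hne.symm hut.symm hP.prime hP.odd
      hx hxL hxu⟩
  have hYu : ∀ x ∈ fixAt p t v, Commute x u := fun x hx => hS.commute_ocN_tConj hu (hS.fixAt_le_ocN hx)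
  have hP' : Partial t u p := by
    refine ⟨hP.hA, hP.prime, hP.odd, hu2, hne.symm, hut.symm, ?_, ?_⟩
    · obtain ⟨⟨x, hx⟩, hx1⟩ := (Subgroup.ne_bot_iff_exists_ne_one).1 hS.invPart_ne_bot
      refine ⟨x, (hS.invPart_le hx).1, fun h => hx1 (Subtype.ext ?_)⟩
      exact hS.disjoint_invPart hx (hS.mem_fixAt_iff.1 (hfixL x (hS.invPart_le hx).1 (hS.invPart_le hx).2 h)).2
    · obtain ⟨x, hx, h1, h⟩ := hP.fixed
      exact ⟨x, hx, h1, hYu x (mem_fixAt.2 ⟨hx, h⟩)⟩
  have hle : fixAt p t v ≤ fixAt p t u := fun x hx => mem_fixAt.2 ⟨(mem_fixAt.1 hx).1, hYu x hx⟩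
  have heq : fixAt p t u = fixAt p t v := by
    refine le_antisymm ?_ hle
    by_contra hn
    have hpU : IsPGroup p (fixAt p t u) := (isPGroup_coreAt p t).to_le inf_le_left
    haveI := hpU.isNilpotent
    have hlt : (fixAt p t v).subgroupOf (fixAt p t u) < ⊤ := by
      rw [lt_top_iff_ne_top, Ne, subgroupOf_eq_top]
      exact hn
    obtain ⟨n, hn1, hn2⟩ := SetLike.exists_of_lt (Group.normalizerCondition_of_isNilpotent _ hlt)
    refine hn2 (mem_subgroupOf.2 (hfixL n (mem_fixAt.1 n.2).1 (hS.above ?_) (mem_fixAt.1 n.2).2))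
    rw [mem_normalizer_iff] at hn1 ⊢
    refine fun x => ⟨fun hx => mem_subgroupOf.1 ((hn1 ⟨x, hle hx⟩).1 (mem_subgroupOf.2 hx)), fun hx => ?_⟩
    have hxU : x ∈ fixAt p t u := by
      have := mul_mem (mul_mem (inv_mem n.2) (hle hx)) n.2
      simpa [mul_assoc] using this
    exact mem_subgroupOf.1 ((hn1 ⟨x, hxU⟩).2 (mem_subgroupOf.2 hx))
  exact ⟨⟨hP', by rw [heq]; exact hS.above, hS.coatom⟩, heq⟩

/-- `C_O(v)` lies in `L` -/
theorem ocore_cent_le : Ocore t ⊓ centralizer ({v} : Set G) ≤ L := fun _ hx =>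
  hS.above (hS.part.four_le_normalizer (mem_centralizer_singleton_iff.1 (ocore_le t hx.1))
    (mem_centralizer_singleton_iff.1 hx.2))

theorem odd_fixIndex : Odd (fixIndex t v L) :=
  ((odd_ocore t).of_dvd_nat (card_dvd_of_le inf_le_left)).of_dvd_nat (relIndex_dvd_card _ _)

/-- an element of `O ∩ L` is a fixed one times an inverted one -/
theorem exists_factor_ocore {x : G} (hx : x ∈ Ocore t ⊓ L) :
    ∃ y k : G, y ∈ Ocore t ⊓ L ∧ k ∈ Ocore t ⊓ L ∧ Commute y v ∧ v * k * v⁻¹ = k⁻¹ ∧ x = y * k :=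
  exists_fixed_mul_inverted hS.part.hv
    (CfsgLib.Coprime.inf_le_normalizer (A := zpowers v)
      (zpowers_le.2 (centralizer_le_normalizer_ocore t (mem_centralizer_singleton_iff.2 hS.part.hc.symm.eq)))
      (zpowers_le.2 (le_normalizer hS.v_mem)) (mem_zpowers v))
    hx ((odd_ocore t).of_dvd_nat (card_dvd_of_le inf_le_left))

theorem odd_of_mem {x : G} (hx : x ∈ Ocore t ⊓ L) : Odd (orderOf x) :=
  CaseB.orderOf_odd_of_mem (odd_ocore t) hx.1

section Torus

variable {F : Type} [Field F] [Fintype F] {M : Subgroup (L ⧸ Cfsg.oddCore L)} [M.Normal]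

/-- the image of an odd inverted element lies in the component -/
theorem inverted_mem_component (ho : Odd (Fintype.card F)) (hC : centralizer (M : Set (L ⧸ Cfsg.oddCore L)) = ⊥)
    (e : M ≃* Matrix.ProjectiveSpecialLinearGroup (Fin 2) F) {k : G} (hkL : k ∈ L) (hodd : Odd (orderOf k))
    (hinv : v * k * v⁻¹ = k⁻¹) : QuotientGroup.mk' (Cfsg.oddCore L) ⟨k, hkL⟩ ∈ M := by
  refine mem_of_sq_mem (orderOf_mk_odd hkL hodd) ?_
  have hmem : k * v * k⁻¹ ∈ tConj t L := by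
    obtain ⟨g, hg, hgv⟩ := hS.v_tConj
    exact ⟨k * g, mul_mem hkL hg, by rw [← hgv]; group⟩
  have h := mul_mem (hS.tConj_mem ho hC e hmem (mem_of_tConj hS.t_mem hmem)) (hS.tConj_mem ho hC e hS.v_tConj hS.v_mem)
  rw [← map_mul] at h
  rw [← map_pow]
  convert h using 2
  exact Subtype.ext (conj_mul_self_of_inverted hS.part.hv hinv).symm

/-- odd elements of the component commuting with the images of `t` and `v` are trivial -/
theorem component_fixed_eq_one (ho : Odd (Fintype.card F)) (hC : centralizer (M : Set (L ⧸ Cfsg.oddCore L)) = ⊥)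
    (e : M ≃* Matrix.ProjectiveSpecialLinearGroup (Fin 2) F) {x : L ⧸ Cfsg.oddCore L} (hxM : x ∈ M)
    (hodd : Odd (orderOf x)) (hxt : Commute x (QuotientGroup.mk' (Cfsg.oddCore L) ⟨t, hS.t_mem⟩))
    (hxv : Commute x (QuotientGroup.mk' (Cfsg.oddCore L) ⟨v, hS.v_mem⟩)) : x = 1 := by
  have hP := hS.part
  have hto := orderOf_mk_two hS.t_mem hP.hA.invol
  have hvo := orderOf_mk_two hS.v_mem hP.hv
  have hctv := (show Commute (⟨t, hS.t_mem⟩ : L) ⟨v, hS.v_mem⟩ from Subtype.ext hP.hc.eq).map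
    (QuotientGroup.mk' (Cfsg.oddCore L))
  have hntv : QuotientGroup.mk' (Cfsg.oddCore L) ⟨t, hS.t_mem⟩ ≠ QuotientGroup.mk' (Cfsg.oddCore L) ⟨v, hS.v_mem⟩ :=
    fun h => hP.hne (congrArg Subtype.val
      (invol_lift_unique (odd_oddCore L) (u := (⟨t, hS.t_mem⟩ : L)) (v := ⟨v, hS.v_mem⟩)
        (by rw [Subgroup.orderOf_mk, hP.hA.invol]) (by rw [Subgroup.orderOf_mk, hP.hv])
        (fun k hk => Subtype.ext (mem_centralizer_singleton_iff.1 (hS.fused.ocN_le ⟨k, hk, rfl⟩)).symm) h))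
  rcases diag_cent_four M e hS.dihTwo_quot hC (hS.two_ne_zero' ho) hto hvo hntv hctv (le_diagPart M e hxM) hxt hxv
    with h | h | h | h
  · exact h
  all_goals exfalso; rw [h] at hodd
  · exact absurd (hto ▸ hodd) (by decide)
  · exact absurd (hvo ▸ hodd) (by decide)
  · exact absurd (invol_mul_of_commute hto hvo hntv hctv ▸ hodd) (by decide)

/-- an odd element of the component commuting with the image of `t` is the image of an inverted one -/
theorem exists_inverted_lift (ho : Odd (Fintype.card F)) (hC : centralizer (M : Set (L ⧸ Cfsg.oddCore L)) = ⊥)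
    (e : M ≃* Matrix.ProjectiveSpecialLinearGroup (Fin 2) F) {m : L ⧸ Cfsg.oddCore L} (hm : m ∈ M)
    (hodd : Odd (orderOf m)) (hmt : Commute m (QuotientGroup.mk' (Cfsg.oddCore L) ⟨t, hS.t_mem⟩)) :
    ∃ k, ∃ hk : k ∈ Ocore t ⊓ L, v * k * v⁻¹ = k⁻¹ ∧ QuotientGroup.mk' (Cfsg.oddCore L) ⟨k, hk.2⟩ = m := by
  have hP := hS.part
  obtain ⟨s, hs, hst⟩ := exists_comm_lift (odd_oddCore L) (u := (⟨t, hS.t_mem⟩ : L))
    (by rw [Subgroup.orderOf_mk, hP.hA.invol]) hmt
  have hst' : Commute (s : G) t := congrArg Subtype.val hst.eq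
  -- an odd power with the same image
  obtain ⟨a, c, hc, hac⟩ := Nat.exists_eq_two_pow_mul_odd (orderOf_pos s).ne'
  obtain ⟨i, hi⟩ : ∃ i : ℕ, (m ^ 2 ^ a) ^ i = m :=
    exists_pow_eq_self_of_coprime (Nat.Coprime.pow_left a (Nat.coprime_two_left.2 hodd))
  have hxodd : Odd (orderOf ((s ^ 2 ^ a) ^ i)) := by
    refine hc.of_dvd_nat ((orderOf_pow_dvd _).trans (dvd_of_eq ?_))
    rw [orderOf_pow_of_dvd (by positivity) ⟨c, hac⟩, hac, Nat.mul_div_cancel_left _ (by positivity)]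
  obtain ⟨x, hxdef⟩ : ∃ x : L, x = (s ^ 2 ^ a) ^ i := ⟨_, rfl⟩
  rw [← hxdef] at hxodd
  have hxt : Commute (x : G) t := by
    rw [hxdef]
    exact (hst'.pow_left _).pow_left _
  have hxO : (x : G) ∈ Ocore t ⊓ L :=
    ⟨mem_ocore hP.hA.min hP.hA.invol hxt (by rwa [Subgroup.orderOf_coe]), x.2⟩
  obtain ⟨y, k, hy, hk, hyv, hkv, hxyk⟩ := hS.exists_factor_ocore hxO
  have hkM := hS.inverted_mem_component ho hC e hk.2 (hS.odd_of_mem hk) hkv
  have hxm : QuotientGroup.mk' (Cfsg.oddCore L) x = m := by rw [hxdef, map_pow, map_pow, hs, hi]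
  have hmyk : m = QuotientGroup.mk' (Cfsg.oddCore L) ⟨y, hy.2⟩ * QuotientGroup.mk' (Cfsg.oddCore L) ⟨k, hk.2⟩ := by
    rw [← hxm, ← map_mul]
    exact congrArg _ (Subtype.ext hxyk)
  have hy1 : QuotientGroup.mk' (Cfsg.oddCore L) ⟨y, hy.2⟩ = 1 := by
    refine hS.component_fixed_eq_one ho hC e ?_ (orderOf_mk_odd hy.2 (hS.odd_of_mem hy))
      ((show Commute (⟨y, hy.2⟩ : L) ⟨t, hS.t_mem⟩ from
        Subtype.ext (mem_centralizer_singleton_iff.1 (ocore_le t hy.1))).map _)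
      ((show Commute (⟨y, hy.2⟩ : L) ⟨v, hS.v_mem⟩ from Subtype.ext hyv.eq).map _)
    rw [eq_mul_inv_of_mul_eq hmyk.symm]
    exact mul_mem hm (inv_mem hkM)
  exact ⟨k, hk, hkv, by rw [hmyk, hy1, one_mul]⟩

/-- the torus of `t` in the component -/
theorem exists_tor (ho : Odd (Fintype.card F)) (hC : centralizer (M : Set (L ⧸ Cfsg.oddCore L)) = ⊥)
    (e : M ≃* Matrix.ProjectiveSpecialLinearGroup (Fin 2) F) :
    ∃ N : Subgroup (L ⧸ Cfsg.oddCore L), Odd (Nat.card N) ∧ Nat.card N = (fixIndex t v L) ∧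
      (∃ i, (fixIndex t v L) * 2 ^ i = invCard (Fintype.card F)) ∧
      ∀ m, m ∈ N ↔ m ∈ M ∧ Odd (orderOf m) ∧
        Commute m (QuotientGroup.mk' (Cfsg.oddCore L) ⟨t, hS.t_mem⟩) := by
  classical
  have hP := hS.part
  set π := QuotientGroup.mk' (Cfsg.oddCore L) with hπ
  set O1 : Subgroup G := Ocore t ⊓ L with hO1
  set N : Subgroup (L ⧸ Cfsg.oddCore L) := ((O1.subgroupOf L).map π) ⊓ M with hNdef
  have hN : ∀ m, m ∈ N ↔ m ∈ M ∧ Odd (orderOf m) ∧ Commute m (π ⟨t, hS.t_mem⟩) := by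
    refine fun m => ⟨?_, fun ⟨hm, hodd, hmt⟩ => ?_⟩
    · rintro ⟨⟨x, hx, rfl⟩, hm⟩
      exact ⟨hm, orderOf_mk_odd x.2 (hS.odd_of_mem hx),
        (show Commute x (⟨t, hS.t_mem⟩ : L) from
          Subtype.ext (mem_centralizer_singleton_iff.1 (ocore_le t hx.1))).map π⟩
    · obtain ⟨k, hk, -, rfl⟩ := hS.exists_inverted_lift ho hC e hm hodd hmt
      exact ⟨⟨_, mem_subgroupOf.2 hk, rfl⟩, hm⟩
  have hNodd : Odd (Nat.card N) := by
    refine Nat.not_even_iff_odd.1 fun h => ?_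
    haveI : Fact (Nat.Prime 2) := ⟨Nat.prime_two⟩
    obtain ⟨x, hx⟩ := exists_prime_orderOf_dvd_card' 2 (even_iff_two_dvd.1 h)
    have h' := ((hN x).1 x.2).2.1
    rw [Subgroup.orderOf_coe, hx] at h'
    exact absurd h' (by decide)
  -- cosets of `C_O(v)` against `N`
  set D : Subgroup G := Ocore t ⊓ centralizer ({v} : Set G) with hD
  have hinvM : ∀ x : O1, π (⟨(x : G), x.2.2⟩ * ⟨v, hS.v_mem⟩ * (⟨(x : G), x.2.2⟩ : L)⁻¹ * ⟨v, hS.v_mem⟩) ∈ N := by
    intro x
    have hmem : (x : G) * v * (x : G)⁻¹ ∈ tConj t L := by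
      obtain ⟨g, hg, hgv⟩ := hS.v_tConj
      exact ⟨x * g, mul_mem x.2.2 hg, by rw [← hgv]; group⟩
    refine ⟨⟨_, mem_subgroupOf.2 ?_, rfl⟩, ?_⟩
    · show (x : G) * v * (x : G)⁻¹ * v ∈ O1
      have hvN : v ∈ normalizer (O1 : Set G) := CfsgLib.Coprime.inf_le_normalizer (A := zpowers v)
        (zpowers_le.2 (centralizer_le_normalizer_ocore t (mem_centralizer_singleton_iff.2 hP.hc.symm.eq)))
        (zpowers_le.2 (le_normalizer hS.v_mem)) (mem_zpowers v)
      have hvi : v⁻¹ = v := inv_eq_of_mul_eq_one_right (Invol.invol_mul_self hP.hv)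
      have := CaseB.commutator_mem hvN x.2
      rwa [hvi] at this
    · rw [map_mul]
      exact mul_mem (hS.tConj_mem ho hC e hmem (mem_of_tConj hS.t_mem hmem))
        (hS.tConj_mem ho hC e hS.v_tConj hS.v_mem)
  let Φ : O1 ⧸ D.subgroupOf O1 → N := fun q => Quotient.liftOn' q (fun x => ⟨_, hinvM x⟩) (by
    intro x y hxy
    rw [QuotientGroup.leftRel_apply, mem_subgroupOf] at hxy
    have hc : Commute ((x : G)⁻¹ * y) v := mem_centralizer_singleton_iff.1 hxy.2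
    refine Subtype.ext ?_
    show π _ = π _
    congr 2
    refine Subtype.ext ?_
    show (x : G) * v * (x : G)⁻¹ = (y : G) * v * (y : G)⁻¹
    symm
    calc (y : G) * v * (y : G)⁻¹ = x * (((x : G)⁻¹ * y) * v) * (y : G)⁻¹ := by group
      _ = x * v * (x : G)⁻¹ := by rw [hc.eq]; group)
  have hΦ : Function.Bijective Φ := by
    constructor
    · rintro ⟨x⟩ ⟨y⟩ hxy
      have h1 : π (⟨(x : G), x.2.2⟩ * ⟨v, hS.v_mem⟩ * (⟨(x : G), x.2.2⟩ : L)⁻¹) =
          π (⟨(y : G), y.2.2⟩ * ⟨v, hS.v_mem⟩ * (⟨(y : G), y.2.2⟩ : L)⁻¹) := by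
        have := congrArg Subtype.val hxy
        change π (⟨(x : G), x.2.2⟩ * ⟨v, hS.v_mem⟩ * (⟨(x : G), x.2.2⟩ : L)⁻¹ * ⟨v, hS.v_mem⟩) =
          π (⟨(y : G), y.2.2⟩ * ⟨v, hS.v_mem⟩ * (⟨(y : G), y.2.2⟩ : L)⁻¹ * ⟨v, hS.v_mem⟩) at this
        rwa [map_mul π _ ⟨v, hS.v_mem⟩, map_mul π _ ⟨v, hS.v_mem⟩, mul_left_inj] at this
      have hmem : (x : G) * v * (x : G)⁻¹ ∈ tConj t L := by
        obtain ⟨g, hg, hgv⟩ := hS.v_tConj
        exact ⟨x * g, mul_mem x.2.2 hg, by rw [← hgv]; group⟩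
      have h2 := congrArg Subtype.val (invol_lift_unique (odd_oddCore L)
        (by rw [← MulAut.conj_apply, MulEquiv.orderOf_eq, Subgroup.orderOf_mk, hP.hv])
        (by rw [← MulAut.conj_apply, MulEquiv.orderOf_eq, Subgroup.orderOf_mk, hP.hv])
        (fun k hk => Subtype.ext (hS.commute_ocN_tConj hmem ⟨k, hk, rfl⟩).eq.symm) h1)
      refine Quotient.sound' ?_
      rw [QuotientGroup.leftRel_apply, mem_subgroupOf]
      refine ⟨(Ocore t).mul_mem ((Ocore t).inv_mem x.2.1) y.2.1, mem_centralizer_singleton_iff.2 ?_⟩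
      have h3 : (x : G) * v * (x : G)⁻¹ = (y : G) * v * (y : G)⁻¹ := h2
      calc (x : G)⁻¹ * y * v = (x : G)⁻¹ * ((y : G) * v * (y : G)⁻¹) * y := by group
        _ = v * ((x : G)⁻¹ * y) := by rw [← h3]; group
    · rintro ⟨m, hm⟩
      obtain ⟨hmM, hmo, hmt⟩ := (hN m).1 hm
      obtain ⟨j, hj⟩ := id hmo
      obtain ⟨k, hk, hkv, hkim⟩ := hS.exists_inverted_lift ho hC e (pow_mem hmM (j + 1))
        (hmo.of_dvd_nat (orderOf_pow_dvd _)) (hmt.pow_left _)
      refine ⟨QuotientGroup.mk ⟨k, hk⟩, Subtype.ext ?_⟩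
      show π _ = m
      have hsq : (⟨k, hk.2⟩ * ⟨v, hS.v_mem⟩ * (⟨k, hk.2⟩ : L)⁻¹ * ⟨v, hS.v_mem⟩ : L) = ⟨k, hk.2⟩ ^ 2 :=
        Subtype.ext (conj_mul_self_of_inverted hP.hv hkv)
      rw [hsq, map_pow, hkim, ← pow_mul, show (j + 1) * 2 = orderOf m + 1 by omega, pow_succ, pow_orderOf_eq_one,
        one_mul]
  have hcard : Nat.card N = (fixIndex t v L) := by
    rw [← Nat.card_eq_of_bijective Φ hΦ]
    rfl
  refine ⟨N, hNodd, hcard, ?_, hN⟩
  -- the centraliser of the image of `t` in the component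
  set C : Subgroup M := centralizer ({⟨π ⟨t, hS.t_mem⟩, hS.t_mem_component ho hC e⟩} : Set M) with hCdef
  have hCcard : Nat.card C = invCard (Fintype.card F) := by
    rw [← card_cent_psl ho (e ⟨π ⟨t, hS.t_mem⟩, hS.t_mem_component ho hC e⟩)
      (by rw [MulEquiv.orderOf_eq, Subgroup.orderOf_mk, orderOf_mk_two hS.t_mem hP.hA.invol])]
    refine Nat.card_congr (e.toEquiv.subtypeEquiv fun x => ?_)
    show x ∈ C ↔ e x ∈ _
    rw [hCdef, mem_centralizer_singleton_iff, mem_centralizer_singleton_iff, ← map_mul, ← map_mul,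
      e.injective.eq_iff]
  set N' : Subgroup M := N.subgroupOf M with hN'
  have hN'card : Nat.card N' = Nat.card N := Nat.card_congr (subgroupOfEquivOfLe inf_le_right).toEquiv
  have hle : N' ≤ C := fun x hx => mem_centralizer_singleton_iff.2
    (Subtype.ext ((hN _).1 (mem_subgroupOf.1 hx)).2.2.eq)
  have hidx : ∃ i, (N'.subgroupOf C).index = 2 ^ i := by
    refine ⟨_, Nat.eq_prime_pow_of_unique_prime_dvd Subgroup.FiniteIndex.index_ne_zero fun {s} hs hsd => ?_⟩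
    by_contra hs2
    haveI := Fact.mk hs
    obtain ⟨P⟩ : Nonempty (Sylow s C) := inferInstance
    refine P.not_dvd_index (hsd.trans (Subgroup.index_dvd_of_le fun x hx => ?_))
    rw [mem_subgroupOf, hN', mem_subgroupOf]
    refine (hN _).2 ⟨(x : M).2, ?_, congrArg Subtype.val (mem_centralizer_singleton_iff.1 x.2)⟩
    obtain ⟨k, hk⟩ := P.2 ⟨x, hx⟩
    rw [Subgroup.orderOf_coe, Subgroup.orderOf_coe]
    exact ((hs.odd_of_ne_two hs2).pow (n := k)).of_dvd_nat
      (orderOf_dvd_of_pow_eq_one (congrArg Subtype.val hk))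
  obtain ⟨i, hi⟩ := hidx
  refine ⟨i, ?_⟩
  rw [← hcard, ← hN'card, ← hCcard, ← Nat.card_congr (subgroupOfEquivOfLe hle).toEquiv, ← hi,
    Subgroup.card_mul_index]

end Torus

end Setup

end CfsgLib.GW.CaseA
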