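import Cfsg.Agent.Lib.GW.CaseA.Change
import Cfsg.Agent.Lib.GW.CyclicSylow

/-!
# Case A, an involution acting partially: the primes of `F(C(t))`

The primes dividing the index `b` of `C_O(v)` in `O ∩ L` are the primes of `F(O)`, and no element of `O ∩ L` of
order prime to `b` but `1` is inverted by an involution of `C_L(t)`.
-/

set_option autoImplicit false
set_option linter.style.haveILetI false
set_option linter.unusedSectionVars false

open Subgroup
open CfsgLib.Coprime.BenderPair CfsgLib.Coprime.BenderUniqueness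

namespace CfsgLib.GW.CaseA

universe u

variable {G : Type u} [Group G] [Finite G]

/-- an element of odd order inverted inside the normaliser of a cyclic group centralises it -/
theorem commute_cyclic_of_inverted {Y : Subgroup G} [IsCyclic Y] {u z : G} (huY : u ∈ normalizer (Y : Set G))
    (hzY : z ∈ normalizer (Y : Set G)) (hinv : u * z * u⁻¹ = z⁻¹) (hz : Odd (orderOf z)) {y : G} (hy : y ∈ Y) :
    Commute y z := by
  refine CaseB.commute_of_sq hz ?_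
  set f := Y.normalizerMonoidHom
  have h1 : (⟨u, huY⟩ : normalizer (Y : Set G)) * ⟨z, hzY⟩ * (⟨u, huY⟩ : normalizer (Y : Set G))⁻¹ =
      (⟨z, hzY⟩ : normalizer (Y : Set G))⁻¹ := Subtype.ext hinv
  have h2 := congrArg f h1
  rw [map_mul, map_mul, map_inv, map_inv, aut_comm_of_cyclic (f ⟨u, huY⟩) (f ⟨z, hzY⟩), mul_inv_cancel_right] at h2
  have h3 : f (⟨z, hzY⟩ ^ 2) = 1 := by rw [map_pow, sq, mul_eq_one_iff_eq_inv]; exact h2
  have h4 := congrArg (fun φ : MulAut Y => ((φ ⟨y, hy⟩ : Y) : G)) h3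
  have h5 : z ^ 2 * y * (z ^ 2)⁻¹ = y := h4
  exact (mul_inv_eq_iff_eq_mul.1 h5).symm

namespace Setup

variable {t v : G} {p : ℕ} {L : Subgroup G} (hS : Setup t v p L)
include hS

/-- `L` normalises `O_q(C(t)) ∩ O(L)` -/
theorem le_normalizer_core_inf (q : ℕ) : L ≤ normalizer ((coreAt q t ⊓ CaseB.ocN L : Subgroup G) : Set G) := by
  intro g hg
  obtain ⟨c, s, -, hc, hs, hst, rfl⟩ := hS.exists_factor hg
  refine mul_mem (centralizer_le_normalizer _ (Subgroup.centralizer_le inf_le_right hc)) (mem_normalizer_iff.2 fun x => ?_)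
  exact and_congr ((mem_normalizer_iff.1 (mem_normalizer_coreAt hst)) x)
    ((mem_normalizer_iff.1 (CaseB.le_normalizer_ocN L hs)) x)

theorem core_le {q : ℕ} (hq : q.Prime) (hq2 : q ≠ 2) (hqp : q ≠ p) : coreAt q t ≤ L := hS.loc.others q hq hq2 hqp

theorem fixAt_eq_inf {q : ℕ} (hq : q.Prime) (hq2 : q ≠ 2) (hqp : q ≠ p) :
    fixAt q t v = coreAt q t ⊓ CaseB.ocN L :=
  le_antisymm (fun _ hx => ⟨(mem_fixAt.1 hx).1,
    hS.mem_ocN_of_fixed hq hq2 (mem_fixAt.1 hx).1 (hS.core_le hq hq2 hqp (mem_fixAt.1 hx).1) (mem_fixAt.1 hx).2⟩)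
    fun _ hx => mem_fixAt.2 ⟨hx.1, hS.commute_ocN_v hx.2⟩

/-- another prime with fixed points gives the same `L` -/
theorem setup_other {q : ℕ} (hq : q.Prime) (hq2 : q ≠ 2) (hqp : q ≠ p) (hne : fixAt q t v ≠ ⊥) : Setup t v q L := by
  have hP := hS.part
  have heq := hS.fixAt_eq_inf hq hq2 hqp
  have hP' : Partial t v q := by
    refine ⟨hP.hA, hq, hq2, hP.hv, hP.hne, hP.hc, ?_, ?_⟩
    · by_contra! h
      have hle : coreAt q t ≤ CaseB.ocN L := fun x hx =>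
        hS.mem_ocN_of_fixed hq hq2 hx (hS.core_le hq hq2 hqp hx) (h x hx)
      refine hne (le_bot_iff.1 ((inf_le_left : fixAt q t v ≤ coreAt q t).trans (le_of_eq ?_)))
      exact hS.eq_bot_of_normal hle (le_normalizer_opc q _)
    · obtain ⟨⟨x, hx⟩, hx1⟩ := Subgroup.ne_bot_iff_exists_ne_one.1 hne
      exact ⟨x, (mem_fixAt.1 hx).1, fun h => hx1 (Subtype.ext h), (mem_fixAt.1 hx).2⟩
  refine ⟨hP', ?_, hS.coatom⟩
  have hle : L ≤ normalizer (fixAt q t v : Set G) := heq ▸ hS.le_normalizer_core_inf q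
  exact (hS.coatom.le_iff.1 hle |>.resolve_left hP'.normalizer_ne_top).le

/-- what centralises every `O_q(C(t)) ∩ L` centralises every `O_q(C(t))` -/
theorem commute_core_of_inf {z : G} (hzt : Commute z t) (hcop : (orderOf z).Coprime p)
    (h : ∀ q : ℕ, q.Prime → q ≠ 2 → ∀ x ∈ coreAt q t, x ∈ L → Commute x z) :
    ∀ q : ℕ, q.Prime → q ≠ 2 → ∀ x ∈ coreAt q t, Commute x z := by
  intro q hq hq2 x hx
  haveI := Fact.mk hq
  rcases eq_or_ne q p with rfl | hqp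
  · exact commute_of_pq (P := fixAt q t v) ((isPGroup_coreAt q t).to_le inf_le_left) (isPGroup_coreAt q t)
      hcop (fun y hy => h q hq hq2 y (mem_fixAt.1 hy).1 (hS.fixAt_le hy))
      (inf_le_left.trans le_normalizer) (mem_normalizer_coreAt hzt) (fun y hy hyY => h q hq hq2 y hy
        (hS.centralizer_le (mem_centralizer_iff.2 fun w hw => (hyY w hw).eq.symm))) x hx
  · exact h q hq hq2 x hx (hS.core_le hq hq2 hqp hx)

/-- an element of prime order outside `π(F(O))` centralising every `O_q(C(t)) ∩ L` does not exist -/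
theorem false_of_commute_inf {z : G} {s : ℕ} (hs : s.Prime) (hs0 : coreAt s t = ⊥) (hz : orderOf z = s)
    (hzO : z ∈ Ocore t) (h : ∀ q : ℕ, q.Prime → q ≠ 2 → ∀ x ∈ coreAt q t, x ∈ L → Commute x z) : False := by
  haveI := Fact.mk hs
  haveI := Fact.mk hS.part.prime
  have hsp : s ≠ p := fun e => hS.loc.core_ne_bot (e ▸ hs0)
  have h1 := mem_coreAt_of_commute (s := s) hzO ⟨1, by rw [hz, pow_one]⟩
    (hS.commute_core_of_inf (mem_centralizer_singleton_iff.1 (ocore_le t hzO))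
      (by rw [hz]; exact (Nat.coprime_primes hs hS.part.prime).2 hsp) h)
  rw [hs0, mem_bot] at h1
  rw [h1, orderOf_one] at hz
  exact hs.one_lt.ne hz

/-- each `O_q(C(t))` has a non-trivial part inverted by `v` in `L` -/
theorem exists_inverted_core {q : ℕ} (hq : q.Prime) (hq2 : q ≠ 2) (hne : coreAt q t ≠ ⊥) :
    ∃ x ∈ coreAt q t, x ∈ L ∧ x ≠ 1 ∧ v * x * v⁻¹ = x⁻¹ := by
  haveI := Fact.mk hq
  have hP := hS.part
  rcases eq_or_ne q p with rfl | hqp
  · obtain ⟨⟨x, hx⟩, hx1⟩ := Subgroup.ne_bot_iff_exists_ne_one.1 hS.invPart_ne_bot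
    exact ⟨x, (hS.invPart_le hx).1, (hS.invPart_le hx).2, fun h => hx1 (Subtype.ext h), hx.2⟩
  by_contra! h
  refine hne (hS.eq_bot_of_normal (fun a ha => ?_) (le_normalizer_opc q _))
  obtain ⟨y, x, hy, hx, hyv, hxv, rfl⟩ := exists_fixed_mul_inverted hP.hv (mem_normalizer_coreAt hP.hc.symm) ha
    (CaseB.odd_card_of_pGroup hq2 (isPGroup_coreAt q t))
  have hx1 : x = 1 := by_contra fun hne' => h x hx (hS.core_le hq hq2 hqp hx) hne' hxv
  rw [hx1, mul_one]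
  exact hS.mem_ocN_of_fixed hq hq2 hy (hS.core_le hq hq2 hqp hy) hyv

/-- an inverted odd element of `L` with trivial image is trivial -/
theorem eq_one_of_inverted_image {k : G} (hkL : k ∈ L) (hinv : v * k * v⁻¹ = k⁻¹)
    (h : QuotientGroup.mk' (Cfsg.oddCore L) ⟨k, hkL⟩ = 1) : k = 1 :=
  hS.eq_one_of_inverted_ocN ⟨⟨k, hkL⟩, (QuotientGroup.eq_one_iff _).1 h, rfl⟩ hinv

/-- **every prime of `F(O)` divides `b`** -/
theorem dvd_fixIndex {q : ℕ} (hq : q.Prime) (hq2 : q ≠ 2) (hne : coreAt q t ≠ ⊥) : q ∣ fixIndex t v L := by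
  haveI := Fact.mk hq
  obtain ⟨x, hx, hxL, hx1, hxv⟩ := hS.exists_inverted_core hq hq2 hne
  obtain ⟨F, iF, jF, M, hMn, ho, h5, hM, hC, ⟨e⟩⟩ := hS.exists_psl
  obtain ⟨N, -, hcard, -, hN⟩ := hS.exists_tor ho hC e
  have hxodd : Odd (orderOf x) := orderOf_odd hq2 (isPGroup_coreAt q t) hx
  have hmem := (hN _).2 ⟨hS.inverted_mem_component ho hC e hxL hxodd hxv, orderOf_mk_odd hxL hxodd,
    (show Commute (⟨x, hxL⟩ : L) ⟨t, hS.t_mem⟩ from Subtype.ext (commute_coreAt hx).eq).map _⟩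
  have hd := Subgroup.orderOf_dvd_natCard N hmem
  rw [hcard] at hd
  obtain ⟨k, hk⟩ := IsPGroup.iff_orderOf.1 (isPGroup_coreAt q t) ⟨x, hx⟩
  rw [Subgroup.orderOf_mk] at hk
  obtain ⟨j, -, hj⟩ := (Nat.dvd_prime_pow hq).1 (show orderOf (QuotientGroup.mk' (Cfsg.oddCore L) ⟨x, hxL⟩) ∣ q ^ k from
    (orderOf_map_dvd _ _).trans (by rw [Subgroup.orderOf_mk, hk]))
  rw [hj] at hd
  refine (dvd_pow_self q fun h => hx1 (hS.eq_one_of_inverted_image hxL hxv ?_)).trans hd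
  rw [← orderOf_eq_one_iff, hj, h, pow_zero]

/-- a prime dividing `b` is the order of an element of `O ∩ L` inverted by `v` -/
theorem exists_inverted_of_dvd {s : ℕ} (hs : s.Prime) (h : s ∣ fixIndex t v L) :
    ∃ k ∈ Ocore t ⊓ L, v * k * v⁻¹ = k⁻¹ ∧ orderOf k = s := by
  haveI := Fact.mk hs
  obtain ⟨F, iF, jF, M, hMn, ho, h5, hM, hC, ⟨e⟩⟩ := hS.exists_psl
  obtain ⟨N, -, hcard, -, hN⟩ := hS.exists_tor ho hC e
  obtain ⟨⟨m, hm⟩, hmo⟩ := exists_prime_orderOf_dvd_card' (G := N) s (hcard ▸ h)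
  rw [Subgroup.orderOf_mk] at hmo
  obtain ⟨hmM, hmodd, hmt⟩ := (hN m).1 hm
  obtain ⟨k, hk, hkv, hkim⟩ := hS.exists_inverted_lift ho hC e hmM hmodd hmt
  refine ⟨k, hk, hkv, Nat.dvd_antisymm (orderOf_dvd_of_pow_eq_one ?_) ?_⟩
  · refine hS.eq_one_of_inverted_image (pow_mem hk.2 s) (by rw [← conj_pow, hkv, inv_pow]) ?_
    show QuotientGroup.mk' (Cfsg.oddCore L) (⟨k, hk.2⟩ ^ s) = 1
    rw [map_pow, hkim, ← hmo, pow_orderOf_eq_one]
  · rw [← hmo, ← hkim]
    exact (orderOf_map_dvd _ _).trans (by rw [Subgroup.orderOf_mk])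

/-- **every prime dividing `b` is a prime of `F(O)`** -/
theorem core_ne_bot_of_dvd {s : ℕ} (hs : s.Prime) (h : s ∣ fixIndex t v L) : coreAt s t ≠ ⊥ := by
  intro hs0
  obtain ⟨k, hk, hkv, hks⟩ := hS.exists_inverted_of_dvd hs h
  obtain ⟨F, iF, jF, M, hMn, ho, h5, hM, hC, ⟨e⟩⟩ := hS.exists_psl
  have hP := hS.part
  refine hS.false_of_commute_inf hs hs0 hks hk.1 fun q hq hq2 x hx hxL => ?_
  haveI := Fact.mk hq
  haveI := Fact.mk hs
  rcases eq_or_ne q s with rfl | hsq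
  · rw [hs0, mem_bot] at hx
    rw [hx]
    exact Commute.one_left k
  have hkt : Commute k t := mem_centralizer_singleton_iff.1 (ocore_le t hk.1)
  have hcom : Commute (QuotientGroup.mk' (Cfsg.oddCore L) ⟨k, hk.2⟩) (QuotientGroup.mk' (Cfsg.oddCore L) ⟨x, hxL⟩) :=
    psl_torus_comm M e hS.dihTwo_quot hC (hS.two_ne_zero' ho) (orderOf_mk_two hS.t_mem hP.hA.invol)
      (hS.inverted_mem_component ho hC e hk.2 (hS.odd_of_mem hk) hkv)
      (hS.fused.image_mem hP.hA hP.hv hP.hne hP.hc ho h5 hC e hq hq2 hx hxL)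
      (orderOf_mk_odd hk.2 (hS.odd_of_mem hk)) (orderOf_mk_odd hxL (orderOf_odd hq2 (isPGroup_coreAt q t) hx))
      ((show Commute (⟨k, hk.2⟩ : L) ⟨t, hS.t_mem⟩ from Subtype.ext hkt.eq).map _)
      ((show Commute (⟨x, hxL⟩ : L) ⟨t, hS.t_mem⟩ from Subtype.ext (commute_coreAt hx).eq).map _)
  set c := k * x * k⁻¹ * x⁻¹ with hc
  have hcT : c ∈ coreAt q t :=
    mul_mem ((mem_normalizer_iff.1 (mem_normalizer_coreAt hkt) x).1 hx) (inv_mem hx)
  have hcK : c ∈ CaseB.ocN L := by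
    refine ⟨⟨k, hk.2⟩ * ⟨x, hxL⟩ * (⟨k, hk.2⟩ : L)⁻¹ * (⟨x, hxL⟩ : L)⁻¹, ?_, rfl⟩
    show _ ∈ Cfsg.oddCore L
    refine (QuotientGroup.eq_one_iff _).1 ?_
    show QuotientGroup.mk' (Cfsg.oddCore L) _ = 1
    rw [map_mul, map_mul, map_mul, map_inv, map_inv, hcom.eq, mul_inv_cancel_right, mul_inv_cancel]
  have hck : Commute c k := mem_centralizer_iff.1 (hS.inverted_mem_cent hk.2 (hS.odd_of_mem hk) hkv) c hcK
  have hiter : ∀ i : ℕ, k ^ i * x * (k ^ i)⁻¹ = c ^ i * x := by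
    intro i
    induction i with
    | zero => simp
    | succ i ih =>
      calc k ^ (i + 1) * x * (k ^ (i + 1))⁻¹ = k * (k ^ i * x * (k ^ i)⁻¹) * k⁻¹ := by
            rw [pow_succ']; group
        _ = c ^ i * (k * x * k⁻¹) := by
            rw [ih, ← mul_assoc, ← (hck.pow_left i).eq]; group
        _ = c ^ (i + 1) * x := by rw [hc, pow_succ]; group
  have hcs : c ^ s = 1 := by
    have h1 := hiter s
    rw [← hks, pow_orderOf_eq_one, one_mul, inv_one, mul_one] at h1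
    rw [← hks]
    exact (mul_eq_right.1 h1.symm)
  have hc1 : c = 1 := by
    obtain ⟨j, hj⟩ := IsPGroup.iff_orderOf.1 (isPGroup_coreAt q t) ⟨c, hcT⟩
    rw [Subgroup.orderOf_mk] at hj
    exact orderOf_eq_one_iff.1 (Nat.eq_one_of_dvd_coprimes
      (Nat.Coprime.pow_left j ((Nat.coprime_primes hq hs).2 hsq)) hj.dvd (orderOf_dvd_of_pow_eq_one hcs))
  exact (mul_inv_eq_iff_eq_mul.1 (mul_inv_eq_one.1 hc1)).symm

/-- **no element of `O ∩ L` of order prime to `b` is inverted by an involution of `C_L(t)`** -/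
theorem eq_one_of_inverted_coprime {u z : G} (hu : orderOf u = 2) (huL : u ∈ L)
    (hz : z ∈ Ocore t ⊓ L) (hinv : u * z * u⁻¹ = z⁻¹) (hcop : (orderOf z).Coprime (fixIndex t v L)) : z = 1 := by
  by_contra hz1
  obtain ⟨s, hs, hsd⟩ := Nat.exists_prime_and_dvd (fun h => hz1 (orderOf_eq_one_iff.1 h))
  haveI := Fact.mk hs
  set w := z ^ (orderOf z / s) with hw
  have hwo : orderOf w = s := by
    rw [hw, orderOf_pow_of_dvd (Nat.div_pos (Nat.le_of_dvd (orderOf_pos z) hsd) hs.pos).ne'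
      (Nat.div_dvd_of_dvd hsd), Nat.div_div_self hsd (orderOf_pos z).ne']
  have hwO : w ∈ Ocore t ⊓ L := pow_mem hz _
  have hwinv : u * w * u⁻¹ = w⁻¹ := by rw [hw, ← conj_pow, hinv, inv_pow]
  have hwt : Commute w t := mem_centralizer_singleton_iff.1 (ocore_le t hwO.1)
  have hwodd : Odd (orderOf w) := hS.odd_of_mem hwO
  have hs2 : s ≠ 2 := fun e => by rw [hwo, e] at hwodd; exact absurd hwodd (by decide)
  have hsb : ¬ s ∣ fixIndex t v L := fun h =>
    hs.one_lt.ne' (Nat.eq_one_of_dvd_coprimes hcop hsd h)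
  have hs0 : coreAt s t = ⊥ := by_contra fun h => hsb (hS.dvd_fixIndex hs hs2 h)
  obtain ⟨F, iF, jF, M, hMn, ho, h5, hM, hC, ⟨e⟩⟩ := hS.exists_psl
  obtain ⟨N, -, hcard, -, hN⟩ := hS.exists_tor ho hC e
  -- `w` lies in `O(L)`
  set π := QuotientGroup.mk' (Cfsg.oddCore L) with hπ
  have hwM : π ⟨w, hwO.2⟩ ∈ M := by
    refine mem_of_odd M e hC (hS.two_ne_zero' ho) ?_ (orderOf_mk_odd hwO.2 hwodd)
    refine MonoidHom.mem_ker.2 ?_
    have hu1 : fieldOn M e (π ⟨u, huL⟩) = 1 := MonoidHom.mem_ker.1 (two_mem_diagPart M e hS.dihTwo_quot hC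
      (hS.two_ne_zero' ho) (k := 1) (by rw [pow_one]; exact orderOf_mk_two huL hu))
    have h1 : fieldOn M e (π ⟨w, hwO.2⟩) = (fieldOn M e (π ⟨w, hwO.2⟩))⁻¹ := by
      have h := congrArg (fun x => fieldOn M e (π x))
        (show (⟨u, huL⟩ : L) * ⟨w, hwO.2⟩ * (⟨u, huL⟩ : L)⁻¹ = (⟨w, hwO.2⟩ : L)⁻¹ from Subtype.ext hwinv)
      simp only [map_mul, map_inv, hu1, inv_one, mul_one, one_mul] at h
      exact h
    refine orderOf_eq_one_iff.1 (Nat.eq_one_of_dvd_coprimes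
      (Nat.coprime_two_left.2 ((orderOf_mk_odd hwO.2 hwodd).of_dvd_nat (orderOf_map_dvd _ _))) ?_ dvd_rfl)
    exact orderOf_dvd_of_pow_eq_one (by rw [sq]; exact mul_eq_one_iff_eq_inv.2 h1)
  have hwK : w ∈ CaseB.ocN L := by
    refine ⟨⟨w, hwO.2⟩, (QuotientGroup.eq_one_iff _).1 ?_, rfl⟩
    show π ⟨w, hwO.2⟩ = 1
    refine orderOf_eq_one_iff.1 (Nat.eq_one_of_dvd_coprimes
      ((hs.coprime_iff_not_dvd).2 hsb) ((orderOf_map_dvd _ _).trans (by rw [Subgroup.orderOf_mk, hwo])) ?_)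
    rw [← hcard]
    exact Subgroup.orderOf_dvd_natCard N ((hN _).2 ⟨hwM, orderOf_mk_odd hwO.2 hwodd,
      (show Commute (⟨w, hwO.2⟩ : L) ⟨t, hS.t_mem⟩ from Subtype.ext hwt.eq).map π⟩)
  refine hS.false_of_commute_inf hs hs0 hwo hwO.1 fun q hq hq2 x hx hxL => ?_
  haveI := Fact.mk hq
  have hP := hS.part
  obtain ⟨y, k, hy, hk, hyv, hkv, rfl⟩ := exists_fixed_mul_inverted (H := coreAt q t ⊓ L) hP.hv
    (CfsgLib.Coprime.inf_le_normalizer (A := zpowers v) (zpowers_le.2 (mem_normalizer_coreAt hP.hc.symm))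
      (zpowers_le.2 (le_normalizer hS.v_mem)) (mem_zpowers v)) ⟨hx, hxL⟩
    (CaseB.odd_card_of_pGroup hq2 ((isPGroup_coreAt q t).to_le inf_le_left))
  refine Commute.mul_left ?_ (mem_centralizer_iff.1
    (hS.inverted_mem_cent hk.2 (orderOf_odd hq2 (isPGroup_coreAt q t) hk.1) hkv) w hwK).symm
  have hyfix : y ∈ fixAt q t v := mem_fixAt.2 ⟨hy.1, hyv⟩
  by_cases hy1 : y = 1
  · rw [hy1]; exact Commute.one_left w
  have hS' : Setup t v q L := by
    rcases eq_or_ne q p with rfl | hqp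
    · exact hS
    · exact hS.setup_other hq hq2 hqp fun h => hy1 (mem_bot.1 (h ▸ hyfix))
  haveI := hS'.isCyclic_fixAt
  exact commute_cyclic_of_inverted (hS'.eq_normalizer ▸ huL) (hS'.eq_normalizer ▸ hwO.2) hwinv hwodd hyfix

end Setup

end CfsgLib.GW.CaseA
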