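import Cfsg.Agent.Lib.GW.CaseA.Shape

/-!
# Case A, an involution acting partially: all involutions of `L` are conjugate to `t`

An outer involution of `C_L(t)` would carry its torus into `O(C(t))`, where it has at most `p + 1` room.  So the
involutions of `L` are the conjugates of `t` and a Sylow 2-subgroup of `C(t)` lies in `L`.
-/

set_option autoImplicit false
set_option linter.style.haveILetI false
set_option linter.unusedSectionVars false

open Subgroup
open CfsgLib.Coprime.BenderPair CfsgLib.Coprime.BenderUniqueness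
open scoped Pointwise

namespace CfsgLib.GW.CaseA

universe u

variable {G : Type u} [Group G] [Finite G]

namespace Setup

variable {t v : G} {p : ℕ} {L : Subgroup G} (hS : Setup t v p L)
include hS

/-- an element inverted by an involution of `C_L(t)` in `F (O ∩ L)` -/
theorem eq_one_of_inverted_mul {F : Subgroup G} (hF : IsPGroup p F) {u z f d : G} (hu : orderOf u = 2)
    (hut : Commute u t) (huL : u ∈ L) (huF : u ∈ normalizer (F : Set G)) (hd : d ∈ Ocore t ⊓ L)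
    (hdF : d ∈ normalizer (F : Set G)) (hf : f ∈ F) (hz : z = f * d) (hinv : u * z * u⁻¹ = z⁻¹)
    (hodd : Odd (orderOf z)) (hcp : (orderOf z).Coprime p) (hcb : (orderOf z).Coprime (fixIndex t v L)) :
    z = 1 := by
  obtain ⟨N, hN⟩ := (haveI := Fact.mk hS.part.prime; hF.exists_card_eq)
  have hfF : ∀ x ∈ F, x ^ p ^ N = 1 := fun x hx => orderOf_dvd_iff_pow_eq_one.1 (hN ▸ Subgroup.orderOf_dvd_natCard F hx)
  have hzN : z ∈ normalizer (F : Set G) := hz ▸ mul_mem (le_normalizer hf) hdF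
  set NF : Subgroup G := normalizer (F : Set G)
  haveI : (F.subgroupOf NF).Normal := normal_in_normalizer
  set π := QuotientGroup.mk' (F.subgroupOf NF) with hπ
  have hker : ∀ {x : G} (hx : x ∈ NF), π ⟨x, hx⟩ = 1 → x ∈ F := fun hx h =>
    mem_subgroupOf.1 ((QuotientGroup.eq_one_iff _).1 h)
  have hdz : π ⟨d, hdF⟩ = π ⟨z, hzN⟩ := by
    have : (⟨z, hzN⟩ : NF) = ⟨f, le_normalizer hf⟩ * ⟨d, hdF⟩ := Subtype.ext hz
    rw [this, map_mul, show π ⟨f, le_normalizer hf⟩ = 1 from (QuotientGroup.eq_one_iff _).2 (mem_subgroupOf.2 hf),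
      one_mul]
  set c := d * u * d⁻¹ * u⁻¹ with hc
  have hcN : c ∈ NF := mul_mem (mul_mem (mul_mem hdF huF) (inv_mem hdF)) (inv_mem huF)
  have hcO : c ∈ Ocore t ⊓ L := CaseB.commutator_mem (CfsgLib.Coprime.inf_le_normalizer (A := zpowers u)
    (zpowers_le.2 (centralizer_le_normalizer_ocore t (mem_centralizer_singleton_iff.2 hut.eq)))
    (zpowers_le.2 (le_normalizer huL)) (mem_zpowers u)) hd
  have hcz : π ⟨c, hcN⟩ = π ⟨z, hzN⟩ ^ 2 := by
    have h1 : (⟨c, hcN⟩ : NF) = ⟨d, hdF⟩ * ⟨u, huF⟩ * (⟨d, hdF⟩ : NF)⁻¹ * (⟨u, huF⟩ : NF)⁻¹ := rfl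
    have h2 : π ⟨u, huF⟩ * (π ⟨z, hzN⟩)⁻¹ * (π ⟨u, huF⟩)⁻¹ = π ⟨z, hzN⟩ := by
      rw [← map_inv, ← map_inv, ← map_mul, ← map_mul]
      refine congrArg _ (Subtype.ext ?_)
      show u * z⁻¹ * u⁻¹ = z
      rw [← conj_inv, hinv, inv_inv]
    rw [h1, map_mul, map_mul, map_mul, map_inv, map_inv, hdz, sq]
    conv_rhs => arg 2; rw [← h2]
    group
  have hc1 : c ^ p ^ N = 1 := by
    refine hS.eq_one_of_inverted_coprime hu huL (pow_mem hcO _) ?_ (Nat.Coprime.coprime_dvd_left ?_ hcb)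
    · rw [← conj_pow, hc, CaseB.cmt_inverted hu, inv_pow]
    · refine orderOf_dvd_of_pow_eq_one ?_
      rw [← pow_mul, mul_comm, pow_mul]
      refine hfF _ (hker (pow_mem hcN _) ?_)
      show π (⟨c, hcN⟩ ^ orderOf z) = 1
      rw [map_pow, hcz, ← pow_mul, mul_comm, pow_mul, ← map_pow,
        show (⟨z, hzN⟩ : NF) ^ orderOf z = 1 from Subtype.ext (pow_orderOf_eq_one z), map_one, one_pow]
  have hzF : z ^ (2 * p ^ N) ∈ F := by
    refine hker (pow_mem hzN _) ?_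
    show π (⟨z, hzN⟩ ^ (2 * p ^ N)) = 1
    rw [map_pow, pow_mul, ← hcz, ← map_pow, show (⟨c, hcN⟩ : NF) ^ p ^ N = 1 from Subtype.ext hc1, map_one]
  refine orderOf_eq_one_iff.1 (Nat.eq_one_of_dvd_coprimes ?_ dvd_rfl (orderOf_dvd_of_pow_eq_one
    (show z ^ (2 * p ^ N * p ^ N) = 1 by rw [pow_mul]; exact hfF _ hzF)))
  exact ((Nat.coprime_two_right.2 hodd).mul_right (hcp.pow_right N)).mul_right (hcp.pow_right N)

/-- the torus of an outer involution, moved into `O(C(t))` -/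
theorem exists_outer_torus {u : G} (hu : orderOf u = 2) (huL : u ∈ L) (hut : Commute u t) (hne : u ≠ t)
    (hout : u ∉ tConj t L) :
    ∃ z ∈ Ocore t, t * u * z * (t * u)⁻¹ = z⁻¹ ∧ p + 2 ≤ orderOf z ∧ (orderOf z).Coprime p ∧
      (orderOf z).Coprime (fixIndex t v L) := by
  obtain ⟨F, iF, jF, M, hMn, ho, h5, hM, hC, ⟨e⟩⟩ := hS.exists_psl
  obtain ⟨N, -, -, ⟨i, hi⟩, -⟩ := hS.exists_tor ho hC e
  have hP := hS.part
  have ht := hP.hA.invol
  obtain ⟨ξ, hξu, hξt, hξo⟩ := outer_torus_lift (odd_oddCore L) M e hS.dihTwo_quot hC (hS.two_ne_zero' ho) h5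
    (t := (⟨t, hS.t_mem⟩ : L)) (w := ⟨u, huL⟩) (by rw [Subgroup.orderOf_mk, ht]) (by rw [Subgroup.orderOf_mk, hu])
    (Subtype.ext hut.symm.eq) (hS.t_mem_component ho hC e) (fun h => hout (hS.mem_tConj ho hC e hu huL h))
    (fun k hk => Subtype.ext (hS.commute_ocN_t ⟨k, hk, rfl⟩).eq.symm)
  obtain ⟨g, hg⟩ := hP.hA.min.exists_cyc ht hu hne.symm hut.symm
  have hg' : g⁻¹ * t * g = t * u := by
    conv_lhs => rw [← hg.third hu hut.symm]
    group
  set z := g⁻¹ * (ξ : G) * g with hz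
  have hzo : orderOf z = outerCard (Fintype.card F) / 2 := by
    rw [hz, show g⁻¹ * (ξ : G) * g = MulAut.conj g⁻¹ (ξ : G) by simp [MulAut.conj_apply], MulEquiv.orderOf_eq,
      Subgroup.orderOf_coe, hξo]
  have hodd : Odd (orderOf z) := hzo ▸ odd_outerCard_half ho
  have hzt : Commute z t := by
    have h1 : Commute (ξ : G) (g * t * g⁻¹) := by rw [hg.1]; exact congrArg Subtype.val hξu.eq
    show g⁻¹ * (ξ : G) * g * t = t * (g⁻¹ * (ξ : G) * g)
    calc g⁻¹ * (ξ : G) * g * t = g⁻¹ * ((ξ : G) * (g * t * g⁻¹)) * g := by group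
      _ = t * (g⁻¹ * (ξ : G) * g) := by rw [h1.eq]; group
  have hzinv : t * u * z * (t * u)⁻¹ = z⁻¹ := by
    have h1 : t * (ξ : G) * t⁻¹ = (ξ : G)⁻¹ := congrArg Subtype.val hξt
    rw [← hg', hz]
    calc g⁻¹ * t * g * (g⁻¹ * (ξ : G) * g) * (g⁻¹ * t * g)⁻¹ = g⁻¹ * (t * (ξ : G) * t⁻¹) * g := by group
      _ = (g⁻¹ * (ξ : G) * g)⁻¹ := by rw [h1]; group
  have hcop : (orderOf z).Coprime (invCard (Fintype.card F)) := hzo ▸ outerCard_half_coprime ho
  have hb : fixIndex t v L ∣ invCard (Fintype.card F) := ⟨2 ^ i, hi.symm⟩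
  haveI := Fact.mk hP.prime
  have hpb := hS.dvd_fixIndex hP.prime hP.odd hS.loc.core_ne_bot
  have hbig : p + 2 ≤ orderOf z := by
    have h4 : 4 ∣ invCard (Fintype.card F) := by
      obtain ⟨j, hj⟩ := ho
      unfold invCard
      split_ifs <;> omega
    have h4p : 4 * p ∣ invCard (Fintype.card F) := Nat.Coprime.mul_dvd_of_dvd_of_dvd
      ((Nat.coprime_two_left.2 (hP.prime.odd_of_ne_two hP.odd)).pow_left 2) h4 (hpb.trans hb)
    have hp3 : 3 ≤ p := by
      have := hP.prime.two_le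
      have := hP.odd
      omega
    have h5' := h5
    obtain ⟨j, hj⟩ := ho
    rw [hzo]
    unfold invCard outerCard at *
    split_ifs at h4p ⊢ with hq
    all_goals
      have := Nat.le_of_dvd (by omega) h4p
      omega
  exact ⟨z, mem_ocore hP.hA.min ht hzt hodd, hzinv, hbig,
    hcop.coprime_dvd_right (hpb.trans hb), hcop.coprime_dvd_right hb⟩

/-- **no outer involution commutes with `t`** -/
theorem inner_of_commute {u : G} (hu : orderOf u = 2) (huL : u ∈ L) (hut : Commute u t) : u ∈ tConj t L := by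
  classical
  have hP := hS.part
  haveI := Fact.mk hP.prime
  rcases eq_or_ne u t with rfl | hne
  · exact ⟨1, one_mem _, by group⟩
  by_contra hout
  obtain ⟨z, hzO, hinv, hbig, hcp, hcb⟩ := hS.exists_outer_torus hu huL hut hne hout
  set w := t * u with hw
  have hwo : orderOf w = 2 := CaseB.invol_mul hP.hA.invol hu hne.symm hut.symm
  have hwt : Commute w t := (Commute.refl t).mul_left hut
  have hwL : w ∈ L := mul_mem hS.t_mem huL
  have hzc : z ∈ centralizer ({t} : Set G) := ocore_le t hzO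
  -- the powers of `z` lie in different cosets of any subgroup they meet trivially
  have hinj : ∀ N : Subgroup G, (∀ i : ℤ, z ^ i ∈ N → z ^ i = 1) →
      orderOf z ≤ N.relIndex (centralizer ({t} : Set G)) := by
    intro N hN
    rw [← Nat.card_zpowers, relIndex, index]
    refine Nat.card_le_card_of_injective (fun x : zpowers z =>
      (QuotientGroup.mk (⟨(x : G), zpowers_le.2 hzc x.2⟩ : centralizer ({t} : Set G)) :
        centralizer ({t} : Set G) ⧸ N.subgroupOf (centralizer ({t} : Set G)))) ?_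
    rintro ⟨a, ha⟩ ⟨b, hb⟩ hab
    have h := mem_subgroupOf.1 (QuotientGroup.eq.1 hab)
    obtain ⟨i, hi⟩ := mem_zpowers_iff.1 (mul_mem (inv_mem ha) hb)
    have h1 := hN i (hi ▸ h)
    rw [hi] at h1
    exact Subtype.ext (inv_mul_eq_one.1 h1)
  have hpow : ∀ i : ℤ, w * z ^ i * w⁻¹ = (z ^ i)⁻¹ ∧ Odd (orderOf (z ^ i)) ∧ (orderOf (z ^ i)).Coprime p ∧
      (orderOf (z ^ i)).Coprime (fixIndex t v L) := fun i => by
    have hd : orderOf (z ^ i) ∣ orderOf z := orderOf_dvd_of_mem_zpowers ⟨i, rfl⟩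
    exact ⟨by rw [← conj_zpow, hinv, inv_zpow], (CaseB.orderOf_odd_of_mem (odd_ocore t) hzO).of_dvd_nat hd,
      hcp.coprime_dvd_left hd, hcb.coprime_dvd_left hd⟩
  rcases hS.shape with hn | hM | ⟨B, hB⟩
  · have h := hinj (centL t L) fun i hi => hS.eq_one_of_inverted_coprime hwo hwL
      ⟨zpow_mem hzO i, hi.2⟩ (hpow i).1 (hpow i).2.2.2
    have := hS.relIndex_le_of_normal hn
    omega
  · have h := hinj (centA p t L) fun i hi => by
      have hcLn : centL t L ≤ normalizer (coreAt p t : Set G) := fun x hx => mem_normalizer_coreAt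
        (mem_centralizer_singleton_iff.1 hx.1)
      rw [(hM.centA_eq).1, ← SetLike.mem_coe, coe_mul_of_right_le_normalizer_left _ _ hcLn] at hi
      obtain ⟨f, hf, d, hd, hfd⟩ := hi
      have hfd' : f * d = z ^ i := hfd
      have hdO : d ∈ Ocore t ⊓ L := ⟨((Ocore t).mul_mem_cancel_left (coreAt_le_ocore hP.odd t hf)).1
        (by rw [hfd']; exact zpow_mem hzO i), hd.2⟩
      exact hS.eq_one_of_inverted_mul (isPGroup_coreAt p t) hwo hwt hwL (mem_normalizer_coreAt hwt) hdO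
        (hcLn hd) hf hfd.symm (hpow i).1 (hpow i).2.1 (hpow i).2.2.1 (hpow i).2.2.2
    have := hM.bound
    omega
  · obtain ⟨b, d, hb, hd, hzbd⟩ := hB.exists_factor_B hzO
    have h1 := hS.eq_one_of_inverted_mul ((isPGroup_coreAt p t).to_le hB.le) hwo hwt hwL
      (hB.norm (mem_centralizer_singleton_iff.2 hwt.eq)) hd (hB.norm (ocore_le t hd.1)) hb hzbd hinv
      (CaseB.orderOf_odd_of_mem (odd_ocore t) hzO) hcp hcb
    rw [h1, orderOf_one] at hbig
    omega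

/-- **all involutions of `L` are conjugate to `t`** -/
theorem inner : ∀ u ∈ L, orderOf u = 2 → u ∈ tConj t L := by
  classical
  intro u huL hu
  haveI : Fact (Nat.Prime 2) := ⟨Nat.prime_two⟩
  obtain ⟨F, iF, jF, M, hMn, ho, h5, hM, hC, ⟨e⟩⟩ := hS.exists_psl
  have hP := hS.part
  by_contra hout
  have huM : QuotientGroup.mk' (Cfsg.oddCore L) ⟨u, huL⟩ ∉ M := fun h => hout (hS.mem_tConj ho hC e hu huL h)
  set π := QuotientGroup.mk' (Cfsg.oddCore L) with hπ
  have hub := orderOf_mk_two huL hu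
  -- another involution commuting with the image of `u`
  obtain ⟨z, hz, hzu, hzc⟩ : ∃ z : L ⧸ Cfsg.oddCore L, orderOf z = 2 ∧ z ≠ π ⟨u, huL⟩ ∧ Commute z (π ⟨u, huL⟩) := by
    have hp2 : IsPGroup 2 (zpowers (π ⟨u, huL⟩)) := IsPGroup.of_card (n := 1) (by rw [Nat.card_zpowers, hub, pow_one])
    obtain ⟨R, hR⟩ := hp2.exists_le_sylow
    have huR := hR (mem_zpowers _)
    haveI : Nontrivial (R : Subgroup (L ⧸ Cfsg.oddCore L)) :=
      ⟨⟨_, huR⟩, 1, fun h => Invol.invol_ne_one hub (congrArg Subtype.val h)⟩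
    haveI := R.2.center_nontrivial
    have hcp : IsPGroup 2 (center (R : Subgroup (L ⧸ Cfsg.oddCore L))) := R.2.to_subgroup _
    obtain ⟨k, hk⟩ := hcp.exists_card_eq
    have hd : 2 ∣ Nat.card (center (R : Subgroup (L ⧸ Cfsg.oddCore L))) := by
      rw [hk]
      refine dvd_pow_self 2 fun h0 => ?_
      rw [h0, pow_zero] at hk
      exact Finite.one_lt_card.ne' hk
    obtain ⟨⟨⟨c, hcR⟩, hcc⟩, hco⟩ := exists_prime_orderOf_dvd_card' 2 hd
    rw [Subgroup.orderOf_mk, Subgroup.orderOf_mk] at hco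
    have hcomm : ∀ x ∈ (R : Subgroup (L ⧸ Cfsg.oddCore L)), Commute x c := fun x hx =>
      congrArg Subtype.val (mem_center_iff.1 hcc ⟨x, hx⟩)
    by_cases hcu : c = π ⟨u, huL⟩
    swap
    · exact ⟨c, hco, hcu, (hcomm _ huR).symm⟩
    -- otherwise any second involution of `R` will do
    have hto := orderOf_mk_two hS.t_mem hP.hA.invol
    have hvo := orderOf_mk_two hS.v_mem hP.hv
    have hctv : Commute (π ⟨t, hS.t_mem⟩) (π ⟨v, hS.v_mem⟩) :=
      (show Commute (⟨t, hS.t_mem⟩ : L) ⟨v, hS.v_mem⟩ from Subtype.ext hP.hc.eq).map π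
    have hntv : π ⟨t, hS.t_mem⟩ ≠ π ⟨v, hS.v_mem⟩ := fun h => hP.hne (congrArg Subtype.val
      (invol_lift_unique (odd_oddCore L) (u := (⟨t, hS.t_mem⟩ : L)) (v := ⟨v, hS.v_mem⟩)
        (by rw [Subgroup.orderOf_mk, hP.hA.invol]) (by rw [Subgroup.orderOf_mk, hP.hv])
        (fun k hk => Subtype.ext (hS.commute_ocN_t ⟨k, hk, rfl⟩).eq.symm) h))
    set W := closure ({π ⟨t, hS.t_mem⟩, π ⟨v, hS.v_mem⟩} : Set (L ⧸ Cfsg.oddCore L))
    haveI hWK := Invol.isKleinFour_closure_pair hto hvo hntv hctv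
    have hWp : IsPGroup 2 W := IsPGroup.of_card (n := 2) (by rw [hWK.card_four]; norm_num)
    obtain ⟨R', hR'⟩ := hWp.exists_le_sylow
    obtain ⟨g, hg⟩ := MulAction.exists_smul_eq (L ⧸ Cfsg.oddCore L) R' R
    have hmem : ∀ a ∈ W, g * a * g⁻¹ ∈ (R : Subgroup (L ⧸ Cfsg.oddCore L)) := fun a ha => by
      rw [← hg, Sylow.coe_subgroup_smul]
      exact ⟨a, hR' ha, rfl⟩
    have ho' : ∀ a, orderOf a = 2 → orderOf (g * a * g⁻¹) = 2 := fun a ha => by
      rw [← MulAut.conj_apply, MulEquiv.orderOf_eq, ha]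
    by_cases h1 : g * π ⟨t, hS.t_mem⟩ * g⁻¹ = π ⟨u, huL⟩
    · refine ⟨g * π ⟨v, hS.v_mem⟩ * g⁻¹, ho' _ hvo, fun h2 => hntv ?_, hcu ▸ hcomm _ (hmem _ (subset_closure (by simp)))⟩
      exact mul_left_cancel (mul_right_cancel (h1.trans h2.symm))
    · exact ⟨g * π ⟨t, hS.t_mem⟩ * g⁻¹, ho' _ hto, h1, hcu ▸ hcomm _ (hmem _ (subset_closure (by simp)))⟩
  -- an involution of the component commuting with it
  obtain ⟨m, hmM, hm, hmu⟩ : ∃ m ∈ M, orderOf m = 2 ∧ Commute m (π ⟨u, huL⟩) := by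
    rcases four_meets M e hS.dihTwo_quot hC (hS.two_ne_zero' ho) hz hub with h | h | h
    · exact ⟨z, h, hz, hzc⟩
    · exact absurd h huM
    · exact ⟨_, h, invol_mul_of_commute hz hub hzu hzc, hzc.mul_left (Commute.refl _)⟩
  obtain ⟨w, hwL, hw, hwu, hwim⟩ := exists_invol_comm_lift huL hu hm hmu
  obtain ⟨g, hg, hgw⟩ := hS.mem_tConj ho hC e hw hwL (hwim ▸ hmM)
  have hcomm : Commute (g⁻¹ * u * g) t := by
    rw [← hgw] at hwu
    show g⁻¹ * u * g * t = t * (g⁻¹ * u * g)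
    calc g⁻¹ * u * g * t = g⁻¹ * (u * (g * t * g⁻¹)) * g := by group
      _ = t * (g⁻¹ * u * g) := by rw [← hwu.eq]; group
  obtain ⟨k, hk, hku⟩ := hS.inner_of_commute
    (by rw [show g⁻¹ * u * g = MulAut.conj g⁻¹ u by simp [MulAut.conj_apply], MulEquiv.orderOf_eq, hu])
    (mul_mem (mul_mem (inv_mem hg) huL) hg) hcomm
  exact hout ⟨g * k, mul_mem hg hk, by
    calc g * k * t * (g * k)⁻¹ = g * (k * t * k⁻¹) * g⁻¹ := by group
      _ = u := by rw [hku]; group⟩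

/-- **a Sylow 2-subgroup of `C(t)` lies in `L`** -/
theorem exists_sylow_le :
    ∃ S : Sylow 2 (centralizer ({t} : Set G)),
      (S : Subgroup (centralizer ({t} : Set G))).map (centralizer ({t} : Set G)).subtype ≤ L := by
  haveI : Fact (Nat.Prime 2) := ⟨Nat.prime_two⟩
  have hP := hS.part
  set C := centralizer ({t} : Set G) with hC
  set H : Subgroup C := L.subgroupOf C with hH
  have hvC : v ∈ C := mem_centralizer_singleton_iff.2 hP.hc.symm.eq
  have hvH : (⟨v, hvC⟩ : C) ∈ H := hS.v_mem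
  have hp2 : IsPGroup 2 (zpowers (⟨⟨v, hvC⟩, hvH⟩ : H)) := IsPGroup.of_card (n := 1) (by
    rw [Nat.card_zpowers, Subgroup.orderOf_mk, Subgroup.orderOf_mk, hP.hv, pow_one])
  obtain ⟨Q, hQ⟩ := hp2.exists_le_sylow
  set Q' : Subgroup C := (Q : Subgroup H).map H.subtype with hQ'
  have hQp : IsPGroup 2 Q' := Q.2.map _
  obtain ⟨S, hS'⟩ := hQp.exists_le_sylow
  refine ⟨S, ?_⟩
  suffices h : (S : Subgroup C) ≤ H by
    rintro _ ⟨x, hx, rfl⟩
    exact h hx
  have hvQ : (⟨v, hvC⟩ : C) ∈ Q' := ⟨_, hQ (mem_zpowers _), rfl⟩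
  have hQH : Q' ≤ H := map_subtype_le _
  by_contra hn
  have hlt : Q' < (S : Subgroup C) := lt_of_le_not_ge hS' fun h => hn (h.trans hQH)
  haveI := S.2.isNilpotent
  have hlt' : Q'.subgroupOf (S : Subgroup C) < ⊤ := by
    rw [lt_top_iff_ne_top, Ne, subgroupOf_eq_top]
    exact hlt.not_ge
  obtain ⟨n, hn1, hn2⟩ := SetLike.exists_of_lt (Group.normalizerCondition_of_isNilpotent _ hlt')
  have hnv : (n : C) * ⟨v, hvC⟩ * (n : C)⁻¹ ∈ Q' := by
    have h := (mem_normalizer_iff.1 hn1 ⟨⟨v, hvC⟩, hS' hvQ⟩).1 (mem_subgroupOf.2 hvQ)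
    exact mem_subgroupOf.1 h
  have hnt : Commute ((n : C) : G) t := mem_centralizer_singleton_iff.1 (n : C).2
  set v' := ((n : C) : G) * v * ((n : C) : G)⁻¹
  have hv'L : v' ∈ L := hQH hnv
  have hv'o : orderOf v' = 2 := (hP.conj hnt).hv
  have hv't : Commute v' t := ((hP.conj hnt).hc).symm
  obtain ⟨-, heq⟩ := hS.change (hS.inner v' hv'L hv'o) hv't (hP.conj hnt).hne.symm
  have hnL : ((n : C) : G) ∈ L := by
    rw [hS.eq_normalizer, mem_normalizer_iff'']
    intro x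
    exact ⟨fun hx => (hP.mem_fixAt_conj hnt).1 (heq ▸ hx), fun hx => heq ▸ (hP.mem_fixAt_conj hnt).2 hx⟩
  -- so `n` lies in the Sylow subgroup `Q`
  refine hn2 (mem_subgroupOf.2 ?_)
  set R : Subgroup C := (S : Subgroup C) ⊓ H
  have hRp : IsPGroup 2 R := S.2.to_le inf_le_left
  have hQR : Q' ≤ R := le_inf hS' hQH
  have hRQ : (R.subgroupOf H) = (Q : Subgroup H) := Q.3 hRp.comap_subtype fun x hx =>
    mem_subgroupOf.2 (hQR ⟨x, hx, rfl⟩)
  have hnR : (⟨(n : C), hnL⟩ : H) ∈ R.subgroupOf H := mem_subgroupOf.2 ⟨n.2, hnL⟩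
  exact ⟨_, hRQ ▸ hnR, rfl⟩

/-- **every involution of `C(t)` goes into `L`** -/
theorem into_L : ∀ u : G, orderOf u = 2 → Commute u t → ∃ c, Commute c t ∧ c * u * c⁻¹ ∈ L := by
  intro u hu hut
  haveI : Fact (Nat.Prime 2) := ⟨Nat.prime_two⟩
  obtain ⟨S, hSL⟩ := hS.exists_sylow_le
  let C := centralizer ({t} : Set G)
  have huC : u ∈ C := mem_centralizer_singleton_iff.2 hut.eq
  have hp : IsPGroup 2 (zpowers (⟨u, huC⟩ : C)) := IsPGroup.of_card (n := 1) (by
    rw [Nat.card_zpowers, Subgroup.orderOf_mk, hu, pow_one])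
  obtain ⟨R, hR⟩ := hp.exists_le_sylow
  obtain ⟨c, hc⟩ := MulAction.exists_smul_eq C R S
  refine ⟨(c : G), mem_centralizer_singleton_iff.1 c.2, hSL ⟨c * ⟨u, huC⟩ * c⁻¹, ?_, rfl⟩⟩
  rw [← hc, Sylow.coe_subgroup_smul]
  exact ⟨_, hR (mem_zpowers _), rfl⟩

end Setup

end CfsgLib.GW.CaseA
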