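import Cfsg.Agent.Lib.GW.CaseA.Cores

/-!
# Case A, an involution acting partially: the points of the incidence count

Two conjugates of `t` in `L` do not both lie in another coset of `L`, and the index of `C(t)` is `1` modulo the
primes of `F(C(t))`.
-/

set_option autoImplicit false
set_option linter.style.haveILetI false
set_option linter.unusedSectionVars false

open Subgroup
open CfsgLib.Coprime.BenderPair CfsgLib.Coprime.BenderUniqueness

namespace CfsgLib.GW.CaseA

universe u

variable {G : Type u} [Group G] [Finite G]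

/-- in a cyclic `p`-group every non-trivial element generates all elements of order `p` -/
theorem mem_zpowers_of_pow_prime {p : ℕ} [hp : Fact p.Prime] {X : Subgroup G} [IsCyclic X] (hX : IsPGroup p X)
    {d x : G} (hd : d ∈ X) (hd1 : d ≠ 1) (hx : x ∈ X) (hxp : x ^ p = 1) : x ∈ zpowers d := by
  classical
  haveI := Fintype.ofFinite X
  obtain ⟨k, hk⟩ := IsPGroup.iff_orderOf.1 hX ⟨d, hd⟩
  rw [Subgroup.orderOf_mk] at hk
  obtain ⟨k, rfl⟩ := Nat.exists_eq_succ_of_ne_zero
    (fun h : k = 0 => hd1 (orderOf_eq_one_iff.1 (by rw [hk, h, pow_zero])))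
  set e : X := ⟨d, hd⟩ ^ p ^ k with he
  have heo : orderOf e = p := by
    rw [he, orderOf_pow_of_dvd (pow_ne_zero _ hp.out.ne_zero)
      (by rw [Subgroup.orderOf_mk, hk]; exact pow_dvd_pow p k.le_succ), Subgroup.orderOf_mk, hk,
      Nat.pow_div k.le_succ hp.out.pos, Nat.succ_sub le_rfl, Nat.sub_self, pow_one]
  have hsub : (Finset.range p).image (e ^ ·) = Finset.univ.filter (fun a : X => a ^ p = 1) := by
    refine Finset.eq_of_subset_of_card_le (fun a ha => ?_) ?_
    · obtain ⟨i, -, rfl⟩ := Finset.mem_image.1 ha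
      refine Finset.mem_filter.2 ⟨Finset.mem_univ _, ?_⟩
      rw [← pow_mul, mul_comm, pow_mul, ← heo, pow_orderOf_eq_one, one_pow]
    · rw [Finset.card_image_of_injOn (fun i hi j hj h => pow_injOn_Iio_orderOf
        (by simpa [heo] using hi) (by simpa [heo] using hj) h), Finset.card_range]
      exact IsCyclic.card_pow_eq_one_le hp.out.pos
  have hxm : (⟨x, hx⟩ : X) ∈ Finset.univ.filter (fun a : X => a ^ p = 1) :=
    Finset.mem_filter.2 ⟨Finset.mem_univ _, Subtype.ext hxp⟩
  rw [← hsub, Finset.mem_image] at hxm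
  obtain ⟨i, -, hi⟩ := hxm
  have hi' : (d ^ p ^ k) ^ i = x := congrArg Subtype.val hi
  exact hi' ▸ pow_mem (pow_mem (mem_zpowers d) _) _

/-- the subgroup generated by the elements of order `p` -/
def omegaPart (p : ℕ) (A : Subgroup G) : Subgroup G := closure {a | a ∈ A ∧ a ^ p = 1}

theorem omegaPart_le (p : ℕ) (A : Subgroup G) : omegaPart p A ≤ A := (closure_le _).2 fun _ h => h.1

theorem normalizer_le_omegaPart (p : ℕ) (A : Subgroup G) :
    normalizer (A : Set G) ≤ normalizer (omegaPart p A : Set G) := by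
  have key : ∀ g ∈ normalizer (A : Set G), ∀ x ∈ omegaPart p A, g * x * g⁻¹ ∈ omegaPart p A := by
    intro g hg x hx
    have hle : omegaPart p A ≤ (omegaPart p A).comap (MulAut.conj g).toMonoidHom := (closure_le _).2 fun a ha => by
      refine mem_comap.2 (subset_closure ⟨(mem_normalizer_iff.1 hg a).1 ha.1, ?_⟩)
      show (g * a * g⁻¹) ^ p = 1
      rw [conj_pow, ha.2, mul_one, mul_inv_cancel]
    exact hle hx
  intro g hg
  refine mem_normalizer_iff.2 fun x => ⟨key g hg x, fun hx => ?_⟩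
  have := key g⁻¹ (inv_mem hg) _ hx
  simpa [mul_assoc] using this

namespace Setup

variable {t v : G} {p : ℕ} {L : Subgroup G} (hS : Setup t v p L)
include hS

/-- what centralises a non-trivial normal subgroup of `C(t)` inside `T` lies in `C(t)` -/
theorem commute_of_centralized {B : Subgroup G} (hB : B ≤ coreAt p t) (hne : B ≠ ⊥)
    (hn : centralizer ({t} : Set G) ≤ normalizer (B : Set G)) {w : G} (hw : ∀ b ∈ B, Commute b w) :
    Commute w t := by
  have hA := hS.part.hA
  haveI := hA.min.simple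
  have h : w ∈ normalizer (B : Set G) :=
    centralizer_le_normalizer _ (mem_centralizer_iff.2 fun b hb => (hw b hb).eq)
  rw [norm_eq (hA.maximal t hA.invol) hne (hB.trans (coreAt_le p t)) hn] at h
  exact mem_centralizer_singleton_iff.1 h

/-- the two factors of an element of order `p` of `A` have order `p` -/
theorem pow_factor {y x : G} (hy : y ∈ fixAt p t v) (hx : x ∈ hS.invPart) (h : (y * x) ^ p = 1) :
    y ^ p = 1 ∧ x ^ p = 1 := by
  have hc : Commute y x :=
    hS.commute_inf_L ⟨(mem_fixAt.1 hy).1, hS.fixAt_le hy⟩ (hS.invPart_le hx)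
  rw [hc.mul_pow] at h
  have h1 : x ^ p = 1 := hS.disjoint_invPart (pow_mem hx p) (by
    rw [← inv_inv (x ^ p), ← mul_eq_one_iff_eq_inv.1 h]
    exact inv_mem (hS.fixAt_le_ocN (pow_mem hy p)))
  exact ⟨by rwa [h1, mul_one] at h, h1⟩

/-- if `y' ∈ A - Y` has order `p`, then `y` and `y'` generate the elements of order `p` of `A` -/
theorem commute_omega [Fact p.Prime] {y y' w : G} (hy : y ∈ fixAt p t v) (hy1 : y ≠ 1) (hy' : y' ∈ coreAt p t ⊓ L)
    (hyp' : y' ^ p = 1) (hnY : y' ∉ fixAt p t v) (hyw : Commute y w) (hy'w : Commute y' w) {a : G}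
    (ha : a ∈ coreAt p t ⊓ L) (hap : a ^ p = 1) : Commute a w := by
  haveI := hS.isCyclic_fixAt
  haveI := hS.isCyclic_invPart
  have hpY : IsPGroup p (fixAt p t v) := (isPGroup_coreAt p t).to_le inf_le_left
  have hpX : IsPGroup p hS.invPart := (isPGroup_coreAt p t).to_le (hS.invPart_le.trans inf_le_left)
  have hY : ∀ z ∈ fixAt p t v, z ^ p = 1 → Commute z w := fun z hz hzp => by
    obtain ⟨i, rfl⟩ := mem_zpowers_iff.1 (mem_zpowers_of_pow_prime hpY hy hy1 hz hzp)
    exact hyw.zpow_left i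
  obtain ⟨y₁, hy₁, x₁, hx₁, rfl⟩ := hS.exists_mul_invPart hy'
  obtain ⟨hy₁p, -⟩ := hS.pow_factor hy₁ hx₁ hyp'
  have hx₁1 : x₁ ≠ 1 := fun h => hnY (by rwa [h, mul_one])
  have hx₁w : Commute x₁ w := by
    rw [show x₁ = y₁⁻¹ * (y₁ * x₁) by group]
    exact (hY y₁ hy₁ hy₁p).inv_left.mul_left hy'w
  obtain ⟨y₂, hy₂, x₂, hx₂, rfl⟩ := hS.exists_mul_invPart ha
  obtain ⟨hy₂p, hx₂p⟩ := hS.pow_factor hy₂ hx₂ hap
  obtain ⟨i, rfl⟩ := mem_zpowers_iff.1 (mem_zpowers_of_pow_prime hpX hx₁ hx₁1 hx₂ hx₂p)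
  exact (hY y₂ hy₂ hy₂p).mul_left (hx₁w.zpow_left i)

/-- **`t` is the only conjugate of `t` in `L` that an element of `C(t)` outside `L` keeps in `L`** -/
theorem eq_of_meet
    (hA : centralizer ({t} : Set G) ≤ normalizer ((coreAt p t ⊓ L : Subgroup G) : Set G) ∨
      (Nat.card (coreAt p t) = p ^ 2 * Nat.card hS.invPart ∧
        centralizer ({t} : Set G) ≤ normalizer (hS.invPart : Set G)))
    {c w : G} (hc : Commute c t) (hcL : c ∉ L) (hw : w ∈ tConj t L) (hcw : c⁻¹ * w * c ∈ tConj t L) : w = t := by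
  haveI := Fact.mk hS.part.prime
  have hpY : IsPGroup p (fixAt p t v) := (isPGroup_coreAt p t).to_le inf_le_left
  obtain ⟨⟨y, hy⟩, hyo⟩ : ∃ y : fixAt p t v, orderOf y = p := by
    refine exists_prime_orderOf_dvd_card' p ?_
    obtain ⟨k, hk⟩ := hpY.exists_card_eq
    rw [hk]
    exact dvd_pow_self p fun h => hS.part.fixAt_ne_bot (Subgroup.eq_bot_of_card_eq _ (by rw [hk, h, pow_zero]))
  rw [Subgroup.orderOf_mk] at hyo
  have hy1 : y ≠ 1 := fun h => by rw [h, orderOf_one] at hyo; exact hS.part.prime.one_lt.ne hyo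
  have hyp : y ^ p = 1 := hyo ▸ pow_orderOf_eq_one y
  have hyw : Commute y w := hS.commute_ocN_tConj hw (hS.fixAt_le_ocN hy)
  set y' := c * y * c⁻¹ with hy'
  have hy'T : y' ∈ coreAt p t := (mem_normalizer_iff.1 (mem_normalizer_coreAt hc) y).1 (mem_fixAt.1 hy).1
  have hy'p : y' ^ p = 1 := by rw [hy', conj_pow, hyp, mul_one, mul_inv_cancel]
  have hy'w : Commute y' w := by
    have := (hS.commute_ocN_tConj hcw (hS.fixAt_le_ocN hy)).map (MulAut.conj c).toMonoidHom
    simpa [hy', mul_assoc] using this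
  have hy'1 : y' ≠ 1 := fun h => hy1 (by
    rwa [hy', ← MulAut.conj_apply, map_eq_one_iff _ (MulEquiv.injective _)] at h)
  have hnY : y' ∉ fixAt p t v := fun h => hcL (hS.mem_of_meet hc h hy'1 (by
    rw [hy', show c⁻¹ * (c * y * c⁻¹) * c = y by group]; exact hy))
  have hwt : Commute w t := by
    rcases hA with hn | ⟨hcard, hn⟩
    · have hy'A : y' ∈ coreAt p t ⊓ L :=
        (mem_normalizer_iff.1 (hn (mem_centralizer_singleton_iff.2 hc.eq)) y).1 ⟨(mem_fixAt.1 hy).1, hS.fixAt_le hy⟩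
      refine hS.commute_of_centralized (B := omegaPart p (coreAt p t ⊓ L))
        ((omegaPart_le p _).trans inf_le_left) (fun h => hy1 (mem_bot.1 ?_))
        (hn.trans (normalizer_le_omegaPart p _)) fun b hb => ?_
      · exact h ▸ subset_closure ⟨⟨(mem_fixAt.1 hy).1, hS.fixAt_le hy⟩, hyp⟩
      · refine (mem_centralizer_singleton_iff.1
          ((closure_le (centralizer ({w} : Set G))).2 (fun a ha => ?_) hb) : Commute b w)
        exact mem_centralizer_singleton_iff.2
          (hS.commute_omega hy hy1 hy'A hy'p hnY hyw hy'w ha.1 ha.2).eq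
    · have hpX : IsPGroup p hS.invPart := (isPGroup_coreAt p t).to_le (hS.invPart_le.trans inf_le_left)
      haveI := hS.isCyclic_invPart
      obtain ⟨⟨x, hx⟩, hxo⟩ : ∃ x : hS.invPart, orderOf x = p := by
        refine exists_prime_orderOf_dvd_card' p ?_
        obtain ⟨k, hk⟩ := hpX.exists_card_eq
        rw [hk]
        exact dvd_pow_self p fun h => hS.invPart_ne_bot (Subgroup.eq_bot_of_card_eq _ (by rw [hk, h, pow_zero]))
      rw [Subgroup.orderOf_mk] at hxo
      refine hS.commute_of_centralized (B := omegaPart p hS.invPart)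
        ((omegaPart_le p _).trans (hS.invPart_le.trans inf_le_left)) (fun h => ?_)
        (hn.trans (normalizer_le_omegaPart p _)) fun b hb => ?_
      · have hx1 : x = 1 := mem_bot.1 (h ▸ subset_closure ⟨hx, hxo ▸ pow_orderOf_eq_one x⟩)
        rw [hx1, orderOf_one] at hxo
        exact hS.part.prime.one_lt.ne hxo
      refine (mem_centralizer_singleton_iff.1
        ((closure_le (centralizer ({w} : Set G))).2 (fun a ha => ?_) hb) : Commute b w)
      refine mem_centralizer_singleton_iff.2 (Commute.eq ?_)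
      by_cases hyy : Commute y' y
      · exact hS.commute_omega hy hy1 ⟨hy'T, hS.mem_of_commute (commute_coreAt hy'T) hy hy1 hyy⟩ hy'p hnY hyw
          hy'w (hS.invPart_le ha.1) ha.2
      · set T := coreAt p t
        have hXT : hS.invPart ≤ T := hS.invPart_le.trans inf_le_left
        set X := hS.invPart.subgroupOf T with hX
        haveI : X.Normal := (normal_subgroupOf_iff_le_normalizer hXT).2
          ((coreAt_le p t).trans hn)
        have hq : Nat.card (T ⧸ X) = p ^ 2 := by
          have h1 := X.card_eq_card_quotient_mul_card_subgroup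
          rw [hcard, hX, Nat.card_congr (subgroupOfEquivOfLe hXT).toEquiv] at h1
          exact (Nat.eq_of_mul_eq_mul_right Nat.card_pos h1).symm
        have hcom := (IsPGroup.commGroupOfCardEqPrimeSq hq).mul_comm
        set d := y' * y * y'⁻¹ * y⁻¹ with hd
        have hdX : d ∈ hS.invPart := by
          refine mem_subgroupOf.1 ((QuotientGroup.eq_one_iff (N := X)
            ((⟨y', hy'T⟩ : T) * ⟨y, (mem_fixAt.1 hy).1⟩ * (⟨y', hy'T⟩ : T)⁻¹ *
              (⟨y, (mem_fixAt.1 hy).1⟩ : T)⁻¹)).1 ?_)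
          show QuotientGroup.mk' X _ = 1
          rw [map_mul, map_mul, map_mul, map_inv, map_inv]
          exact mul_inv_eq_one.2 (mul_inv_eq_iff_eq_mul.2 (hcom _ _))
        have hd1 : d ≠ 1 := fun h => hyy (mul_inv_eq_iff_eq_mul.1 (mul_inv_eq_one.1 h))
        obtain ⟨i, rfl⟩ := mem_zpowers_iff.1 (mem_zpowers_of_pow_prime hpX hdX hd1 ha.1 ha.2)
        exact ((((hy'w.mul_left hyw).mul_left hy'w.inv_left).mul_left hyw.inv_left).zpow_left i)
  by_contra hne
  exact hnY ((hS.change hw hwt hne).2.le (mem_fixAt.2 ⟨hy'T, hy'w⟩))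

/-- **two conjugates of `t` in `L` do not meet in another coset of `L`** -/
theorem meet_unique (hin : ∀ u ∈ L, orderOf u = 2 → u ∈ tConj t L)
    (hA : centralizer ({t} : Set G) ≤ normalizer ((coreAt p t ⊓ L : Subgroup G) : Set G) ∨
      (Nat.card (coreAt p t) = p ^ 2 * Nat.card hS.invPart ∧
        centralizer ({t} : Set G) ≤ normalizer (hS.invPart : Set G))) :
    ∀ g ∉ L, ∀ u ∈ tConj t L, ∀ w ∈ tConj t L, g⁻¹ * u * g ∈ L → g⁻¹ * w * g ∈ L → u = w := by
  intro g hg u hu w hw hgu hgw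
  have hto := hS.part.hA.invol
  have hconj : ∀ {z : G}, orderOf z = 2 → ∀ a : G, orderOf (a⁻¹ * z * a) = 2 := fun {z} hz a => by
    have := MulEquiv.orderOf_eq (MulAut.conj a⁻¹) z
    rw [MulAut.conj_apply, inv_inv] at this
    rw [this, hz]
  obtain ⟨l, hl, rfl⟩ := id hu
  obtain ⟨m, hm, hmu⟩ := hin _ hgu (hconj (orderOf_tConj hto hu) g)
  set c := l⁻¹ * g * m with hcdef
  have hct : Commute c t := by
    show c * t = t * c
    calc c * t = l⁻¹ * g * (m * t * m⁻¹) * m := by rw [hcdef]; group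
      _ = t * c := by rw [hmu, hcdef]; group
  have hcL : c ∉ L := fun h => hg (by
    rw [show g = l * c * m⁻¹ by rw [hcdef]; group]
    exact mul_mem (mul_mem hl h) (inv_mem hm))
  have hw' : l⁻¹ * w * l ∈ tConj t L := by
    obtain ⟨a, ha, rfl⟩ := hw
    exact ⟨l⁻¹ * a, mul_mem (inv_mem hl) ha, by group⟩
  have hcw : c⁻¹ * (l⁻¹ * w * l) * c ∈ tConj t L := by
    refine hin _ ?_ (hconj (orderOf_tConj hto hw') c)
    rw [show c⁻¹ * (l⁻¹ * w * l) * c = m⁻¹ * (g⁻¹ * w * g) * m by rw [hcdef]; group]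
    exact mul_mem (mul_mem (inv_mem hm) hgw) hm
  rw [← hS.eq_of_meet hA hct hcL hw' hcw]
  group

/-- **`n = 1` modulo each prime of `F(C(t))`** -/
theorem index_modEq (hin : ∀ u ∈ L, orderOf u = 2 → u ∈ tConj t L)
    (hout : ∀ u : G, orderOf u = 2 → Commute u t → ∃ c, Commute c t ∧ c * u * c⁻¹ ∈ L) {q : ℕ} (hq : q.Prime)
    (hq2 : q ≠ 2) (hne : coreAt q t ≠ ⊥) : (q : ℤ) ∣ ((centralizer ({t} : Set G)).index : ℤ) - 1 := by
  haveI := Fact.mk hq
  have hA := hS.part.hA
  haveI := hA.min.simple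
  set C := centralizer ({t} : Set G) with hC
  have hfix : ∀ x, x ∈ MulAction.fixedPoints (coreAt q t) (G ⧸ C) → x = ((1 : G) : G ⧸ C) := by
    intro x hx
    obtain ⟨g, rfl⟩ := QuotientGroup.mk_surjective x
    refine QuotientGroup.eq.2 ?_
    rw [mul_one, C.inv_mem_iff]
    set u := g * t * g⁻¹ with hu
    have hcom : ∀ a ∈ coreAt q t, Commute a u := fun a ha => by
      have h1 : ((a * g : G) : G ⧸ C) = (g : G ⧸ C) := hx ⟨a, ha⟩
      have h2 : Commute ((a * g)⁻¹ * g) t := mem_centralizer_singleton_iff.1 (QuotientGroup.eq.1 h1)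
      have h3 := h2.inv_left.map (MulAut.conj g).toMonoidHom
      simpa [hu, mul_assoc] using h3
    have hu2 : orderOf u = 2 := by rw [hu, ← MulAut.conj_apply, MulEquiv.orderOf_eq, hA.invol]
    have hut : Commute u t := by
      have h : u ∈ normalizer (coreAt q t : Set G) :=
        centralizer_le_normalizer _ (mem_centralizer_iff.2 fun a ha => (hcom a ha).eq)
      rw [norm_eq (hA.maximal t hA.invol) hne (coreAt_le q t) (le_normalizer_opc q _)] at h
      exact mem_centralizer_singleton_iff.1 h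
    refine mem_centralizer_singleton_iff.2 (mul_inv_eq_iff_eq_mul.1 ?_)
    show u = t
    by_contra hut1
    obtain ⟨c, hc, hcL⟩ := hout u hu2 hut
    set u' := c * u * c⁻¹ with hu'
    have hct : c * t * c⁻¹ = t := mul_inv_eq_iff_eq_mul.2 hc.eq
    have hu'2 : orderOf u' = 2 := by rw [hu', ← MulAut.conj_apply, MulEquiv.orderOf_eq, hu2]
    have hu't : Commute u' t := by
      have := hut.map (MulAut.conj c).toMonoidHom
      simpa [hu', hct] using this
    have hu'1 : u' ≠ t := fun h => hut1 (mul_left_cancel (mul_right_cancel (h.trans hct.symm)))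
    obtain ⟨x, hx', -, hx1, hxinv⟩ :=
      (hS.change (hin u' hcL hu'2) hu't hu'1).1.exists_inverted_core hq hq2 hne
    have hxu : Commute x u' := by
      have := (hcom _ ((mem_normalizer_iff''.1 (mem_normalizer_coreAt hc) x).1 hx')).map (MulAut.conj c).toMonoidHom
      simpa [hu', mul_assoc] using this
    exact hx1 (CaseB.eq_one_of_inv_fix hxinv hxu.symm (orderOf_odd hq2 (isPGroup_coreAt q t) hx'))
  have hfix1 : ((1 : G) : G ⧸ C) ∈ MulAction.fixedPoints (coreAt q t) (G ⧸ C) := fun a => by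
    show (((a : G) * 1 : G) : G ⧸ C) = _
    refine QuotientGroup.eq.2 ?_
    rw [mul_one, mul_one, C.inv_mem_iff]
    exact coreAt_le q t a.2
  have h1 : Nat.card (MulAction.fixedPoints (coreAt q t) (G ⧸ C)) = 1 := Nat.card_eq_one_iff_unique.2
    ⟨⟨fun a b => Subtype.ext ((hfix a a.2).trans (hfix b b.2).symm)⟩, ⟨⟨_, hfix1⟩⟩⟩
  have h := (isPGroup_coreAt q t).card_modEq_card_fixedPoints (G ⧸ C)
  rw [h1] at h
  have h' := Nat.modEq_iff_dvd.1 h.symm
  rw [Nat.cast_one] at h'
  exact h'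

end Setup

end CfsgLib.GW.CaseA
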