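import Cfsg.Agent.Lib.CFun.OddUniqueness
import Cfsg.Agent.Lib.Invol.RetractTransfer
import Cfsg.Agent.Lib.Coprime.Solvable

/-!
# A `p`-group with an involution having a cyclic, nearly self-centralising fixed point group

`T` is a `p`-group normalised by the involution `v`, `Y = C_T(v)` is cyclic and nontrivial, `A = C_T(Y) = Y × X`
with `X` cyclic inverted by `v`, and `A` contains the centraliser of each nontrivial element of `Y`.
-/

set_option autoImplicit false
set_option linter.style.haveILetI false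
set_option linter.unusedSectionVars false

open Subgroup
open scoped Pointwise

namespace CfsgLib.GW.CaseA

universe u

variable {G : Type u} [Group G] [Finite G]

theorem center_mem {T : Subgroup G} {z : G} :
    z ∈ T ⊓ centralizer (T : Set G) ↔ z ∈ T ∧ ∀ u ∈ T, Commute z u := by
  rw [mem_inf, mem_centralizer_iff]
  exact and_congr_right fun _ => forall₂_congr fun _ _ => eq_comm

/-- the second centre of a subgroup -/
def secondCenter (T : Subgroup G) : Subgroup G where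
  carrier := {x | x ∈ T ∧ ∀ u ∈ T, x * u * x⁻¹ * u⁻¹ ∈ T ⊓ centralizer (T : Set G)}
  one_mem' := ⟨one_mem T, fun u _ => by simp⟩
  mul_mem' {a b} ha hb := ⟨mul_mem ha.1 hb.1, fun u hu => by
    have h1 := (center_mem.1 (hb.2 u hu)).2 a ha.1
    have h2 : a * b * u * (a * b)⁻¹ * u⁻¹ = (b * u * b⁻¹ * u⁻¹) * (a * u * a⁻¹ * u⁻¹) :=
      calc a * b * u * (a * b)⁻¹ * u⁻¹ = a * (b * u * b⁻¹ * u⁻¹) * (u * a⁻¹ * u⁻¹) := by group
        _ = (b * u * b⁻¹ * u⁻¹) * a * (u * a⁻¹ * u⁻¹) := by rw [h1.eq]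
        _ = _ := by group
    rw [h2]
    exact mul_mem (hb.2 u hu) (ha.2 u hu)⟩
  inv_mem' {a} ha := ⟨inv_mem ha.1, fun u hu => by
    have h1 := (center_mem.1 (ha.2 u hu)).2 a⁻¹ (inv_mem ha.1)
    have h2 : a⁻¹ * u * a⁻¹⁻¹ * u⁻¹ = (a * u * a⁻¹ * u⁻¹)⁻¹ :=
      calc a⁻¹ * u * a⁻¹⁻¹ * u⁻¹ = a⁻¹ * (a * u * a⁻¹ * u⁻¹)⁻¹ * a := by group
        _ = (a * u * a⁻¹ * u⁻¹)⁻¹ * a⁻¹ * a := by rw [(h1.inv_left).symm.eq]
        _ = _ := inv_mul_cancel_right _ _
    rw [h2]
    exact inv_mem (ha.2 u hu)⟩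

theorem mem_secondCenter {T : Subgroup G} {x : G} :
    x ∈ secondCenter T ↔ x ∈ T ∧ ∀ u ∈ T, x * u * x⁻¹ * u⁻¹ ∈ T ⊓ centralizer (T : Set G) := Iff.rfl

theorem secondCenter_le (T : Subgroup G) : secondCenter T ≤ T := fun _ h => h.1

theorem conj_mem_of_normalizer {T : Subgroup G} {g x : G} (hg : g ∈ normalizer (T : Set G)) (hx : x ∈ T) :
    g * x * g⁻¹ ∈ T := (mem_normalizer_iff.1 hg x).1 hx

omit [Finite G] in
theorem le_normalizer_of_conj_mem {N H : Subgroup G} (h : ∀ g ∈ N, ∀ x ∈ H, g * x * g⁻¹ ∈ H) :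
    N ≤ normalizer (H : Set G) := fun g hg => mem_normalizer_iff.2 fun x =>
  ⟨h g hg x, fun hx => by
    have h1 := h g⁻¹ (inv_mem hg) _ hx
    rwa [show g⁻¹ * (g * x * g⁻¹) * g⁻¹⁻¹ = x by group] at h1⟩

theorem normalizer_le_center (T : Subgroup G) :
    normalizer (T : Set G) ≤ normalizer ((T ⊓ centralizer (T : Set G) : Subgroup G) : Set G) :=
  le_normalizer_of_conj_mem fun g hg z hz => center_mem.2 ⟨conj_mem_of_normalizer hg hz.1, fun u hu => by
    have h := ((center_mem.1 hz).2 _ (conj_mem_of_normalizer (inv_mem hg) hu)).map (MulAut.conj g).toMonoidHom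
    change Commute (g * z * g⁻¹) (g * (g⁻¹ * u * g⁻¹⁻¹) * g⁻¹) at h
    rwa [show g * (g⁻¹ * u * g⁻¹⁻¹) * g⁻¹ = u by group] at h⟩

theorem normalizer_le_secondCenter (T : Subgroup G) :
    normalizer (T : Set G) ≤ normalizer (secondCenter T : Set G) :=
  le_normalizer_of_conj_mem fun g hg x hx => ⟨conj_mem_of_normalizer hg hx.1, fun u hu => by
    have h := conj_mem_of_normalizer (normalizer_le_center T hg)
      (hx.2 _ (conj_mem_of_normalizer (inv_mem hg) hu))
    rwa [show g * (x * (g⁻¹ * u * g⁻¹⁻¹) * x⁻¹ * (g⁻¹ * u * g⁻¹⁻¹)⁻¹) * g⁻¹ =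
      g * x * g⁻¹ * u * (g * x * g⁻¹)⁻¹ * u⁻¹ by group] at h⟩

/-- the centraliser in `T` of a subgroup normalised by the normaliser of `T` -/
theorem normalizer_le_centralizer {T W : Subgroup G} (hW : normalizer (T : Set G) ≤ normalizer (W : Set G)) :
    normalizer (T : Set G) ≤ normalizer ((T ⊓ centralizer (W : Set G) : Subgroup G) : Set G) :=
  le_normalizer_of_conj_mem fun g hg x hx => ⟨conj_mem_of_normalizer hg hx.1, mem_centralizer_iff.2 fun w hw => by
    have h := mem_centralizer_iff.1 hx.2 _ (conj_mem_of_normalizer (hW (inv_mem hg)) hw)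
    calc w * (g * x * g⁻¹) = g * ((g⁻¹ * w * g⁻¹⁻¹) * x) * g⁻¹ := by group
      _ = g * (x * (g⁻¹ * w * g⁻¹⁻¹)) * g⁻¹ := by rw [h]
      _ = g * x * g⁻¹ * w := by group⟩

/-- normal elementary subgroups of order `p²` lie in the second centre -/
theorem le_secondCenter {p : ℕ} [Fact p.Prime] {T E : Subgroup G} (hT : IsPGroup p T) (hET : E ≤ T)
    (hTE : T ≤ normalizer (E : Set G)) (hE : Nat.card E = p ^ 2) : E ≤ secondCenter T := by
  classical
  have hpp : p.Prime := Fact.out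
  set E' := E.subgroupOf T
  haveI : E'.Normal := (normal_subgroupOf_iff_le_normalizer hET).2 hTE
  haveI := hT.isNilpotent
  set Fc := E' ⊓ center T
  set π := QuotientGroup.mk' Fc
  have hE' : E' ≠ ⊥ := fun e => by
    have h1 : Nat.card E' = Nat.card E := Nat.card_congr (subgroupOfEquivOfLe hET).toEquiv
    rw [e, Subgroup.card_bot, hE] at h1
    have := Nat.one_lt_pow two_ne_zero hpp.one_lt
    omega
  have hFc : Fc ≠ ⊥ := CfsgLib.Coprime.nilpotent_inf_center_ne_bot E' hE'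
  haveI := Subgroup.Normal.map (inferInstance : E'.Normal) π (QuotientGroup.mk'_surjective Fc)
  haveI := (hT.to_quotient Fc).isNilpotent
  have hcardI : Nat.card (E'.map π) ∣ p := by
    have h1 : Nat.card (E'.map π) * Nat.card Fc = p ^ 2 := by
      have h2 : Nat.card (E'.map π) = Fc.relIndex E' := by
        rw [← relIndex_bot_left, ← Subgroup.map_bot π, relIndex_map_map, QuotientGroup.ker_mk', bot_sup_eq,
          sup_eq_left.2 (inf_le_left : Fc ≤ E')]
      have h3 := relIndex_mul_relIndex (⊥ : Subgroup T) Fc E' bot_le inf_le_left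
      rw [relIndex_bot_left, relIndex_bot_left] at h3
      rw [h2, mul_comm, h3, Nat.card_congr (subgroupOfEquivOfLe hET).toEquiv, hE]
    obtain ⟨i, -, hi⟩ := (Nat.dvd_prime_pow hpp).1 (Dvd.intro_left _ h1 : Nat.card Fc ∣ p ^ 2)
    have hi1 : 1 ≤ i := by
      by_contra h
      refine hFc (Subgroup.eq_bot_of_card_eq _ ?_)
      rw [hi, show i = 0 by omega, pow_zero]
    refine Nat.dvd_of_mul_dvd_mul_right hpp.pos ?_
    refine (Nat.mul_dvd_mul_left _ (dvd_pow_self p (show i ≠ 0 by omega))).trans ?_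
    rw [← hi, h1, sq]
  have hcen : E'.map π ≤ center (T ⧸ Fc) := by
    by_cases h0 : E'.map π = ⊥
    · rw [h0]; exact bot_le
    have h1 := CfsgLib.Coprime.nilpotent_inf_center_ne_bot (E'.map π) h0
    intro x hx
    have h2 : (E'.map π ⊓ center (T ⧸ Fc)) = E'.map π := by
      refine Subgroup.eq_of_le_of_card_ge inf_le_left ?_
      rcases (Nat.dvd_prime hpp).1 hcardI with h | h
      · exact absurd (Subgroup.eq_bot_of_card_eq _ h) h0
      · rcases (Nat.dvd_prime hpp).1 (h ▸ card_dvd_of_le (inf_le_left (b := center (T ⧸ Fc)))) with h' | h'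
        · exact absurd (Subgroup.eq_bot_of_card_eq _ h') h1
        · rw [h, h']
    exact (h2.ge hx).2
  intro x hx
  refine ⟨hET hx, fun u hu => ?_⟩
  have hc := mem_center_iff.1 (hcen (mem_map_of_mem π (mem_subgroupOf.2 hx : (⟨x, hET hx⟩ : T) ∈ E'))) (π ⟨u, hu⟩)
  have hmem : (⟨x, hET hx⟩ : T) * ⟨u, hu⟩ * (⟨x, hET hx⟩ : T)⁻¹ * (⟨u, hu⟩ : T)⁻¹ ∈ Fc := by
    refine (QuotientGroup.eq_one_iff _).1 ?_
    show π _ = 1
    rw [map_mul, map_mul, map_mul, map_inv, map_inv, ← hc, mul_inv_cancel_right, mul_inv_cancel]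
  refine center_mem.2 ⟨mul_mem (mul_mem (mul_mem (hET hx) hu) (inv_mem (hET hx))) (inv_mem hu), fun w hw => ?_⟩
  exact (congrArg Subtype.val (mem_center_iff.1 hmem.2 ⟨w, hw⟩)).symm

/-- few subgroups one step above a subgroup of index `p²` -/
theorem ncard_le_of_step {p : ℕ} [Fact p.Prime] {T Z : Subgroup G} (hT : IsPGroup p T) (hZT : Z ≤ T)
    (hTcard : Nat.card T = p ^ 2 * Nat.card Z) (S : Set (Subgroup G))
    (hS : ∀ B ∈ S, Z ≤ B ∧ B ≤ T ∧ Nat.card B = p * Nat.card Z) : S.ncard ≤ p + 1 := by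
  classical
  letI := Fintype.ofFinite G
  have hpp : p.Prime := Fact.out
  set s : Finset (Subgroup G) := (Set.toFinite S).toFinset
  let f : Subgroup G → Finset G := fun B => (B : Set G).toFinset \ (Z : Set G).toFinset
  have hcard : ∀ B ∈ s, (f B).card = p * Nat.card Z - Nat.card Z := fun B hB => by
    obtain ⟨h1, -, h3⟩ := hS B ((Set.Finite.mem_toFinset _).1 hB)
    rw [Finset.card_sdiff_of_subset (Set.toFinset_mono h1), Set.toFinset_card, Set.toFinset_card,
      ← Nat.card_eq_fintype_card, ← Nat.card_eq_fintype_card, ← h3]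
    rfl
  have hdis : ∀ B ∈ s, ∀ B' ∈ s, B ≠ B' → Disjoint (f B) (f B') := fun B hB B' hB' hne => by
    rw [Finset.disjoint_left]
    intro x hx hx'
    simp only [f, Finset.mem_sdiff, Set.mem_toFinset, SetLike.mem_coe] at hx hx'
    obtain ⟨h1, h2, h3⟩ := hS B ((Set.Finite.mem_toFinset _).1 hB)
    obtain ⟨h1', -, h3'⟩ := hS B' ((Set.Finite.mem_toFinset _).1 hB')
    -- the common part is everything
    obtain ⟨i, hi⟩ := ((hT.to_le hZT).exists_card_eq)
    obtain ⟨j, hj⟩ := ((hT.to_le h2).to_le (inf_le_left : B ⊓ B' ≤ B)).exists_card_eq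
    have hlt : Nat.card Z < Nat.card (B ⊓ B' : Subgroup G) := by
      by_contra hle
      exact hx.2 ((Subgroup.eq_of_le_of_card_ge (le_inf h1 h1') (not_lt.1 hle)).ge ⟨hx.1, hx'.1⟩)
    have hge : Nat.card B ≤ Nat.card (B ⊓ B' : Subgroup G) := by
      rw [hi, hj] at hlt
      rw [h3, hi, hj, ← pow_succ']
      exact Nat.pow_le_pow_right hpp.pos (Nat.succ_le_of_lt ((Nat.pow_lt_pow_iff_right hpp.one_lt).1 hlt))
    have e1 : B ⊓ B' = B := Subgroup.eq_of_le_of_card_ge inf_le_left hge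
    exact hne (Subgroup.eq_of_le_of_card_ge (inf_eq_left.1 e1) (by rw [h3, h3']))
  have hsub : s.biUnion f ⊆ (T : Set G).toFinset \ (Z : Set G).toFinset := by
    intro x hx
    obtain ⟨B, hB, hxB⟩ := Finset.mem_biUnion.1 hx
    simp only [f, Finset.mem_sdiff, Set.mem_toFinset, SetLike.mem_coe] at hxB ⊢
    exact ⟨(hS B ((Set.Finite.mem_toFinset _).1 hB)).2.1 hxB.1, hxB.2⟩
  have h := Finset.card_le_card hsub
  rw [Finset.card_biUnion hdis, Finset.sum_congr rfl hcard, Finset.sum_const, smul_eq_mul,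
    Finset.card_sdiff_of_subset (Set.toFinset_mono hZT), Set.toFinset_card, Set.toFinset_card,
    ← Nat.card_eq_fintype_card, ← Nat.card_eq_fintype_card] at h
  change s.card * (p * Nat.card Z - Nat.card Z) ≤ Nat.card T - Nat.card Z at h
  have e1 : p * Nat.card Z - Nat.card Z = (p - 1) * Nat.card Z := (Nat.sub_one_mul _ _).symm
  have e2 : Nat.card T - Nat.card Z = (p + 1) * ((p - 1) * Nat.card Z) := by
    rw [hTcard, ← mul_assoc, ← Nat.sq_sub_sq, one_pow, Nat.sub_mul, one_mul]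
  rw [e1, e2] at h
  rw [Set.ncard_eq_toFinset_card S (Set.toFinite S)]
  exact Nat.le_of_mul_le_mul_right h (Nat.mul_pos (by have := hpp.two_le; omega) Nat.card_pos)

/-- **the three shapes of `T`** -/
theorem pGroup_shape {p : ℕ} [Fact p.Prime] (hp : p ≠ 2) {T Y X : Subgroup G} (hT : IsPGroup p T) {v : G}
    (hv : orderOf v = 2) (hvT : v ∈ normalizer (T : Set G)) (hYdef : Y = T ⊓ centralizer ({v} : Set G))
    (hY0 : Y ≠ ⊥) (hXA : X ≤ T ⊓ centralizer (Y : Set G)) [IsCyclic X]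
    (hXv : ∀ x ∈ X, v * x * v⁻¹ = x⁻¹) (hYc : IsCyclic Y) (hA : T ⊓ centralizer (Y : Set G) = Y ⊔ X)
    (hTI : ∀ y ∈ Y, y ≠ 1 → T ⊓ centralizer ({y} : Set G) ≤ T ⊓ centralizer (Y : Set G)) :
    normalizer (T : Set G) ≤ normalizer ((T ⊓ centralizer (Y : Set G) : Subgroup G) : Set G) ∨
      ((T ⊓ centralizer (Y : Set G)).relIndex T = p ∧ Nat.card Y = p ∧
        X = T ⊓ centralizer (T : Set G) ∧ Nat.card T = p ^ 2 * Nat.card X ∧
        normalizer (T : Set G) ≤ normalizer (X : Set G) ∧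
        ((fun g : G => (T ⊓ centralizer (Y : Set G)).map (MulAut.conj g).toMonoidHom) ''
          (normalizer (T : Set G) : Set G)).ncard ≤ p + 1) ∨
      ∃ B : Subgroup G, B ≤ T ∧ normalizer (T : Set G) ≤ normalizer (B : Set G) ∧ IsMulCommutative B ∧
        B ⊓ Y = ⊥ ∧ B ⊔ Y = T ∧ (∀ b ∈ B, v * b * v⁻¹ = b⁻¹) ∧ T ⊓ centralizer (B : Set G) ≤ B := by
  classical
  have hpp : p.Prime := Fact.out
  set A := T ⊓ centralizer (Y : Set G) with hAdef
  have hYT : Y ≤ T := hYdef ▸ inf_le_left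
  have hmemY : ∀ {x : G}, x ∈ Y ↔ x ∈ T ∧ Commute x v := fun {x} => by
    rw [hYdef, mem_inf, mem_centralizer_singleton_iff]
    rfl
  have hodd : ∀ {x : G}, x ∈ T → Odd (orderOf x) := fun {x} hx => by
    obtain ⟨k, hk⟩ := IsPGroup.iff_orderOf.1 hT ⟨x, hx⟩
    rw [Subgroup.orderOf_mk] at hk
    rw [hk]
    exact (hpp.odd_of_ne_two hp).pow
  have hsq : ∀ {x : G}, x ∈ T → x * x = 1 → x = 1 := fun {x} hx h => by
    obtain ⟨j, hj⟩ := hodd hx
    have := pow_orderOf_eq_one x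
    rwa [hj, pow_succ, pow_mul, sq, h, one_pow, one_mul] at this
  have hYA : ∀ y ∈ Y, ∀ a ∈ A, Commute y a := fun y hy a ha => mem_centralizer_iff.1 ha.2 y hy
  have hdec : ∀ a ∈ A, ∃ y ∈ Y, ∃ x ∈ X, y * x = a := by
    intro a ha
    have hYn : Y ≤ normalizer (X : Set G) := le_normalizer_of_conj_mem fun y hy x hx => by
      rw [(hYA y hy x (hXA hx)).eq, mul_inv_cancel_right]; exact hx
    refine Set.mem_mul.1 ?_
    rw [← coe_mul_of_left_le_normalizer_right Y X hYn]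
    exact hA ▸ ha
  -- inverted elements of `A` lie in `X`
  have hinvX : ∀ a ∈ A, v * a * v⁻¹ = a⁻¹ → a ∈ X := by
    intro a ha hainv
    obtain ⟨y, hy, x, hx, rfl⟩ := hdec a ha
    have hyx := hYA y hy x (hXA hx)
    have h1 : v * y * v⁻¹ = y := mul_inv_eq_iff_eq_mul.2 (hmemY.1 hy).2.symm.eq
    rw [show v * (y * x) * v⁻¹ = (v * y * v⁻¹) * (v * x * v⁻¹) by group, h1, hXv x hx, _root_.mul_inv_rev,
      (hyx.inv_left.inv_right).symm.eq] at hainv
    have hy1 : y = 1 := hsq (hYT hy) (mul_eq_one_iff_eq_inv.2 (mul_right_cancel hainv))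
    rw [hy1, one_mul]
    exact hx
  by_cases hAT : T ≤ A
  · left
    rw [show A = T from le_antisymm inf_le_left hAT]
  set Z := T ⊓ centralizer (T : Set G) with hZdef
  have hZA : Z ≤ A := fun z hz => ⟨hz.1, mem_centralizer_iff.2 fun y hy => mem_centralizer_iff.1 hz.2 y (hYT hy)⟩
  have hYZ : ∀ y ∈ Y, y ∈ Z → y = 1 := fun y hy hz => by
    by_contra hy1
    exact hAT fun u hu => hTI y hy hy1 ⟨hu, mem_centralizer_singleton_iff.2 ((center_mem.1 hz).2 u hu).symm.eq⟩
  have hZinv : ∀ z ∈ Z, v * z * v⁻¹ = z⁻¹ :=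
    CfsgLib.Invol.inverts_of_fixedPointFree hv (fun z hz => conj_mem_of_normalizer (normalizer_le_center T hvT) hz)
      fun z hz h => hYZ z (hmemY.2 ⟨hz.1, (mul_inv_eq_iff_eq_mul.1 h).symm⟩) hz
  have hZX : Z ≤ X := fun z hz => hinvX z (hZA hz) (hZinv z hz)
  set W := secondCenter T with hW
  by_cases hYW : ∃ y ∈ Y, y ≠ 1 ∧ y ∈ W
  ·    -- an element of order `p`
    obtain ⟨y₀, hy₀, hy₀o, hy₀W⟩ : ∃ y₀ ∈ Y, orderOf y₀ = p ∧ y₀ ∈ W := by
      obtain ⟨y, hy, hy1, hyW⟩ := hYW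
      obtain ⟨k, hk⟩ := IsPGroup.iff_orderOf.1 hT ⟨y, hYT hy⟩
      rw [Subgroup.orderOf_mk] at hk
      have hk0 : 1 ≤ k := Nat.one_le_iff_ne_zero.2 fun h => hy1 (orderOf_eq_one_iff.1 (by rw [hk, h, pow_zero]))
      refine ⟨y ^ p ^ (k - 1), pow_mem hy _, ?_, pow_mem hyW _⟩
      rw [orderOf_pow_of_dvd (pow_ne_zero _ hpp.ne_zero) (hk ▸ pow_dvd_pow _ (Nat.sub_le k 1)), hk,
        Nat.pow_div (Nat.sub_le k 1) hpp.pos, Nat.sub_sub_self hk0, pow_one]
    have hy₀1 : y₀ ≠ 1 := fun h => hpp.one_lt.ne' (hy₀o ▸ h ▸ orderOf_one)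
    have hc : ∀ u ∈ T, y₀ * u * y₀⁻¹ * u⁻¹ ∈ Z := hy₀W.2
    set φ : T →* G := MonoidHom.mk' (fun u => y₀ * (u : G) * y₀⁻¹ * (u : G)⁻¹) fun a b => by
      have h1 := (center_mem.1 (hc b b.2)).2 a a.2
      calc y₀ * ((a * b : T) : G) * y₀⁻¹ * ((a * b : T) : G)⁻¹
          = (y₀ * (a : G) * y₀⁻¹) * (y₀ * (b : G) * y₀⁻¹ * (b : G)⁻¹) * (a : G)⁻¹ := by
            rw [Subgroup.coe_mul]; group
        _ = (y₀ * (a : G) * y₀⁻¹) * ((y₀ * (b : G) * y₀⁻¹ * (b : G)⁻¹) * (a : G)⁻¹) := mul_assoc _ _ _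
        _ = (y₀ * (a : G) * y₀⁻¹) * ((a : G)⁻¹ * (y₀ * (b : G) * y₀⁻¹ * (b : G)⁻¹)) := by rw [h1.inv_right.eq]
        _ = _ := by group
    have hφval : ∀ u : T, φ u = y₀ * (u : G) * y₀⁻¹ * (u : G)⁻¹ := fun u => rfl
    have hker : φ.ker = A.subgroupOf T := by
      ext u
      rw [MonoidHom.mem_ker, mem_subgroupOf, hφval, mul_inv_eq_one, mul_inv_eq_iff_eq_mul]
      exact ⟨fun h => hTI y₀ hy₀ hy₀1 ⟨u.2, mem_centralizer_singleton_iff.2 h.symm⟩,
        fun h => (hYA y₀ hy₀ u h).eq⟩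
    haveI : IsCyclic Z := isCyclic_of_injective _ (Subgroup.inclusion_injective hZX)
    have hrange : Nat.card φ.range ∣ p := by
      have hRZ : φ.range ≤ Z := by rintro _ ⟨u, rfl⟩; exact hc u u.2
      haveI : IsCyclic φ.range := isCyclic_of_injective _ (Subgroup.inclusion_injective hRZ)
      obtain ⟨⟨g, u, hu⟩, hg⟩ := IsCyclic.exists_generator (α := φ.range)
      rw [← orderOf_eq_card_of_forall_mem_zpowers hg, ← Subgroup.orderOf_coe]
      show orderOf g ∣ p
      rw [← hu, hφval]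
      refine orderOf_dvd_of_pow_eq_one ?_
      have hb : ∀ n : ℕ, y₀ ^ n * (u : G) * (y₀ ^ n)⁻¹ * (u : G)⁻¹ =
          (y₀ * (u : G) * y₀⁻¹ * (u : G)⁻¹) ^ n := by
        intro n
        induction n with
        | zero => simp
        | succ n ih =>
          rw [pow_succ (y₀ * (u : G) * y₀⁻¹ * (u : G)⁻¹), ← ih, pow_succ]
          have h1 := ((center_mem.1 (hc u u.2)).2 _ (pow_mem (hYT hy₀) n))
          calc y₀ ^ n * y₀ * (u : G) * (y₀ ^ n * y₀)⁻¹ * (u : G)⁻¹
              = y₀ ^ n * (y₀ * (u : G) * y₀⁻¹ * (u : G)⁻¹) * ((u : G) * (y₀ ^ n)⁻¹ * (u : G)⁻¹) := by group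
            _ = (y₀ * (u : G) * y₀⁻¹ * (u : G)⁻¹) * y₀ ^ n * ((u : G) * (y₀ ^ n)⁻¹ * (u : G)⁻¹) := by rw [h1.eq]
            _ = (y₀ * (u : G) * y₀⁻¹ * (u : G)⁻¹) * (y₀ ^ n * (u : G) * (y₀ ^ n)⁻¹ * (u : G)⁻¹) := by group
            _ = _ := ((center_mem.1 (hc u u.2)).2 _ (mul_mem (mul_mem (mul_mem (pow_mem (hYT hy₀) n) u.2)
                  (inv_mem (pow_mem (hYT hy₀) n))) (inv_mem u.2))).eq
      rw [← hb p, ← hy₀o, pow_orderOf_eq_one]
      group
    have hidx : A.relIndex T = p := by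
      rw [relIndex, ← hker, Subgroup.index_ker]
      refine ((Nat.dvd_prime hpp).1 hrange).resolve_left fun h => hAT ?_
      rw [← Subgroup.index_ker, hker, Subgroup.index_eq_one, subgroupOf_eq_top] at h
      exact h
    have hcardT : Nat.card A * p = Nat.card T := by
      rw [← hidx, relIndex, ← Nat.card_congr (subgroupOfEquivOfLe (inf_le_left : A ≤ T)).toEquiv]
      exact card_mul_index _
    by_cases hall : ∀ g ∈ normalizer (T : Set G), ∀ a ∈ A, g * a * g⁻¹ ∈ A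
    · exact Or.inl (le_normalizer_of_conj_mem hall)
    push Not at hall
    obtain ⟨g, hg, a₁, ha₁, hga₁⟩ := hall
    refine Or.inr (Or.inl ?_)
    have hconjT : ∀ g' ∈ normalizer (T : Set G), A.map (MulAut.conj g').toMonoidHom ≤ T := by
      rintro g' hg' _ ⟨a, ha, rfl⟩
      exact conj_mem_of_normalizer hg' ha.1
    have hconjcard : ∀ g' : G, Nat.card (A.map (MulAut.conj g').toMonoidHom) = Nat.card A := fun g' =>
      (Nat.card_congr (equivMapOfInjective _ _ (MulAut.conj g').injective).toEquiv).symm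
    set A' := A.map (MulAut.conj g).toMonoidHom with hA'
    have hA'T := hconjT g hg
    have hnle : ¬ A' ≤ A := fun h => hga₁ (h ⟨a₁, ha₁, rfl⟩)
    have hsup : A ⊔ A' = T := by
      refine le_antisymm (sup_le inf_le_left hA'T) ?_
      have h1 := relIndex_mul_relIndex A (A ⊔ A') T le_sup_left (sup_le inf_le_left hA'T)
      rw [hidx] at h1
      rcases (Nat.dvd_prime hpp).1 (Dvd.intro _ h1 : A.relIndex (A ⊔ A') ∣ p) with h | h
      · exact absurd (le_sup_right.trans (relIndex_eq_one.1 h)) hnle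
      · rw [h] at h1
        exact relIndex_eq_one.1 (Nat.eq_of_mul_eq_mul_left hpp.pos (h1.trans (mul_one p).symm))
    have hcomX : ∀ x ∈ X, ∀ x' ∈ X, Commute x x' := fun x hx x' hx' =>
      congrArg Subtype.val (IsCyclic.commGroup.mul_comm (⟨x, hx⟩ : X) ⟨x', hx'⟩)
    have hAcom : ∀ a ∈ A, ∀ b ∈ A, Commute a b := by
      intro a ha b hb
      obtain ⟨y, hy, x, hx, rfl⟩ := hdec a ha
      obtain ⟨y', hy', x', hx', rfl⟩ := hdec b hb
      exact ((hYA y hy _ hb)).mul_left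
        (((hYA y' hy' x (hXA hx)).symm).mul_right (hcomX x hx x' hx'))
    have hDZ : A ⊓ A' ≤ Z := fun d hd => center_mem.2 ⟨hd.1.1, fun u hu => by
      have hle : A ⊔ A' ≤ centralizer ({d} : Set G) := by
        refine sup_le (fun a ha => mem_centralizer_singleton_iff.2 (hAcom a ha d hd.1).eq) ?_
        rintro _ ⟨a, ha, rfl⟩
        obtain ⟨b, hb, hbd⟩ := hd.2
        refine mem_centralizer_singleton_iff.2 ?_
        rw [← hbd, ← map_mul, ← map_mul, (hAcom a ha b hb).eq]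
      exact (mem_centralizer_singleton_iff.1 (hle (hsup.ge hu))).symm⟩
    have hidxA' : A'.relIndex T = p := by
      have h1 := card_mul_index (A'.subgroupOf T)
      rw [Nat.card_congr (subgroupOfEquivOfLe hA'T).toEquiv, hconjcard g, ← hcardT] at h1
      exact Nat.eq_of_mul_eq_mul_left Nat.card_pos h1
    have hAD : Nat.card A ≤ p * Nat.card Z := by
      have h1 := card_mul_index ((A ⊓ A').subgroupOf A)
      rw [Nat.card_congr (subgroupOfEquivOfLe (inf_le_left : A ⊓ A' ≤ A)).toEquiv] at h1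
      rw [← h1, mul_comm]
      refine Nat.mul_le_mul ?_ (Subgroup.card_le_of_le hDZ)
      show (A ⊓ A').relIndex A ≤ p
      rw [inf_relIndex_left, ← hidxA']
      exact relIndex_le_of_le_right inf_le_left (by rw [hidxA']; exact hpp.ne_zero)
    have hYne : ¬ Y ≤ Z := fun h => hY0 ((Subgroup.eq_bot_iff_forall Y).2 fun y hy => hYZ y hy (h hy))
    have hYA' : Y ≤ A := hA ▸ le_sup_left
    have hZlt : Nat.card Z < Nat.card A := lt_of_le_of_ne (Subgroup.card_le_of_le hZA) fun h =>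
      hYne (Subgroup.eq_of_le_of_card_ge hZA h.ge ▸ hYA')
    obtain ⟨i, hi⟩ := (hT.to_le (inf_le_left : Z ≤ T)).exists_card_eq
    obtain ⟨j, hj⟩ := (hT.to_le (inf_le_left : A ≤ T)).exists_card_eq
    obtain ⟨l, hl⟩ := (hT.to_le hYT).exists_card_eq
    obtain ⟨o, ho⟩ := (hT.to_le (hXA.trans inf_le_left)).exists_card_eq
    have hYX : Nat.card A = Nat.card Y * Nat.card X := by
      rw [← Nat.card_prod]
      refine (Nat.card_congr (Equiv.ofBijective
        (fun w : Y × X => (⟨(w.1 : G) * w.2, mul_mem (hYA' w.1.2) (hXA w.2.2)⟩ : A)) ⟨?_, ?_⟩)).symm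
      · rintro ⟨y, x⟩ ⟨y', x'⟩ h
        have h1 : (y : G) * x = y' * x' := congrArg Subtype.val h
        have h2 : ((y' : G)⁻¹ * y) = x' * (x : G)⁻¹ := by
          rw [eq_mul_inv_iff_mul_eq, mul_assoc, h1, inv_mul_cancel_left]
        have hm : (y' : G)⁻¹ * y ∈ Y := mul_mem (inv_mem y'.2) y.2
        have hmX : (y' : G)⁻¹ * y ∈ X := h2 ▸ mul_mem x'.2 (inv_mem x.2)
        have h3 := hXv _ hmX
        rw [mul_inv_eq_iff_eq_mul.2 (hmemY.1 hm).2.symm.eq] at h3
        have h4 : (y' : G)⁻¹ * y = 1 := hsq (hYT hm) (mul_eq_one_iff_eq_inv.2 h3)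
        have h5 : y = y' := Subtype.ext (inv_mul_eq_one.1 h4).symm
        subst h5
        exact Prod.ext rfl (Subtype.ext (mul_left_cancel h1))
      · rintro ⟨a, ha⟩
        obtain ⟨y, hy, x, hx, rfl⟩ := hdec a ha
        exact ⟨(⟨y, hy⟩, ⟨x, hx⟩), rfl⟩
    have hl1 : 1 ≤ l := Nat.one_le_iff_ne_zero.2 fun h => hY0 (Subgroup.eq_bot_of_card_eq _ (by rw [hl, h, pow_zero]))
    have hij : i < j := (Nat.pow_lt_pow_iff_right hpp.one_lt).1 (hi ▸ hj ▸ hZlt)
    have hji : j ≤ i + 1 := (Nat.pow_le_pow_iff_right hpp.one_lt).1 (by rw [← hj, pow_succ', ← hi]; exact hAD)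
    have hio : i ≤ o := (Nat.pow_le_pow_iff_right hpp.one_lt).1 (hi ▸ ho ▸ Subgroup.card_le_of_le hZX)
    have hjlo : j = l + o := Nat.pow_right_injective hpp.two_le (by
      show p ^ j = p ^ (l + o)
      rw [← hj, pow_add, ← hl, ← ho, hYX])
    have hXZ : Z = X := Subgroup.eq_of_le_of_card_ge hZX (by rw [hi, ho, show o = i by omega])
    have hTcard : Nat.card T = p ^ 2 * Nat.card X := by
      rw [← hcardT, hj, ho, show j = o + 1 by omega, pow_succ]
      ring
    refine ⟨hidx, by rw [hl, show l = 1 by omega, pow_one], hXZ.symm, hTcard,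
      hXZ ▸ normalizer_le_center T, ?_⟩
    refine ncard_le_of_step hT (hXA.trans inf_le_left) hTcard _ ?_
    rintro _ ⟨g', hg', rfl⟩
    refine ⟨fun x hx => ?_, hconjT g' hg', by rw [hconjcard g', hj, ho, show j = o + 1 by omega, pow_succ']⟩
    refine ⟨g'⁻¹ * x * g', hXA ?_, by simp [MulAut.conj_apply, mul_assoc]⟩
    have h1 := conj_mem_of_normalizer (normalizer_le_center T (inv_mem hg')) (hXZ ▸ hx : x ∈ Z)
    rw [inv_inv] at h1
    exact hXZ ▸ h1
  · refine Or.inr (Or.inr ?_)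
    push Not at hYW
    have hWT := secondCenter_le T
    have hWinv : ∀ w ∈ W, v * w * v⁻¹ = w⁻¹ :=
      CfsgLib.Invol.inverts_of_fixedPointFree hv
        (fun w hw => conj_mem_of_normalizer (normalizer_le_secondCenter T hvT) hw)
        fun w hw h => by
          by_contra hw1
          exact hYW w (hmemY.2 ⟨hWT hw, (mul_inv_eq_iff_eq_mul.1 h).symm⟩) hw1 hw
    have hinvcom : ∀ (H : Subgroup G), (∀ h ∈ H, v * h * v⁻¹ = h⁻¹) → ∀ a ∈ H, ∀ b ∈ H, Commute a b := by
      intro H hH a ha b hb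
      have h1 := hH _ (mul_mem ha hb)
      rw [show v * (a * b) * v⁻¹ = (v * a * v⁻¹) * (v * b * v⁻¹) by group, hH a ha, hH b hb, _root_.mul_inv_rev] at h1
      exact Commute.inv_inv_iff.1 h1
    have hWcom := hinvcom W hWinv
    have hWA : ¬ W ≤ A := by
      intro hle
      have hnc : ¬ IsCyclic T := fun hc => hAT fun u hu => ⟨hu, mem_centralizer_iff.2 fun y hy =>
        congrArg Subtype.val (IsCyclic.commGroup.mul_comm (⟨y, hYT hy⟩ : T) ⟨u, hu⟩)⟩
      obtain ⟨E, hET, hTE, hEe, hE2⟩ := CfsgLib.CFun.exists_normal_elementary_two hp hT hnc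
      have hEX : E ≤ X := fun x hx =>
        hinvX x (hle (le_secondCenter hT hET hTE hE2 hx)) (hWinv x (le_secondCenter hT hET hTE hE2 hx))
      haveI : IsCyclic E := isCyclic_of_injective _ (Subgroup.inclusion_injective hEX)
      obtain ⟨⟨e, he⟩, hgen⟩ := IsCyclic.exists_generator (α := E)
      have h1 := orderOf_eq_card_of_forall_mem_zpowers hgen
      rw [hE2, ← Subgroup.orderOf_coe] at h1
      have h2 := orderOf_dvd_of_pow_eq_one (hEe.2 e he)
      rw [show orderOf e = p ^ 2 from h1] at h2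
      have := Nat.le_of_dvd hpp.pos h2
      nlinarith [hpp.two_le]
    set B := T ⊓ centralizer (W : Set G)
    have hBY : ∀ y ∈ Y, y ∈ B → y = 1 := fun y hy hyB => by
      by_contra hy1
      exact hWA fun w hw => hTI y hy hy1 ⟨hWT hw, mem_centralizer_singleton_iff.2 (mem_centralizer_iff.1 hyB.2 w hw)⟩
    have hBn := normalizer_le_centralizer (T := T) (W := W) (normalizer_le_secondCenter T)
    have hBinv : ∀ b ∈ B, v * b * v⁻¹ = b⁻¹ :=
      CfsgLib.Invol.inverts_of_fixedPointFree hv (fun b hb => conj_mem_of_normalizer (hBn hvT) hb)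
        fun b hb h => hBY b (hmemY.2 ⟨hb.1, (mul_inv_eq_iff_eq_mul.1 h).symm⟩) hb
    have hBcom := hinvcom B hBinv
    refine ⟨B, inf_le_left, hBn, isMulCommutative_iff.2 fun a b => Subtype.ext (hBcom a a.2 b b.2).eq,
      (Subgroup.eq_bot_iff_forall _).2 fun y hy => hBY y hy.2 hy.1, ?_, hBinv, fun x hx => ?_⟩
    · refine le_antisymm (sup_le inf_le_left hYT) fun x hx => ?_
      set c := x⁻¹ * (v * x * v⁻¹)
      have hcB : c ∈ B := by
        refine mem_inf.2 ⟨mul_mem (inv_mem hx) (conj_mem_of_normalizer hvT hx), mem_centralizer_iff.2 fun w hw => ?_⟩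
        have hxw : x * w * x⁻¹ ∈ W :=
          conj_mem_of_normalizer (normalizer_le_secondCenter T (le_normalizer hx)) hw
        have h1 : v * x * v⁻¹ * w * (v * x * v⁻¹)⁻¹ = x * w * x⁻¹ := by
          have h2 : v⁻¹ * w * v = w⁻¹ := by
            have := congrArg (fun z => v⁻¹ * z⁻¹ * v) (hWinv w hw)
            simpa [mul_assoc] using this.symm
          calc v * x * v⁻¹ * w * (v * x * v⁻¹)⁻¹ = v * (x * (v⁻¹ * w * v) * x⁻¹) * v⁻¹ := by group
            _ = v * (x * w * x⁻¹)⁻¹ * v⁻¹ := by rw [h2]; group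
            _ = (v * (x * w * x⁻¹) * v⁻¹)⁻¹ := by group
            _ = x * w * x⁻¹ := by rw [hWinv _ hxw, inv_inv]
        have h3 : c * w * c⁻¹ = w := by
          calc c * w * c⁻¹ = x⁻¹ * (v * x * v⁻¹ * w * (v * x * v⁻¹)⁻¹) * x := by simp only [c]; group
            _ = w := by rw [h1]; group
        exact (mul_inv_eq_iff_eq_mul.1 h3).symm
      obtain ⟨j, hj⟩ := hodd hcB.1
      set b := c ^ (j + 1)
      have hbb : b * b = c := by
        rw [← pow_add, show j + 1 + (j + 1) = (2 * j + 1) + 1 by ring, pow_succ, ← hj, pow_orderOf_eq_one, one_mul]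
      have hbB : b ∈ B := pow_mem hcB _
      have hy : x * b ∈ Y := hmemY.2 ⟨mul_mem hx hbB.1, by
        refine (mul_inv_eq_iff_eq_mul.1 ?_).symm
        calc v * (x * b) * v⁻¹ = (v * x * v⁻¹) * (v * b * v⁻¹) := by group
          _ = x * (b * b) * b⁻¹ := by rw [hBinv b hbB, hbb, mul_inv_cancel_left]
          _ = x * b := by group⟩
      rw [show x = (x * b) * b⁻¹ by group]
      exact mul_mem (mem_sup_right hy) (mem_sup_left (inv_mem hbB))
    · refine ⟨hx.1, mem_centralizer_iff.2 fun w hw => ?_⟩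
      exact mem_centralizer_iff.1 hx.2 w ⟨hWT hw, mem_centralizer_iff.2 fun w' hw' => (hWcom w' hw' w hw).eq⟩

end CfsgLib.GW.CaseA
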