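import Cfsg.Agent.Lib.GW.CaseA.Big
import Cfsg.Agent.Lib.GW.CaseA.PGroupShape

/-!
# Case A, an involution acting partially: the three shapes of `T` and the number of conjugates of `Y`

Either `A = T ∩ L` is normal in `C(t)`, or `T` has order `p² |X|` with `|Y| = p`, or `T` has an abelian normal
complement to `Y`.  In the first two cases the conjugates of `Y` are few.
-/

set_option autoImplicit false
set_option linter.style.haveILetI false
set_option linter.unusedSectionVars false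

open Subgroup
open CfsgLib.Coprime.BenderPair CfsgLib.Coprime.BenderUniqueness

namespace CfsgLib.GW.CaseA

universe u

variable {G : Type u} [Group G] [Finite G]

/-- `C(t) ∩ L` -/
noncomputable def centL (t : G) (L : Subgroup G) : Subgroup G := centralizer ({t} : Set G) ⊓ L

/-- `C(t) ∩ N(T ∩ L)` -/
noncomputable def centA (p : ℕ) (t : G) (L : Subgroup G) : Subgroup G :=
  centralizer ({t} : Set G) ⊓ normalizer ((coreAt p t ⊓ L : Subgroup G) : Set G)

theorem centL_le (t : G) (L : Subgroup G) : centL t L ≤ centralizer ({t} : Set G) := inf_le_left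

theorem centA_le (p : ℕ) (t : G) (L : Subgroup G) : centA p t L ≤ centralizer ({t} : Set G) := inf_le_left

theorem centL_le_centA (p : ℕ) (t : G) (L : Subgroup G) : centL t L ≤ centA p t L := fun _ hx =>
  ⟨hx.1, CfsgLib.Coprime.inf_le_normalizer (A := zpowers _)
    (zpowers_le.2 (mem_normalizer_coreAt (mem_centralizer_singleton_iff.1 hx.1)))
    (zpowers_le.2 (le_normalizer hx.2)) (mem_zpowers _)⟩

/-- a cyclic subgroup has at most `p` elements of order dividing `p` -/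
theorem ncard_pow_eq_one_le {p : ℕ} (hp : 0 < p) {Y : Subgroup G} [IsCyclic Y] :
    {y : G | y ∈ Y ∧ y ^ p = 1}.ncard ≤ p := by
  classical
  haveI := Fintype.ofFinite Y
  rw [← Nat.card_coe_set_eq, Nat.card_congr (show {y : G | y ∈ Y ∧ y ^ p = 1} ≃ {y : Y // y ^ p = 1} from
    { toFun := fun y => ⟨⟨y.1, y.2.1⟩, Subtype.ext y.2.2⟩
      invFun := fun y => ⟨y.1.1, y.1.2, congrArg Subtype.val y.2⟩
      left_inv := fun _ => rfl
      right_inv := fun _ => rfl }), Nat.card_eq_fintype_card, Fintype.card_subtype]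
  exact IsCyclic.card_pow_eq_one_le hp

/-- `|T| = p² |X|` with `|Y| = p` and `X` normal in `C(t)` -/
structure Mid (t v : G) (p : ℕ) (L X : Subgroup G) : Prop where
  setup : Setup t v p L
  hX : ∀ x, x ∈ X ↔ x ∈ coreAt p t ⊓ L ∧ v * x * v⁻¹ = x⁻¹
  cardY : Nat.card (fixAt p t v) = p
  index : (coreAt p t ⊓ L).relIndex (coreAt p t) = p
  cardT : Nat.card (coreAt p t) = p ^ 2 * Nat.card X
  norm : centralizer ({t} : Set G) ≤ normalizer (X : Set G)
  bound : (centA p t L).relIndex (centralizer ({t} : Set G)) ≤ p + 1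

namespace Setup

variable {t v : G} {p : ℕ} {L : Subgroup G} (hS : Setup t v p L)
include hS

/-- **the three shapes** -/
theorem shape : centralizer ({t} : Set G) ≤ normalizer ((coreAt p t ⊓ L : Subgroup G) : Set G) ∨
    Mid t v p L hS.invPart ∨ ∃ B : Subgroup G, Big t v p L B := by
  classical
  by_cases hn : centralizer ({t} : Set G) ≤ normalizer ((coreAt p t ⊓ L : Subgroup G) : Set G)
  · exact Or.inl hn
  refine Or.inr ?_
  haveI := Fact.mk hS.part.prime
  haveI := hS.isCyclic_invPart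
  have hP := hS.part
  have hCT : centralizer ({t} : Set G) ≤ normalizer (coreAt p t : Set G) := le_normalizer_opc p _
  have hsup : coreAt p t ⊓ centralizer (fixAt p t v : Set G) = fixAt p t v ⊔ hS.invPart :=
    hS.inf_L_eq ▸ hS.sup_invPart.symm
  rcases pGroup_shape hP.odd (T := coreAt p t) (Y := fixAt p t v) (X := hS.invPart) (isPGroup_coreAt p t) hP.hv
      (mem_normalizer_coreAt hP.hc.symm) rfl hP.fixAt_ne_bot (hS.inf_L_eq ▸ hS.invPart_le) (fun x hx => hx.2)
      hS.isCyclic_fixAt hsup (fun y hy hy1 x hx => by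
        rw [← hS.inf_L_eq]
        exact ⟨hx.1, hS.mem_of_commute (commute_coreAt hx.1) hy hy1 (mem_centralizer_singleton_iff.1 hx.2)⟩)
    with h | ⟨h1, h2, -, h4, h5, h6⟩ | ⟨B, h1, h2, h3, h4, h5, h6, h7⟩
  · exact absurd (hS.inf_L_eq ▸ hCT.trans h) hn
  · rw [← hS.inf_L_eq] at h1 h6
    refine Or.inl ⟨hS, fun x => Iff.rfl, h2, h1, h4, hCT.trans h5, le_trans ?_ h6⟩
    set A := coreAt p t ⊓ L with hA
    set S := ((fun g : G => A.map (MulAut.conj g).toMonoidHom) '' (normalizer (coreAt p t : Set G) : Set G))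
    rw [relIndex, index, ← Nat.card_coe_set_eq]
    let f : centralizer ({t} : Set G) ⧸ (centA p t L).subgroupOf (centralizer ({t} : Set G)) → S := fun q =>
      Quotient.liftOn' q (fun c => ⟨A.map (MulAut.conj (c : G)).toMonoidHom, ⟨c, hCT c.2, rfl⟩⟩) (by
        intro a b hab
        rw [QuotientGroup.leftRel_apply, mem_subgroupOf] at hab
        refine Subtype.ext ?_
        ext x
        show x ∈ A.map _ ↔ x ∈ A.map _
        rw [CaseB.mem_conj, CaseB.mem_conj]
        have h := mem_normalizer_iff.1 hab.2 ((b : G)⁻¹ * x * b)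
        simpa [mul_assoc, hA] using h.symm)
    refine Nat.card_le_card_of_injective f ?_
    rintro ⟨a⟩ ⟨b⟩ hab
    refine Quotient.sound' ?_
    rw [QuotientGroup.leftRel_apply, mem_subgroupOf]
    refine ⟨(centralizer ({t} : Set G)).mul_mem (inv_mem a.2) b.2, mem_normalizer_iff.2 fun x => ?_⟩
    have h : A.map (MulAut.conj (a : G)).toMonoidHom = A.map (MulAut.conj (b : G)).toMonoidHom :=
      congrArg Subtype.val hab
    have h' := SetLike.ext_iff.1 h ((b : G) * x * (b : G)⁻¹)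
    rw [CaseB.mem_conj, CaseB.mem_conj] at h'
    simpa [mul_assoc, hA] using h'.symm
  · refine Or.inr ⟨B, hS, h1, hCT.trans h2, fun x hx y hy => ?_, h4, h5, h6, h7, fun hTL => hn ?_⟩
    · exact congrArg Subtype.val (h3.is_comm.comm (⟨x, hx⟩ : B) ⟨y, hy⟩)
    · rw [inf_eq_left.2 hTL]
      exact hCT

/-- an element of `Ω(A)` is a product of elements of `Ω(Y)` and `Ω(X)` -/
theorem pow_eq_one_split {a : G} (ha : a ∈ coreAt p t ⊓ L) (h : a ^ p = 1) :
    ∃ y x : G, (y ∈ fixAt p t v ∧ y ^ p = 1) ∧ (x ∈ hS.invPart ∧ x ^ p = 1) ∧ a = y * x := by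
  obtain ⟨y, hy, x, hx, rfl⟩ := hS.exists_mul_invPart ha
  have hc : Commute y x := hS.commute_inf_L ⟨(mem_fixAt.1 hy).1, hS.fixAt_le hy⟩ (hS.invPart_le hx)
  rw [hc.mul_pow] at h
  have hxy : x ^ p = (y ^ p)⁻¹ := eq_inv_of_mul_eq_one_right h
  have hx1 : x ^ p = 1 := hS.disjoint_invPart (pow_mem hx p) (by
    rw [hxy]; exact inv_mem (pow_mem (hS.fixAt_le_ocN hy) p))
  exact ⟨y, x, ⟨hy, by rw [hx1] at hxy; exact inv_eq_one.1 hxy.symm⟩, ⟨hx, hx1⟩, rfl⟩

/-- `A` has at most `p²` elements of order dividing `p`, at most `p² - p` outside `X` -/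
theorem ncard_omega_le :
    {a : G | (a ∈ coreAt p t ⊓ L ∧ a ^ p = 1) ∧ a ∉ hS.invPart}.ncard ≤ p * (p - 1) ∧
      {a : G | (a ∈ coreAt p t ⊓ L ∧ a ^ p = 1) ∧ a ≠ 1}.ncard ≤ p * p - 1 := by
  classical
  haveI := hS.isCyclic_fixAt
  haveI := hS.isCyclic_invPart
  set U : Set G := {y : G | y ∈ fixAt p t v ∧ y ^ p = 1} with hU
  set W : Set G := {x : G | x ∈ hS.invPart ∧ x ^ p = 1} with hW
  have hUc : U.ncard ≤ p := ncard_pow_eq_one_le hS.part.prime.pos
  have hWc : W.ncard ≤ p := ncard_pow_eq_one_le hS.part.prime.pos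
  have hsub : {a : G | a ∈ coreAt p t ⊓ L ∧ a ^ p = 1} ⊆ (fun z : G × G => z.1 * z.2) '' (U ×ˢ W) := by
    rintro a ⟨ha, hap⟩
    obtain ⟨y, x, hy, hx, rfl⟩ := hS.pow_eq_one_split ha hap
    exact ⟨(y, x), ⟨hy, hx⟩, rfl⟩
  refine ⟨?_, ?_⟩
  · have h1 : {a : G | (a ∈ coreAt p t ⊓ L ∧ a ^ p = 1) ∧ a ∉ hS.invPart} ⊆
        (fun z : G × G => z.1 * z.2) '' ((U \ {1}) ×ˢ W) := by
      rintro a ⟨ha, hna⟩
      obtain ⟨⟨y, x⟩, ⟨hy, hx⟩, rfl⟩ := hsub ha
      exact ⟨(y, x), ⟨⟨hy, fun h => hna (by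
        have h1 : y = 1 := h
        show y * x ∈ hS.invPart
        rw [h1, one_mul]; exact hx.1)⟩, hx⟩, rfl⟩
    refine (Set.ncard_le_ncard h1).trans ((Set.ncard_image_le).trans ?_)
    rw [Set.ncard_prod, mul_comm]
    refine Nat.mul_le_mul hWc ?_
    rw [Set.ncard_sdiff_singleton_of_mem (show (1 : G) ∈ U from ⟨one_mem _, one_pow p⟩)]
    omega
  · have h1 : {a : G | (a ∈ coreAt p t ⊓ L ∧ a ^ p = 1) ∧ a ≠ 1} =
        {a : G | a ∈ coreAt p t ⊓ L ∧ a ^ p = 1} \ {1} := rfl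
    rw [h1, Set.ncard_sdiff_singleton_of_mem (show (1 : G) ∈ {a : G | a ∈ coreAt p t ⊓ L ∧ a ^ p = 1} from
      ⟨one_mem _, one_pow p⟩)]
    refine Nat.sub_le_sub_right ?_ 1
    refine (Set.ncard_le_ncard hsub).trans ((Set.ncard_image_le).trans ?_)
    rw [Set.ncard_prod]
    exact Nat.mul_le_mul hUc hWc

/-- conjugates of an element of order `p` of `Y` -/
theorem relIndex_mul_le {N : Subgroup G} (hN : N ≤ centralizer ({t} : Set G)) {E : Set G}
    (h : ∀ c ∈ N, ∀ y ∈ fixAt p t v, y ^ p = 1 → y ≠ 1 → c * y * c⁻¹ ∈ E) :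
    (centL t L).relIndex N * (p - 1) ≤ E.ncard := by
  classical
  haveI := Fact.mk hS.part.prime
  obtain ⟨y0, hy0, hy0o⟩ : ∃ y ∈ fixAt p t v, orderOf y = p := by
    have hd : p ∣ Nat.card (fixAt p t v) := by
      have hpY : IsPGroup p (fixAt p t v) := (isPGroup_coreAt p t).to_le inf_le_left
      obtain ⟨k, hk⟩ := hpY.exists_card_eq
      rw [hk]
      refine dvd_pow_self p fun h0 => hS.part.fixAt_ne_bot (Subgroup.eq_bot_of_card_eq _ ?_)
      rw [hk, h0, pow_zero]
    obtain ⟨⟨y, hy⟩, hy'⟩ := exists_prime_orderOf_dvd_card' p hd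
    exact ⟨y, hy, by rwa [Subgroup.orderOf_mk] at hy'⟩
  have hy : ∀ i : Fin (p - 1), y0 ^ (i.val + 1) ∈ fixAt p t v ∧ (y0 ^ (i.val + 1)) ^ p = 1 ∧ y0 ^ (i.val + 1) ≠ 1 := by
    intro i
    refine ⟨pow_mem hy0 _, by rw [← pow_mul]; exact orderOf_dvd_iff_pow_eq_one.1 (hy0o.dvd.trans (dvd_mul_left _ _)), fun he => ?_⟩
    have := Nat.le_of_dvd (Nat.succ_pos _) (hy0o ▸ orderOf_dvd_of_pow_eq_one he)
    have := i.2
    omega
  rw [relIndex, index, ← Nat.card_coe_set_eq, ← Nat.card_fin (p - 1), ← Nat.card_prod]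
  refine Nat.card_le_card_of_injective
    (fun z => (⟨(z.1.out : G) * y0 ^ (z.2.val + 1) * (z.1.out : G)⁻¹,
      h _ z.1.out.2 _ (hy z.2).1 (hy z.2).2.1 (hy z.2).2.2⟩ : E)) ?_
  rintro ⟨a, i⟩ ⟨b, j⟩ hab
  have he : (a.out : G) * y0 ^ (i.val + 1) * (a.out : G)⁻¹ = (b.out : G) * y0 ^ (j.val + 1) * (b.out : G)⁻¹ :=
    congrArg Subtype.val hab
  have hc : Commute ((b.out : G)⁻¹ * a.out) t :=
    mem_centralizer_singleton_iff.1 (mul_mem (inv_mem (hN b.out.2)) (hN a.out.2))
  have e2 : ((b.out : G)⁻¹ * a.out)⁻¹ * y0 ^ (j.val + 1) * ((b.out : G)⁻¹ * a.out) = y0 ^ (i.val + 1) := by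
    calc ((b.out : G)⁻¹ * a.out)⁻¹ * y0 ^ (j.val + 1) * ((b.out : G)⁻¹ * a.out)
        = (a.out : G)⁻¹ * ((b.out : G) * y0 ^ (j.val + 1) * (b.out : G)⁻¹) * a.out := by group
      _ = y0 ^ (i.val + 1) := by rw [← he]; group
  have hL := hS.mem_of_meet hc (hy j).1 (hy j).2.2 (e2 ▸ (hy i).1)
  have hab' : a = b := by
    rw [← QuotientGroup.out_eq' a, ← QuotientGroup.out_eq' b]
    refine (QuotientGroup.eq.2 ?_).symm
    rw [mem_subgroupOf]
    exact ⟨mem_centralizer_singleton_iff.2 hc.eq, hL⟩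
  subst hab'
  have hij : y0 ^ (i.val + 1) = y0 ^ (j.val + 1) := mul_left_cancel (mul_right_cancel he)
  have hmod := pow_eq_pow_iff_modEq.1 hij
  rw [hy0o] at hmod
  have h3 : i.val + 1 = j.val + 1 := Nat.ModEq.eq_of_lt_of_lt hmod
    (by have := i.2; omega) (by have := j.2; omega)
  exact Prod.ext rfl (Fin.ext (by simpa using h3))

/-- **at most `p + 1` conjugates of `Y` if `A` is normal** -/
theorem relIndex_le_of_normal (hn : centralizer ({t} : Set G) ≤ normalizer ((coreAt p t ⊓ L : Subgroup G) : Set G)) :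
    (centL t L).relIndex (centralizer ({t} : Set G)) ≤ p + 1 := by
  have h := (hS.relIndex_mul_le le_rfl (E := {a : G | (a ∈ coreAt p t ⊓ L ∧ a ^ p = 1) ∧ a ≠ 1}) fun c hc y hy hyp hy1 => by
    refine ⟨⟨(mem_normalizer_iff.1 (hn hc) y).1 ⟨(mem_fixAt.1 hy).1, hS.fixAt_le hy⟩, by rw [conj_pow, hyp]; group⟩,
      fun e => hy1 ?_⟩
    rwa [← MulAut.conj_apply, map_eq_one_iff _ (MulEquiv.injective _)] at e).trans hS.ncard_omega_le.2
  have hp2 := hS.part.prime.two_le
  refine Nat.le_of_mul_le_mul_right (h.trans (le_of_eq ?_)) (show 0 < p - 1 by omega)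
  obtain ⟨m, rfl⟩ : ∃ m, p = m + 2 := ⟨p - 2, by omega⟩
  simp only [Nat.add_sub_cancel, Nat.reduceSubDiff, Nat.add_one_sub_one]
  ring_nf
  omega

end Setup

namespace Mid

variable {t v : G} {p : ℕ} {L X : Subgroup G} (hM : Mid t v p L X)
include hM

theorem core_le_centA : coreAt p t ≤ centA p t L := by
  haveI := Fact.mk hM.setup.part.prime
  refine le_inf (coreAt_le p t) ?_
  haveI := (isPGroup_coreAt p t).isNilpotent
  have hlt : (coreAt p t ⊓ L).subgroupOf (coreAt p t) < ⊤ := by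
    rw [lt_top_iff_ne_top, Ne, ← index_eq_one]
    exact fun h => hM.setup.part.prime.ne_one (hM.index.symm.trans h)
  set N := normalizer ((coreAt p t ⊓ L).subgroupOf (coreAt p t) : Set (coreAt p t))
  have hN : (coreAt p t ⊓ L).subgroupOf (coreAt p t) < N := Group.normalizerCondition_of_isNilpotent _ hlt
  have htop : N = ⊤ := by
    have h1 := relIndex_mul_index hN.le
    have h2 : ((coreAt p t ⊓ L).subgroupOf (coreAt p t)).index = p := hM.index
    rw [h2] at h1
    rcases (Nat.dvd_prime hM.setup.part.prime).1 (Dvd.intro_left _ h1) with h | h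
    · exact index_eq_one.1 h
    · rw [h, Nat.mul_eq_right hM.setup.part.prime.ne_zero, relIndex_eq_one] at h1
      exact absurd h1 hN.not_ge
  haveI : ((coreAt p t ⊓ L).subgroupOf (coreAt p t)).Normal := normalizer_eq_top_iff.1 htop
  exact (normal_subgroupOf_iff_le_normalizer inf_le_left).1 inferInstance

/-- **in the middle case the stabiliser of `A` is `T C_L(t)`** -/
theorem centA_eq : centA p t L = coreAt p t ⊔ centL t L ∧ (centL t L).relIndex (centA p t L) = p := by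
  have hS := hM.setup
  have hp := hS.part.prime
  have hXe : X = hS.invPart := by
    ext x
    rw [hM.hX, hS.mem_invPart]
  have hle : (centL t L).relIndex (centA p t L) ≤ p := by
    have h := (hS.relIndex_mul_le (centA_le p t L)
      (E := {a : G | (a ∈ coreAt p t ⊓ L ∧ a ^ p = 1) ∧ a ∉ hS.invPart}) fun c hc y hy hyp hy1 => by
      refine ⟨⟨(mem_normalizer_iff.1 hc.2 y).1 ⟨(mem_fixAt.1 hy).1, hS.fixAt_le hy⟩, by rw [conj_pow, hyp]; group⟩,
        fun hmem => hy1 (hS.disjoint_invPart ?_ (hS.fixAt_le_ocN hy))⟩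
      have h := (mem_normalizer_iff.1 (hM.norm hc.1) y).2 (hXe ▸ hmem)
      exact hXe ▸ h).trans hS.ncard_omega_le.1
    exact Nat.le_of_mul_le_mul_right h (by have := hp.two_le; omega)
  have hsup : coreAt p t ⊔ centL t L ≤ centA p t L := sup_le hM.core_le_centA (centL_le_centA p t L)
  have hge : p ≤ (centL t L).relIndex (coreAt p t ⊔ centL t L) := by
    refine le_trans (le_of_eq ?_) (relIndex_le_of_le_right (le_sup_left : coreAt p t ≤ coreAt p t ⊔ centL t L)
      Subgroup.FiniteIndex.index_ne_zero)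
    conv_lhs => rw [← hM.index]
    rw [← inf_relIndex_right (centL t L)]
    congr 1
    rw [centL, inf_right_comm, inf_eq_right.2 (coreAt_le p t)]
  have hmul := relIndex_mul_relIndex _ _ _ (le_sup_right : centL t L ≤ coreAt p t ⊔ centL t L) hsup
  have h1 : (coreAt p t ⊔ centL t L).relIndex (centA p t L) = 1 := by
    have h0 := Nat.pos_of_ne_zero (show (coreAt p t ⊔ centL t L).relIndex (centA p t L) ≠ 0 from
      Subgroup.FiniteIndex.index_ne_zero)
    have hp0 := hp.pos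
    nlinarith
  refine ⟨le_antisymm (relIndex_eq_one.1 h1) hsup, le_antisymm hle ?_⟩
  rw [← hmul, h1, mul_one]
  exact hge

end Mid

end CfsgLib.GW.CaseA
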