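import Cfsg.Agent.Lib.GW.CaseA.Index
import Cfsg.Agent.Lib.GW.CaseA.Points
import Cfsg.Agent.Lib.GW.CaseA.Shape
import Cfsg.Agent.Lib.GW.CaseA.Outer
import Cfsg.Agent.Lib.GW.CaseA.Inverted.Structure

/-!
# Case A, an involution acting partially: the counts

`k = |O : O ∩ L|` and `b = |O ∩ L : C_O(v)|` are odd, every other involution of `C(t)` fixes the share `1 / (k b)` of
`O`, `|C_M(t)| = b |S|`, and the bounds on `k` in the shapes of `T`.  No hypothesis on the order of the Sylow
2-subgroups.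
-/

set_option autoImplicit false
set_option linter.style.haveILetI false
set_option linter.unusedSectionVars false

open Subgroup
open CfsgLib.Coprime.BenderPair CfsgLib.Coprime.BenderUniqueness

namespace CfsgLib.GW.CaseA

universe u

variable {G : Type u} [Group G] [Finite G]

/-- the sign of the torus order -/
theorem exists_sign {F : Type} [Field F] [Fintype F] (ho : Odd (Fintype.card F)) :
    ∃ ε : ℤ, (ε = 1 ∨ ε = -1) ∧ (invCard (Fintype.card F) : ℤ) = (Fintype.card F : ℤ) - ε := by
  obtain ⟨j, hj⟩ := ho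
  unfold invCard
  split_ifs
  · exact ⟨1, Or.inl rfl, by omega⟩
  · exact ⟨-1, Or.inr rfl, by omega⟩

/-- `C_O(a)` and its conjugate under `C(t)` have the same order -/
theorem card_ocore_cent_conj {t a c : G} (hc : Commute c t) :
    Nat.card (Ocore t ⊓ centralizer ({c * a * c⁻¹} : Set G) : Subgroup G) =
      Nat.card (Ocore t ⊓ centralizer ({a} : Set G) : Subgroup G) := by
  have h : (Ocore t ⊓ centralizer ({a} : Set G)).map (MulAut.conj c).toMonoidHom =
      Ocore t ⊓ centralizer ({c * a * c⁻¹} : Set G) := by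
    rw [Subgroup.map_inf _ _ _ (MulAut.conj c).injective, GW.map_conj_centralizer, GW.ocore_conj,
      show c * t * c⁻¹ = t by rw [hc.eq, mul_inv_cancel_right]]
  rw [← h]
  exact (Nat.card_congr (equivMapOfInjective _ _ (MulAut.conj c).injective).toEquiv).symm

namespace Setup

variable {t v : G} {p : ℕ} {L : Subgroup G} (hS : Setup t v p L)
include hS

/-- `b` is the same for every changed involution -/
theorem fixIndex_eq {u : G} (hu : Setup t u p L) : fixIndex t u L = fixIndex t v L := by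
  obtain ⟨F, iF, jF, M, hMn, ho, h5, hM, hC, ⟨e⟩⟩ := hS.exists_psl
  obtain ⟨N, -, hcard, -, hN⟩ := hS.exists_tor ho hC e
  obtain ⟨N', -, hcard', -, hN'⟩ := hu.exists_tor ho hC e
  rw [← hcard, ← hcard', show N' = N from SetLike.ext fun m => (hN' m).trans (hN m).symm]

/-- **`k = |O : O ∩ L|`** -/
theorem relIndex_centL :
    (centL t L).relIndex (centralizer ({t} : Set G)) = (Ocore t ⊓ L).relIndex (Ocore t) := by
  have hG := hS.part.hA.min
  set C := centralizer ({t} : Set G) with hCdef
  obtain ⟨S, hS'⟩ := hS.exists_sylow_le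
  set D := centL t L with hD
  have hOC : Ocore t ≤ C := ocore_le t
  have hSC : (S : Subgroup C).map C.subtype ≤ C := map_subtype_le _
  have hinf : D ⊓ Ocore t = Ocore t ⊓ L :=
    le_antisymm (fun x hx => ⟨hx.2, hx.1.2⟩) fun x hx => ⟨⟨hOC hx.1, hx.2⟩, hx.1⟩
  rw [← hinf, inf_relIndex_right]
  refine le_antisymm ?_ (relIndex_le_of_le_right hOC Subgroup.FiniteIndex.index_ne_zero)
  rw [relIndex, relIndex, index, index]
  let f : Ocore t ⧸ D.subgroupOf (Ocore t) → C ⧸ D.subgroupOf C :=
    Quotient.map' (fun o => ⟨(o : G), hOC o.2⟩) fun a b h => by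
      rw [QuotientGroup.leftRel_apply, mem_subgroupOf] at h ⊢
      exact h
  refine Nat.card_le_card_of_surjective f ?_
  rintro ⟨⟨c, hc⟩⟩
  have hmem : c ∈ Ocore t ⊔ (S : Subgroup C).map C.subtype := (hG.ocore_sup_sylow hS.part.hA.invol S).ge hc
  rw [← SetLike.mem_coe, coe_mul_of_right_le_normalizer_left _ _
    (hSC.trans (centralizer_le_normalizer_ocore t))] at hmem
  obtain ⟨o, ho, s, hs, hos⟩ := Set.mem_mul.1 hmem
  refine ⟨QuotientGroup.mk ⟨o, ho⟩, Quotient.sound' ?_⟩
  rw [QuotientGroup.leftRel_apply, mem_subgroupOf]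
  show o⁻¹ * c ∈ D
  rw [← hos, inv_mul_cancel_left]
  exact ⟨hSC hs, hS' hs⟩

theorem odd_relIndex_centL : Odd ((centL t L).relIndex (centralizer ({t} : Set G))) := by
  rw [hS.relIndex_centL]
  exact (odd_ocore t).of_dvd_nat (relIndex_dvd_card _ _)

theorem three_le_relIndex_centL : 3 ≤ (centL t L).relIndex (centralizer ({t} : Set G)) := by
  obtain ⟨j, hj⟩ := hS.odd_relIndex_centL
  rcases Nat.eq_zero_or_pos j with rfl | hj0
  · exfalso
    obtain ⟨c, hc, hcL⟩ := hS.exists_not_mem
    exact hcL ((relIndex_eq_one.1 (show (centL t L).relIndex (centralizer ({t} : Set G)) = 1 from hj))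
      (mem_centralizer_singleton_iff.2 hc.eq)).2
  · omega

/-- every other involution of `C(t)` has an inner conjugate in `L` giving the same data -/
theorem exists_change {a : G} (ha : orderOf a = 2) (hne : a ≠ t) (hc : Commute a t) :
    ∃ c, Commute c t ∧ Setup t (c * a * c⁻¹) p L ∧ fixAt p t (c * a * c⁻¹) = fixAt p t v := by
  obtain ⟨c, hct, hcL⟩ := hS.into_L a ha hc
  have hctt : c * t * c⁻¹ = t := by rw [hct.eq, mul_inv_cancel_right]
  set u := c * a * c⁻¹ with hu
  have hu2 : orderOf u = 2 := by rw [hu, ← MulAut.conj_apply, MulEquiv.orderOf_eq, ha]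
  have hut : Commute u t := by
    have := hc.map (MulAut.conj c).toMonoidHom
    simpa [hu, hctt] using this
  have hune : u ≠ t := fun h => hne (mul_left_cancel (mul_right_cancel (h.trans hctt.symm)))
  exact ⟨c, hct, hS.change (hS.inner u hcL hu2) hut hune⟩

/-- **every other involution of `C(t)` fixes the share `1 / (k b)` of `O`** -/
theorem share {a : G} (ha : orderOf a = 2) (hne : a ≠ t) (hc : Commute a t) :
    (centL t L).relIndex (centralizer ({t} : Set G)) * fixIndex t v L *
      Nat.card (Ocore t ⊓ centralizer ({a} : Set G) : Subgroup G) = Nat.card (Ocore t) := by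
  obtain ⟨c, hct, hS', -⟩ := hS.exists_change ha hne hc
  rw [← card_ocore_cent_conj hct, ← hS.fixIndex_eq hS', hS.relIndex_centL, mul_assoc,
    mul_comm (fixIndex t (c * a * c⁻¹) L), fixIndex, relIndex, relIndex, ← Nat.card_congr (subgroupOfEquivOfLe
      (le_inf inf_le_left hS'.ocore_cent_le)).toEquiv, card_mul_index, mul_comm,
    ← Nat.card_congr (subgroupOfEquivOfLe (inf_le_left : Ocore t ⊓ L ≤ Ocore t)).toEquiv, card_mul_index]

/-- `|O : C_O(a)| = k b` -/
theorem relIndex_fixed {a : G} (ha : orderOf a = 2) (hne : a ≠ t) (hc : Commute a t) :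
    (Ocore t ⊓ centralizer ({a} : Set G)).relIndex (Ocore t) =
      (centL t L).relIndex (centralizer ({t} : Set G)) * fixIndex t v L := by
  have h := hS.share ha hne hc
  have h2 := ((Ocore t ⊓ centralizer ({a} : Set G)).subgroupOf (Ocore t)).card_mul_index
  rw [← relIndex, Nat.card_congr (subgroupOfEquivOfLe
    (inf_le_left : Ocore t ⊓ centralizer ({a} : Set G) ≤ Ocore t)).toEquiv] at h2
  rw [← h, mul_comm] at h2
  exact Nat.eq_of_mul_eq_mul_right Nat.card_pos h2

/-- **`k ≤ p` when `A` is normal** -/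
theorem relIndex_le_prime (hn : centralizer ({t} : Set G) ≤ normalizer ((coreAt p t ⊓ L : Subgroup G) : Set G)) :
    (centL t L).relIndex (centralizer ({t} : Set G)) ≤ p := by
  have h1 := hS.relIndex_le_of_normal hn
  obtain ⟨i, hi⟩ := hS.odd_relIndex_centL
  obtain ⟨i', hi'⟩ := hS.part.prime.odd_of_ne_two hS.part.odd
  omega

/-- the incidence of the conjugates of `t` in `L` with the cosets of `L` -/
theorem incidence
    (hA : centralizer ({t} : Set G) ≤ normalizer ((coreAt p t ⊓ L : Subgroup G) : Set G) ∨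
      (Nat.card (coreAt p t) = p ^ 2 * Nat.card hS.invPart ∧
        centralizer ({t} : Set G) ≤ normalizer (hS.invPart : Set G))) :
    L.index * Nat.card (tConj t L) =
        (centralizer ({t} : Set G)).index * (centL t L).relIndex (centralizer ({t} : Set G)) ∧
      ((centL t L).relIndex (centralizer ({t} : Set G)) - 1) * Nat.card (tConj t L) ≤ L.index - 1 :=
  incidence_count hS.part.hA.invol hS.t_mem hS.inner (hS.meet_unique hS.inner hA)

/-- `n ≡ 1` modulo the primes of `b` -/
theorem index_modEq_of_dvd {q : ℕ} (hq : q.Prime) (hqb : q ∣ fixIndex t v L) :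
    (q : ℤ) ∣ ((centralizer ({t} : Set G)).index : ℤ) - 1 := by
  refine hS.index_modEq hS.inner hS.into_L hq (fun h2 => ?_) (hS.core_ne_bot_of_dvd hq hqb)
  subst h2
  exact (Nat.not_even_iff_odd.2 hS.odd_fixIndex) (even_iff_two_dvd.2 hqb)

/-- **`|C_M(t)| = b |S|`** for a Sylow 2-subgroup `S` of `G` -/
theorem invCard_eq {F : Type} [Field F] [Fintype F] {M : Subgroup (L ⧸ Cfsg.oddCore L)} [M.Normal]
    (ho : Odd (Fintype.card F)) (hC : centralizer (M : Set (L ⧸ Cfsg.oddCore L)) = ⊥)
    (e : M ≃* Matrix.ProjectiveSpecialLinearGroup (Fin 2) F) (P : Sylow 2 G) :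
    invCard (Fintype.card F) = fixIndex t v L * Nat.card (P : Subgroup G) := by
  classical
  haveI : Fact (Nat.Prime 2) := ⟨Nat.prime_two⟩
  have hG := hS.part.hA.min
  have ht := hS.part.hA.invol
  set C := centralizer ({t} : Set G) with hCdef
  obtain ⟨N, -, -, ⟨i, hi⟩, -⟩ := hS.exists_tor ho hC e
  obtain ⟨m, hm⟩ := P.2.exists_card_eq
  have h1 : 2 ^ i ∣ Nat.card (P : Subgroup G) := by
    refine P.pow_dvd_card_of_pow_dvd_card ((Dvd.intro_left _ hi).trans ?_)
    refine (Dvd.intro_left _ (hS.card_tConj ho hC e)).trans ?_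
    exact (card_subgroup_dvd_card M).trans ((card_quotient_dvd_card _).trans (card_subgroup_dvd_card L))
  -- a Sylow subgroup of `C(t)`
  obtain ⟨S, hSL⟩ := hS.exists_sylow_le
  obtain ⟨P', -, hP'C⟩ := hG.exists_sylow_central ht
    (IsPGroup.of_card (n := 1) (by rw [Nat.card_zpowers, ht, pow_one]) : IsPGroup 2 (zpowers t))
    (zpowers_le.2 (mem_centralizer_singleton_iff.2 rfl))
  have hScard : Nat.card (P : Subgroup G) ∣ Nat.card (S : Subgroup C) := by
    rw [hm]
    refine S.pow_dvd_card_of_pow_dvd_card ?_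
    rw [← hm, Nat.card_congr (Sylow.equiv P P').toEquiv]
    exact card_dvd_of_le hP'C
  set S' := (S : Subgroup C).map C.subtype with hS'
  have hS'2 : IsPGroup 2 S' := S.2.map _
  have hS'card : Nat.card (P : Subgroup G) ∣ Nat.card S' := by
    rwa [hS', ← Nat.card_congr (equivMapOfInjective _ _ (subtype_injective C)).toEquiv]
  obtain ⟨g, hg⟩ := CfsgLib.Invol.exists_conj_le_sylow hS'2 P
  have hS'C : ∀ x ∈ S', Commute x t := fun x hx =>
    mem_centralizer_singleton_iff.1 ((map_subtype_le (S : Subgroup C)) hx)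
  -- a dihedral group is generated by involutions
  have hPle : (P : Subgroup G) ≤ closure {y | y ∈ (P : Subgroup G) ∧ orderOf y = 2} := by
    obtain ⟨n, hn, ⟨d⟩⟩ := hG.dih P
    haveI : NeZero n := ⟨by omega⟩
    have hsr : ∀ j : ZMod n, (d.symm (DihedralGroup.sr j) : G) ∈ closure {y | y ∈ (P : Subgroup G) ∧ orderOf y = 2} :=
      fun j => subset_closure ⟨(d.symm _).2, by
        rw [Subgroup.orderOf_coe, MulEquiv.orderOf_eq, DihedralGroup.orderOf_sr]⟩
    intro x hx
    have hxe : x = (d.symm (d ⟨x, hx⟩) : G) := by rw [MulEquiv.symm_apply_apply]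
    rw [hxe]
    rcases d ⟨x, hx⟩ with j | j
    · rw [show (DihedralGroup.r j : DihedralGroup n) = DihedralGroup.sr 0 * DihedralGroup.sr j by simp, map_mul]
      exact mul_mem (hsr 0) (hsr j)
    · exact hsr j
  have hmap : S'.map (MulAut.conj g).toMonoidHom = P := by
    refine eq_of_le_of_card_ge ?_ ?_
    · rintro _ ⟨x, hx, rfl⟩
      exact hg x hx
    · rw [← Nat.card_congr (equivMapOfInjective _ _ (MulAut.conj g).injective).toEquiv]
      exact Nat.le_of_dvd Nat.card_pos hS'card
  have hgen : S' ≤ closure {y | y ∈ S' ∧ orderOf y = 2} := by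
    intro x hx
    have h2 : (P : Subgroup G) ≤ (closure {y | y ∈ S' ∧ orderOf y = 2}).map (MulAut.conj g).toMonoidHom := by
      refine hPle.trans ((closure_le _).2 ?_)
      rintro y ⟨hy, hy2⟩
      obtain ⟨z, hz, rfl⟩ := hmap.ge hy
      refine ⟨z, subset_closure ⟨hz, ?_⟩, rfl⟩
      rw [← hy2]
      exact (MulEquiv.orderOf_eq (MulAut.conj g) z).symm
    obtain ⟨z, hz, hzx⟩ := h2 (hg x hx)
    rwa [show z = x from (MulAut.conj g).injective hzx] at hz
  -- the involutions are conjugates of `t`, so `S'` lies over the component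
  set π := QuotientGroup.mk' (Cfsg.oddCore L)
  have hle : (S'.subgroupOf L).map π ≤ M := by
    have h0 : S' ≤ ((M.comap π).map L.subtype) := hgen.trans ((closure_le _).2 fun y hy =>
      ⟨⟨y, hSL hy.1⟩, hS.tConj_mem ho hC e (hS.inner y (hSL hy.1) hy.2) (hSL hy.1), rfl⟩)
    rintro _ ⟨x, hx, rfl⟩
    obtain ⟨z, hz, hzx⟩ := h0 hx
    rw [← show z = x from Subtype.ext hzx]
    exact hz
  have htM := hS.t_mem_component ho hC e
  have h2 : Nat.card (P : Subgroup G) ∣ fixIndex t v L * 2 ^ i := by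
    rw [hi, ← card_cent_psl ho (e ⟨π ⟨t, hS.t_mem⟩, htM⟩)
      (by rw [MulEquiv.orderOf_eq, Subgroup.orderOf_mk, orderOf_mk_two hS.t_mem ht])]
    let f : S' →* centralizer ({e ⟨π ⟨t, hS.t_mem⟩, htM⟩} : Set (Matrix.ProjectiveSpecialLinearGroup (Fin 2) F)) :=
      MonoidHom.codRestrict (e.toMonoidHom.comp ((π.comp (inclusion hSL)).codRestrict M
        fun x => hle ⟨inclusion hSL x, mem_subgroupOf.2 x.2, rfl⟩)) _ fun x => mem_centralizer_singleton_iff.2 (by
          show e _ * e _ = e _ * e _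
          rw [← map_mul, ← map_mul]
          refine congrArg e (Subtype.ext ?_)
          show π _ * π _ = π _ * π _
          rw [← map_mul, ← map_mul]
          exact congrArg π (Subtype.ext (hS'C x x.2).eq))
    refine hS'card.trans (card_dvd_of_injective f ?_)
    refine (injective_iff_map_eq_one f).2 fun x hx => ?_
    have h1' : π (inclusion hSL x) = 1 :=
      congrArg Subtype.val (e.injective ((congrArg Subtype.val hx).trans (map_one e).symm))
    have hxK := (QuotientGroup.eq_one_iff _).1 h1'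
    obtain ⟨l, hl⟩ := IsPGroup.iff_orderOf.1 hS'2 x
    refine orderOf_eq_one_iff.1 (Nat.eq_one_of_dvd_coprimes (Nat.Coprime.pow_left l
      (Nat.coprime_two_left.2 (odd_oddCore L))) hl.dvd ?_)
    rw [← Subgroup.orderOf_coe, show (x : G) = ((inclusion hSL x : L) : G) from rfl, Subgroup.orderOf_coe]
    exact Subgroup.orderOf_dvd_natCard _ hxK
  have h3 : Nat.card (P : Subgroup G) ∣ 2 ^ i := by
    rw [hm] at h2 ⊢
    exact (Nat.Coprime.pow_left _ (Nat.coprime_two_left.2 hS.odd_fixIndex)).dvd_of_dvd_mul_left h2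
  rw [← hi, Nat.dvd_antisymm h1 h3]

/-- **the big shape belongs to case II** -/
theorem hyp_of_big (h8 : 8 ∣ Nat.card (centralizer ({t} : Set G))) {B : Subgroup G} (hB : Big t v p L B) :
    Inverted.Hyp t (bigF p t B) := by
  haveI := Fact.mk hS.part.prime
  have hP := hS.part
  refine ⟨hP.hA.min, hP.hA.invol, h8, hB.F_le_ocore, hB.norm_F, fun x hx y hy => hB.comm_F hx hy, ?_, hB.selfCent⟩
  intro a ha hne hc x hx
  obtain ⟨c, hct, hS', hfix⟩ := hS.exists_change ha hne hc
  set u := c * a * c⁻¹ with hu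
  have hut : Commute u t := hS'.part.hc.symm
  -- `u` inverts `B`
  have hBig : Big t u p L B := by
    refine ⟨hS', hB.le, hB.norm, hB.comm, by rw [hfix]; exact hB.disj, by rw [hfix]; exact hB.sup, ?_, hB.cent,
      hB.not_le⟩
    intro b hb
    obtain ⟨y, z, hy, -, hyc, hzinv, rfl⟩ := exists_fixed_mul_inverted hS'.part.hv
      (hB.norm (mem_centralizer_singleton_iff.2 hut.eq)) hb
      (CaseB.odd_card_of_pGroup hP.odd ((isPGroup_coreAt p t).to_le hB.le))
    have hy1 : y = 1 := mem_bot.1 (hB.disj ▸ mem_inf.2 ⟨hy, hfix ▸ mem_fixAt.2 ⟨hB.le hy, hyc⟩⟩)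
    rw [hy1, one_mul]
    exact hzinv
  have hmem : c * x * c⁻¹ ∈ bigF p t B :=
    (mem_normalizer_iff.1 (hB.norm_F (mem_centralizer_singleton_iff.2 hct.eq)) x).1 hx
  have h := hBig.inv_F hmem
  rw [hu] at h
  calc a * x * a⁻¹ = c⁻¹ * (c * a * c⁻¹ * (c * x * c⁻¹) * (c * a * c⁻¹)⁻¹) * c := by group
    _ = x⁻¹ := by rw [h]; group

end Setup

/-- `k = p R` in the middle shape -/
theorem Mid.exists_relIndex {t v : G} {p : ℕ} {L X : Subgroup G} (hM : Mid t v p L X) :
    ∃ R : ℕ, Odd R ∧ R ≤ p ∧ (centL t L).relIndex (centralizer ({t} : Set G)) = p * R := by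
  obtain ⟨-, hpR⟩ := hM.centA_eq
  have hkR : (centL t L).relIndex (centralizer ({t} : Set G)) =
      p * (centA p t L).relIndex (centralizer ({t} : Set G)) := by
    rw [← relIndex_mul_relIndex _ _ _ (centL_le_centA p t L) (centA_le p t L), hpR]
  have hodd : Odd ((centA p t L).relIndex (centralizer ({t} : Set G))) :=
    hM.setup.odd_relIndex_centL.of_dvd_nat (Dvd.intro_left _ hkR.symm)
  refine ⟨_, hodd, ?_, hkR⟩
  have h1 := hM.bound
  obtain ⟨i, hi⟩ := hodd
  obtain ⟨i', hi'⟩ := hM.setup.part.prime.odd_of_ne_two hM.setup.part.odd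
  omega

end CfsgLib.GW.CaseA
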