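import Cfsg.Agent.Lib.GW.OuterTori
import Cfsg.Agent.Lib.GW.TorusCent

/-!
# The odd part of the centraliser of an involution over `PSL(2, F)` is cyclic
-/

set_option autoImplicit false
set_option linter.style.haveILetI false
set_option linter.unusedSectionVars false

namespace CfsgLib.GW.CaseA

open Matrix CfsgLib.Invol CfsgLib.AutPSL CfsgLib.GW CfsgLib.Perm.Dickson

universe u

variable {X : Type u} [Group X] [Finite X] {F : Type*} [Field F] [Fintype F]
  (M : Subgroup X) [M.Normal] (e : M ≃* Matrix.ProjectiveSpecialLinearGroup (Fin 2) F)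

include e in
/-- **(6e) the torus of an involution is cyclic** -/
theorem psl_torus_cyclic (hX : DihTwo X) (hC : Subgroup.centralizer (M : Set X) = ⊥) (h2 : (2 : F) ≠ 0) {t : X}
    (ht : orderOf t = 2) :
    ∃ T : Subgroup X, IsCyclic T ∧ ∀ x ∈ diagPart M e, Odd (orderOf x) → Commute x t → x ∈ T := by
  classical
  haveI := finite_G2 (F := F)
  obtain ⟨p, hchar⟩ := CharP.exists F
  haveI := hchar
  haveI : Fact p.Prime := ⟨CharP.char_is_prime F p⟩
  haveI := charP_Kc (F := F) p
  have ho : Odd (Nat.card F) := odd_of_two_ne h2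
  have htD : t ∈ diagPart M e := two_mem_diagPart M e hX hC h2 (k := 1) (by rw [ht]; norm_num)
  have hinj := toG_injective M e hC
  set α := toG M e ⟨t, htD⟩ with hαdef
  have hα : orderOf α = 2 := by rw [hαdef, orderOf_injective _ hinj, Subgroup.orderOf_mk, ht]
  have hα1 : α ≠ 1 := fun h => by rw [h, orderOf_one] at hα; omega
  obtain ⟨a, ha⟩ := exists_fixed_of_isAlgClosed (mapG (iF F) α)
  obtain ⟨b, hb, hba⟩ : ∃ b, mapG (iF F) α • b = b ∧ b ≠ a := by
    by_contra! h
    have hp := pow_char_of_single p ha h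
    rw [← map_pow, map_eq_one_iff _ (mapG_injective _)] at hp
    have h2' := (Nat.dvd_prime (Fact.out : p.Prime)).1 (orderOf_dvd_of_pow_eq_one hp)
    rw [hα] at h2'
    have hp2 : p = 2 := (h2'.resolve_left (by norm_num)).symm
    subst hp2
    exact h2 (CharTwo.two_eq_zero (R := F))
  have hab : a ≠ b := Ne.symm hba
  have hαP : α ∈ pairFix a b := mem_pairFix.2 ⟨ha, hb⟩
  haveI := isCyclic_pairFix (F := F) hab
  refine ⟨((pairFix a b).comap (toG M e)).map (diagPart M e).subtype, ?_, fun x hxD hxo hxt => ?_⟩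
  · haveI : IsCyclic ((pairFix a b).comap (toG M e)) := isCyclic_of_injective ((toG M e).subgroupComap (pairFix a b))
      fun x y h => Subtype.ext (hinj (congrArg Subtype.val h))
    exact (((pairFix a b).comap (toG M e)).equivMapOfInjective _ (diagPart M e).subtype_injective).isCyclic.1
      inferInstance
  · have hps : toG M e ⟨x, hxD⟩ ∈ pairSet a b := CfsgLib.Classical.PslBin.mem_pairSet_of_comm hab hαP hα1 (by
      rw [hαdef, ← map_mul, ← map_mul]
      exact congrArg _ (Subtype.ext hxt.eq.symm))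
    refine ⟨⟨x, hxD⟩, show toG M e ⟨x, hxD⟩ ∈ pairFix a b from by_contra fun hn => ?_, rfl⟩
    have h1 : orderOf x ∣ 2 := by
      rw [← Subgroup.orderOf_mk x hxD, ← orderOf_injective _ hinj]
      exact orderOf_dvd_of_pow_eq_one (by rw [sq, sq_of_swap hab hps hn])
    rcases (Nat.dvd_prime Nat.prime_two).1 h1 with h | h
    · rw [orderOf_eq_one_iff] at h
      subst h
      exact hn (by rw [show (⟨1, hxD⟩ : diagPart M e) = 1 from rfl, map_one]; exact one_mem _)
    · exact absurd (h ▸ hxo) (by decide)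

end CfsgLib.GW.CaseA
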