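import Cfsg.Agent.Lib.GW.CaseA.TypeCData
import Cfsg.Agent.Lib.GW.CaseA.XTorus

/-!
# Case A, an involution acting partially: the maximal subgroup `L = N(Y)`

`L` is the normaliser of `Y = C_T(v)` and `Y = T ∩ O(L)`.  The conjugates of `t` in `L` centralise `O(L)`, and `Y`
meets its conjugates under elements of `C(t)` outside `L` trivially.
-/

set_option autoImplicit false
set_option linter.style.haveILetI false
set_option linter.unusedSectionVars false

open Subgroup
open CfsgLib.Coprime.BenderPair CfsgLib.Coprime.BenderUniqueness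

namespace CfsgLib.GW.CaseA

universe u

variable {G : Type u} [Group G] [Finite G]

/-- the conjugates of `t` under `L` -/
def tConj (t : G) (L : Subgroup G) : Set G := {u | ∃ g ∈ L, g * t * g⁻¹ = u}

theorem orderOf_tConj {t : G} {L : Subgroup G} (ht : orderOf t = 2) {u : G} (hu : u ∈ tConj t L) : orderOf u = 2 := by
  obtain ⟨g, -, rfl⟩ := hu
  rw [← MulAut.conj_apply, MulEquiv.orderOf_eq, ht]

theorem mem_of_tConj {t : G} {L : Subgroup G} (ht : t ∈ L) {u : G} (hu : u ∈ tConj t L) : u ∈ L := by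
  obtain ⟨g, hg, rfl⟩ := hu
  exact mul_mem (mul_mem hg ht) (inv_mem hg)

namespace Partial

variable {t v : G} {p : ℕ} (hP : Partial t v p)
include hP

/-- conjugating by an element of `C(t)` -/
theorem conj {c : G} (hc : Commute c t) : Partial t (c * v * c⁻¹) p where
  hA := hP.hA
  prime := hP.prime
  odd := hP.odd
  hv := by rw [← MulAut.conj_apply, MulEquiv.orderOf_eq, hP.hv]
  hne := fun h => hP.hne (by
    calc t = c⁻¹ * (t * c) := by rw [← hc.eq]; group
      _ = c⁻¹ * (c * v * c⁻¹ * c) := by conv_lhs => rw [h]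
      _ = v := by group)
  hc := (hc.symm.mul_right hP.hc).mul_right hc.symm.inv_right
  moved := by
    obtain ⟨x, hx, h⟩ := hP.moved
    refine ⟨c * x * c⁻¹, (mem_normalizer_iff.1 (mem_normalizer_coreAt hc) x).1 hx, fun h' => h ?_⟩
    show x * v = v * x
    calc x * v = c⁻¹ * ((c * x * c⁻¹) * (c * v * c⁻¹)) * c := by group
      _ = v * x := by rw [h'.eq]; group
  fixed := by
    obtain ⟨x, hx, h1, h⟩ := hP.fixed
    refine ⟨c * x * c⁻¹, (mem_normalizer_iff.1 (mem_normalizer_coreAt hc) x).1 hx, fun h' => h1 ?_,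
      h.map (MulAut.conj c).toMonoidHom⟩
    rwa [← MulAut.conj_apply, map_eq_one_iff _ (MulEquiv.injective _)] at h'

theorem mem_fixAt_conj {c : G} (hc : Commute c t) {x : G} :
    x ∈ fixAt p t (c * v * c⁻¹) ↔ c⁻¹ * x * c ∈ fixAt p t v := by
  rw [mem_fixAt, mem_fixAt]
  refine and_congr ((mem_normalizer_iff''.1 (mem_normalizer_coreAt hc)) x) ⟨fun h => ?_, fun h => ?_⟩
  · have h' := h.map (MulAut.conj c⁻¹).toMonoidHom
    simpa [mul_assoc] using h'
  · have h' := h.map (MulAut.conj c).toMonoidHom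
    simpa [mul_assoc] using h'

theorem fixAt_conj {c : G} (hc : Commute c t) :
    fixAt p t (c * v * c⁻¹) = (fixAt p t v).map (MulAut.conj c).toMonoidHom := by
  ext x
  rw [hP.mem_fixAt_conj hc, CaseB.mem_conj]

end Partial

/-- `L` is a maximal subgroup over `N(Y)` -/
structure Setup (t v : G) (p : ℕ) (L : Subgroup G) : Prop where
  part : Partial t v p
  above : normalizer (fixAt p t v : Set G) ≤ L
  coatom : IsCoatom L

theorem Partial.exists_setup {t v : G} {p : ℕ} (hP : Partial t v p) : ∃ L : Subgroup G, Setup t v p L := by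
  obtain ⟨L, hL, hle⟩ := CaseB.exists_coatom hP.normalizer_ne_top
  exact ⟨L, hP, hle, hL⟩

namespace Setup

variable {t v : G} {p : ℕ} {L : Subgroup G} (hS : Setup t v p L)
include hS

theorem fused : Fused t v L := hS.part.fused_above hS.above hS.coatom.1

theorem loc : Loc t p (fixAt p t v) L := hS.part.loc_above hS.above

theorem t_mem : t ∈ L := hS.fused.tH

theorem v_mem : v ∈ L := hS.fused.vH

theorem fixAt_le : fixAt p t v ≤ L := le_normalizer.trans hS.above

theorem centralizer_le : centralizer (fixAt p t v : Set G) ≤ L := (centralizer_le_normalizer _).trans hS.above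

theorem commute_ocN_t {x : G} (hx : x ∈ CaseB.ocN L) : Commute x t :=
  mem_centralizer_singleton_iff.1 (hS.fused.ocN_le hx)

theorem commute_ocN_v {x : G} (hx : x ∈ CaseB.ocN L) : Commute x v :=
  mem_centralizer_singleton_iff.1 (hS.fused.ocN_le_conj hx)

theorem commute_ocN_tConj {u x : G} (hu : u ∈ tConj t L) (hx : x ∈ CaseB.ocN L) : Commute x u := by
  obtain ⟨g, hg, rfl⟩ := hu
  have h1 := hS.commute_ocN_t ((mem_normalizer_iff''.1 (CaseB.le_normalizer_ocN L hg) x).1 hx)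
  show x * (g * t * g⁻¹) = g * t * g⁻¹ * x
  calc x * (g * t * g⁻¹) = g * ((g⁻¹ * x * g) * t) * g⁻¹ := by group
    _ = g * t * g⁻¹ * x := by rw [h1.eq]; group

/-- what `v` fixes in `O_q(C(t)) ∩ L` lies in `O(L)` -/
theorem mem_ocN_of_fixed {q : ℕ} (hq : q.Prime) (hq2 : q ≠ 2) {x : G} (hx : x ∈ coreAt q t) (hxL : x ∈ L)
    (hxv : Commute x v) : x ∈ CaseB.ocN L :=
  hS.fused.mem_ocN_of_fixed hS.loc hS.part.hA hS.part.prime hS.part.odd hS.part.hv hS.part.hne hS.part.hc hq hq2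
    hx hxL hxv

/-- **`Y = T ∩ O(L)`** -/
theorem mem_fixAt_iff {x : G} : x ∈ fixAt p t v ↔ x ∈ coreAt p t ∧ x ∈ CaseB.ocN L := by
  refine ⟨fun h => ⟨(mem_fixAt.1 h).1, ?_⟩, fun h => mem_fixAt.2 ⟨h.1, hS.commute_ocN_v h.2⟩⟩
  exact hS.mem_ocN_of_fixed hS.part.prime hS.part.odd (mem_fixAt.1 h).1 (hS.fixAt_le h) (mem_fixAt.1 h).2

theorem fixAt_le_ocN : fixAt p t v ≤ CaseB.ocN L := fun _ hx => (hS.mem_fixAt_iff.1 hx).2

/-- the component: a normal subgroup of the quotient isomorphic to `PSL(2, F)` -/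
theorem exists_psl :
    ∃ (F : Type) (_ : Field F) (_ : Fintype F) (M : Subgroup (L ⧸ Cfsg.oddCore L)) (_ : M.Normal),
      Odd (Fintype.card F) ∧ 5 ≤ Fintype.card F ∧ IsSimpleGroup M ∧
      centralizer (M : Set (L ⧸ Cfsg.oddCore L)) = ⊥ ∧
      Nonempty (M ≃* Matrix.ProjectiveSpecialLinearGroup (Fin 2) F) :=
  hS.fused.exists_psl hS.loc hS.part.hA hS.part.prime hS.part.odd hS.part.hv hS.part.hne hS.part.hc

theorem dihTwo_quot : DihTwo (L ⧸ Cfsg.oddCore L) :=
  dihTwo_mod_core hS.part.hA.min hS.part.hA.invol hS.part.hv hS.part.hne hS.part.hc hS.t_mem hS.v_mem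

/-- the centraliser of `O(L)` covers the component -/
theorem exists_cent_lift {M : Subgroup (L ⧸ Cfsg.oddCore L)} [M.Normal] (hM : IsSimpleGroup M)
    (htM : QuotientGroup.mk' (Cfsg.oddCore L) ⟨t, hS.t_mem⟩ ∈ M) {m : L ⧸ Cfsg.oddCore L} (hm : m ∈ M) :
    ∃ c : G, ∃ hcL : c ∈ L, c ∈ centralizer (CaseB.ocN L : Set G) ∧
      QuotientGroup.mk' (Cfsg.oddCore L) ⟨c, hcL⟩ = m := by
  set C : Subgroup L := (centralizer (CaseB.ocN L : Set G)).subgroupOf L with hCdef
  haveI : C.Normal := by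
    refine ⟨fun c hc g => ?_⟩
    have hg : (g : G) ∈ normalizer (centralizer (CaseB.ocN L : Set G) : Set G) :=
      (CaseB.le_normalizer_ocN L).trans (CfsgLib.Coprime.normalizer_le_normalizer_centralizer _) g.2
    exact mem_subgroupOf.2 ((mem_normalizer_iff.1 hg _).1 (mem_subgroupOf.1 hc))
  set N := C.map (QuotientGroup.mk' (Cfsg.oddCore L))
  haveI : N.Normal := ‹C.Normal›.map _ (QuotientGroup.mk'_surjective _)
  have htN : QuotientGroup.mk' (Cfsg.oddCore L) ⟨t, hS.t_mem⟩ ∈ N := ⟨⟨t, hS.t_mem⟩,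
    mem_subgroupOf.2 (mem_centralizer_iff.2 fun x hx => hS.commute_ocN_t hx), rfl⟩
  haveI := hM
  have hmN : m ∈ N := by
    rcases ((‹N.Normal›).comap M.subtype).eq_bot_or_eq_top with h | h
    · have h0 : (⟨_, htM⟩ : M) ∈ N.comap M.subtype := htN
      rw [h, mem_bot] at h0
      exact absurd (congrArg Subtype.val h0) (Invol.invol_ne_one (orderOf_mk_two hS.t_mem hS.part.hA.invol))
    · exact (h ▸ mem_top (⟨m, hm⟩ : M) : (⟨m, hm⟩ : M) ∈ N.comap M.subtype)
  obtain ⟨⟨c, hcL⟩, hc, hcm⟩ := hmN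
  exact ⟨c, hcL, mem_subgroupOf.1 hc, hcm⟩

/-- **`L = C_L(O(L)) C_L(t)`** -/
theorem exists_factor {g : G} (hg : g ∈ L) :
    ∃ c s : G, c ∈ L ∧ c ∈ centralizer (CaseB.ocN L : Set G) ∧ s ∈ L ∧ Commute s t ∧ g = c * s := by
  obtain ⟨F, iF, jF, M, hMn, ho, h5, hM, hC, ⟨e⟩⟩ := hS.exists_psl
  have hto := orderOf_mk_two hS.t_mem hS.part.hA.invol
  have htM := (hS.fused.four_mem hS.part.hA hS.part.hv hS.part.hne hS.part.hc ho hC e).1
  obtain ⟨z, hz, m, hm, hgz⟩ := cent_sup_eq_top M e hto htM (QuotientGroup.mk' (Cfsg.oddCore L) ⟨g, hg⟩)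
  obtain ⟨c, hcL, hcC, hcm⟩ := hS.exists_cent_lift hM htM hm
  obtain ⟨s, hs, hst⟩ := exists_comm_lift (odd_oddCore L) (u := (⟨t, hS.t_mem⟩ : L))
    (by rw [Subgroup.orderOf_mk, hS.part.hA.invol]) (mem_centralizer_singleton_iff.1 hz)
  have hk : ((⟨c, hcL⟩ : L) * s)⁻¹ * ⟨g, hg⟩ ∈ Cfsg.oddCore L := by
    refine (QuotientGroup.eq_one_iff _).1 ?_
    show QuotientGroup.mk' (Cfsg.oddCore L) _ = 1
    rw [map_mul, map_inv, map_mul, hcm, hs, ← hgz, inv_mul_cancel]
  have hkK : (c * (s : G))⁻¹ * g ∈ CaseB.ocN L := ⟨_, hk, rfl⟩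
  refine ⟨c, c⁻¹ * g, hcL, hcC, mul_mem (inv_mem hcL) hg, ?_, (mul_inv_cancel_left c g).symm⟩
  rw [show c⁻¹ * g = (s : G) * ((c * (s : G))⁻¹ * g) by group]
  exact (show Commute (s : G) t from congrArg Subtype.val hst.eq).mul_left (hS.commute_ocN_t hkK)

/-- a conjugate of `t` in `L` is conjugate by an element centralising `O(L)` -/
theorem exists_cent_conj {u : G} (hu : u ∈ tConj t L) :
    ∃ c ∈ L, c ∈ centralizer (CaseB.ocN L : Set G) ∧ c * t * c⁻¹ = u := by
  obtain ⟨g, hg, rfl⟩ := hu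
  obtain ⟨c, s, hc, hcC, -, hst, rfl⟩ := hS.exists_factor hg
  refine ⟨c, hc, hcC, ?_⟩
  calc c * t * c⁻¹ = c * (t * s) * (s⁻¹ * c⁻¹) := by group
    _ = c * s * t * (c * s)⁻¹ := by rw [← hst.eq]; group

/-- **`L = N(Y)`** -/
theorem eq_normalizer : L = normalizer (fixAt p t v : Set G) := by
  refine le_antisymm (fun g hg => ?_) hS.above
  obtain ⟨c, s, -, hc, hs, hst, rfl⟩ := hS.exists_factor hg
  refine mul_mem (centralizer_le_normalizer _ (Subgroup.centralizer_le hS.fixAt_le_ocN hc)) (mem_normalizer_iff.2 fun x => ?_)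
  rw [hS.mem_fixAt_iff, hS.mem_fixAt_iff]
  exact and_congr ((mem_normalizer_iff.1 (mem_normalizer_coreAt hst)) x)
    ((mem_normalizer_iff.1 (CaseB.le_normalizer_ocN L hs)) x)

/-- the setup conjugated by an element of `C(t)` -/
theorem conj {c : G} (hc : Commute c t) : Setup t (c * v * c⁻¹) p (L.map (MulAut.conj c).toMonoidHom) where
  part := hS.part.conj hc
  above := fun x hx => by
    refine CaseB.mem_conj.2 (hS.above (mem_normalizer_iff.2 fun y => ?_))
    have h := mem_normalizer_iff.1 hx (c * y * c⁻¹)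
    rw [hS.part.mem_fixAt_conj hc, hS.part.mem_fixAt_conj hc] at h
    simpa [mul_assoc] using h
  coatom := CaseB.isCoatom_conj hS.coatom c

/-- the centraliser of an element of `Y` -/
theorem fused_cent {y : G} (hy : y ∈ fixAt p t v) (hy1 : y ≠ 1) :
    Fused t v (centralizer ({y} : Set G)) ∧ Loc t p (zpowers y) (centralizer ({y} : Set G)) := by
  haveI := Fact.mk hS.part.prime
  have hP := hS.part
  have hA := hP.hA
  set H := centralizer ({y} : Set G)
  have hCY : centralizer (fixAt p t v : Set G) ≤ H := CaseB.centralizer_le_singleton hy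
  have hL : Loc t p (zpowers y) H := by
    refine ⟨hCY hP.t_mem_cent, zpowers_eq_bot.not.2 hy1, zpowers_le.2 (mem_fixAt.1 hy).1,
      zpowers_le.2 (mem_centralizer_singleton_iff.2 rfl), fun x hx => ?_, fun q hq _ hqp x hx => ?_⟩
    · exact mem_centralizer_singleton_iff.2 (mem_centralizer_iff.1 hx.2 y (mem_zpowers y)).symm
    · haveI := Fact.mk hq
      exact mem_centralizer_singleton_iff.2 (commute_opc hqp (mem_fixAt.1 hy).1 hx).eq.symm
  have hlift : ∀ u ∈ tConj t L, ∃ h ∈ H, h * t * h⁻¹ = u := fun u hu => by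
    obtain ⟨c, -, hc, hcu⟩ := hS.exists_cent_conj hu
    exact ⟨c, hCY (Subgroup.centralizer_le hS.fixAt_le_ocN hc), hcu⟩
  have hfv := hlift v hS.fused.fuse_v
  have hftv := hlift (t * v) hS.fused.fuse_tv
  have hvH : v ∈ H := hCY hP.v_mem_cent
  have hle : CaseB.ocN H ≤ centralizer ({t} : Set G) :=
    hL.commute_ocN_of_fused hA hP.odd hP.hv hP.hne hP.hc hvH hfv hftv
  have hne : H ≠ ⊤ := fun h => hy1 (by
    have h2 : y ∈ center G := mem_center_iff.2 fun g =>
      mem_centralizer_singleton_iff.1 (h.ge (mem_top g))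
    rwa [hA.min.center_eq_bot, mem_bot] at h2)
  exact ⟨⟨hL.mem, hvH, hfv, hftv, (hA.min.proper_cases hne).resolve_left (hP.not_typeTwo hCY hle),
    hP.not_fourType hCY hle, hle⟩, hL⟩

/-- **conjugates of `Y` under `C(t)` meet trivially outside `L`** -/
theorem mem_of_meet {c y : G} (hc : Commute c t) (hy : y ∈ fixAt p t v) (hy1 : y ≠ 1)
    (hy' : c⁻¹ * y * c ∈ fixAt p t v) : c ∈ L := by
  haveI := Fact.mk hS.part.prime
  have hP' := hS.part.conj hc
  set v' := c * v * c⁻¹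
  have hS' := hS.conj hc
  have hY' : ∀ w ∈ fixAt p t v, w ∈ fixAt p t v' → w ≠ 1 → ∀ z ∈ fixAt p t v', Commute z w →
      z ∈ fixAt p t v := by
    intro w hw hw' hw1 z hz hzw
    obtain ⟨hF', hL'⟩ := hS'.fused_cent hw' hw1
    obtain ⟨hF, -⟩ := hS.fused_cent hw hw1
    have hzH : z ∈ centralizer ({w} : Set G) := mem_centralizer_singleton_iff.2 hzw.eq
    exact mem_fixAt.2 ⟨(mem_fixAt.1 hz).1, mem_centralizer_singleton_iff.1 (hF.ocN_le_conj
      (hF'.mem_ocN_of_fixed hL' hP'.hA hP'.prime hP'.odd hP'.hv hP'.hne hP'.hc hP'.prime hP'.odd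
        (mem_fixAt.1 hz).1 hzH (mem_fixAt.1 hz).2))⟩
  have hy'' : y ∈ fixAt p t v' := (hS.part.mem_fixAt_conj hc).2 hy'
  -- a central element of `Y'`
  haveI : Nontrivial (fixAt p t v') := (Subgroup.nontrivial_iff_ne_bot _).2 hP'.fixAt_ne_bot
  have hpY : IsPGroup p (fixAt p t v') := (isPGroup_coreAt p t).to_le inf_le_left
  haveI := hpY.center_nontrivial
  obtain ⟨⟨z, hz⟩, hz1⟩ := exists_ne (1 : center (fixAt p t v'))
  have hzc : ∀ x ∈ fixAt p t v', Commute x (z : G) := fun x hx =>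
    congrArg Subtype.val (mem_center_iff.1 hz ⟨x, hx⟩)
  have hzY : (z : G) ∈ fixAt p t v := hY' y hy hy'' hy1 z z.2 (hzc y hy'').symm
  have hle : fixAt p t v' ≤ fixAt p t v := fun x hx => hY' z hzY z.2 (fun h => hz1 (Subtype.ext (Subtype.ext h))) x hx
    (hzc x hx)
  have heq : fixAt p t v' = fixAt p t v := by
    refine eq_of_le_of_card_ge hle ?_
    rw [hS.part.fixAt_conj hc, ← Nat.card_congr (equivMapOfInjective _ _ (MulAut.conj c).injective).toEquiv]
  rw [hS.eq_normalizer, mem_normalizer_iff'']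
  intro x
  exact ⟨fun hx => (hS.part.mem_fixAt_conj hc).1 (heq ▸ hx), fun hx => heq ▸ (hS.part.mem_fixAt_conj hc).2 hx⟩

/-- elements of `C(t)` centralising a part of `Y` lie in `L` -/
theorem mem_of_commute {c y : G} (hc : Commute c t) (hy : y ∈ fixAt p t v) (hy1 : y ≠ 1) (hcy : Commute c y) :
    c ∈ L :=
  hS.mem_of_meet hc hy hy1 (by rwa [mul_assoc, ← hcy.eq, ← mul_assoc, inv_mul_cancel, one_mul])

/-- no normal subgroup of `C(t)` other than `1` lies in `O(L)` -/
theorem eq_bot_of_normal {B : Subgroup G} (hB : B ≤ CaseB.ocN L)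
    (hn : centralizer ({t} : Set G) ≤ normalizer (B : Set G)) : B = ⊥ := by
  by_contra hne
  have hA := hS.part.hA
  haveI := hA.min.simple
  have hBt : B ≤ centralizer ({t} : Set G) := hB.trans hS.fused.ocN_le
  have hN := norm_eq (hA.maximal t hA.invol) hne hBt hn
  obtain ⟨c, -, hc, hcv⟩ := hS.exists_cent_conj hS.fused.fuse_v
  have h := centralizer_le_normalizer _ (Subgroup.centralizer_le hB hc)
  rw [hN, mem_centralizer_singleton_iff] at h
  exact hS.part.hne (hcv ▸ by rw [h, mul_inv_cancel_right])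

end Setup

end CfsgLib.GW.CaseA
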