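import Cfsg.Agent.Lib.GW.XCount
import Cfsg.Agent.Lib.GW.TorusCent
import Cfsg.Agent.Lib.GW.OddLift
import Cfsg.Agent.Lib.AutPSL.Centralizer
import Cfsg.Agent.Lib.Char.Basic
import Cfsg.Agent.S2299

/-!
# Facts on groups over `PSL(2, F)` for the first case
-/

set_option autoImplicit false
set_option linter.style.haveILetI false
set_option linter.unusedSectionVars false

namespace CfsgLib.GW.CaseA

open Matrix CfsgLib.Invol CfsgLib.AutPSL CfsgLib.GW CfsgLib.Perm.Dickson

universe u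

/-- the primitive part of `x ^ p - 1` cannot avoid new primes -/
theorem false_of_no_new_prime {x : ℤ} {p : ℕ} (hp : p.Prime) (hp2 : p ≠ 2) (hx : Odd x) (h3 : 3 ≤ |x|)
    (h : ∀ r : ℕ, r.Prime → r ≠ 2 → r ≠ p → (r : ℤ) ∣ x ^ p - 1 → (r : ℤ) ∣ x * (x - 1) * (x + 1)) : False := by
  classical
  have hpodd := hp.odd_of_ne_two hp2
  set Q : ℤ := ∑ i ∈ Finset.range p, x ^ i with hQ
  have hQx : Q * (x - 1) = x ^ p - 1 := geom_sum_mul x p
  have huniq : ∀ r : ℕ, r.Prime → (r : ℤ) ∣ Q → r = p := by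
    intro r hr hrQ
    haveI := Fact.mk hr
    have hQ0 : ((Q : ℤ) : ZMod r) = 0 := (ZMod.intCast_zmod_eq_zero_iff_dvd Q r).2 hrQ
    rw [hQ, Int.cast_sum] at hQ0
    simp only [Int.cast_pow] at hQ0
    have hone : (x : ZMod r) = 1 → r = p := fun e => by
      simp only [e, one_pow, Finset.sum_const, Finset.card_range, nsmul_eq_mul, mul_one] at hQ0
      exact (Nat.prime_dvd_prime_iff_eq hr hp).1 ((ZMod.natCast_eq_zero_iff _ _).1 hQ0)
    by_cases hr2 : r = 2
    · subst hr2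
      refine hone ?_
      obtain ⟨j, hj⟩ := hx
      rw [hj]
      push_cast
      rw [show (2 : ZMod 2) = 0 from rfl, zero_mul, zero_add]
    by_contra hrp
    have hd := h r hr hr2 hrp (hrQ.trans ⟨x - 1, hQx.symm⟩)
    rcases (Nat.prime_iff_prime_int.1 hr).dvd_mul.1 hd with h' | h'
    · rcases (Nat.prime_iff_prime_int.1 hr).dvd_mul.1 h' with h'' | h''
      · rw [(ZMod.intCast_zmod_eq_zero_iff_dvd x r).2 h'', zero_geom_sum, if_neg hp.ne_zero] at hQ0
        exact one_ne_zero hQ0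
      · exact hrp (hone (sub_eq_zero.1 (by
          rw [← Int.cast_one, ← Int.cast_sub]; exact (ZMod.intCast_zmod_eq_zero_iff_dvd _ r).2 h'')))
    · have e : (x : ZMod r) = -1 := eq_neg_of_add_eq_zero_left (by
        rw [← Int.cast_one, ← Int.cast_add]; exact (ZMod.intCast_zmod_eq_zero_iff_dvd _ r).2 h')
      rw [e, neg_one_geom_sum, if_neg (Nat.not_even_iff_odd.2 hpodd)] at hQ0
      exact one_ne_zero hQ0
  have hQp : (p : ℤ) < |Q| := by
    by_contra hle
    push Not at hle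
    have h1 : |x| ^ p - 1 ≤ |x ^ p - 1| := by
      have := abs_sub_abs_le_abs_sub (x ^ p) 1
      rwa [abs_pow, abs_one] at this
    have h2 : |x - 1| ≤ |x| + 1 := by
      have := abs_sub x 1
      rwa [abs_one] at this
    have h4 : |x ^ p - 1| ≤ (p : ℤ) * (|x| + 1) := by
      rw [← hQx, abs_mul]
      exact mul_le_mul hle h2 (abs_nonneg _) (Int.natCast_nonneg _)
    obtain ⟨j, hj⟩ := hpodd
    have h9 : (3 : ℤ) * p ≤ |x| ^ (2 * j) := by
      have hj1 : 1 ≤ j := by have := hp.two_le; omega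
      have hb : (1 : ℤ) + 8 * j ≤ 9 ^ j := by
        have := one_add_mul_le_pow (show (-2 : ℤ) ≤ 8 by norm_num) j
        norm_num at this
        linarith
      have h99 : (9 : ℤ) ^ j ≤ |x| ^ (2 * j) := by
        rw [pow_mul]; exact pow_le_pow_left₀ (by norm_num) (by nlinarith [h3]) j
      rw [hj]; push_cast
      have : (1 : ℤ) ≤ j := by exact_mod_cast hj1
      linarith
    have hpow : |x| ^ p = |x| ^ (2 * j) * |x| := by rw [hj, pow_succ]
    have hp3 : (3 : ℤ) ≤ p := by have := hp.two_le; omega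
    nlinarith [mul_le_mul_of_nonneg_right h9 (abs_nonneg x), hp3, h3]
  obtain ⟨k, hk⟩ : ∃ k, Q.natAbs = p ^ k := by
    refine ⟨_, Nat.eq_prime_pow_of_unique_prime_dvd (fun e => ?_) fun {d} hd hdQ => ?_⟩
    · rw [Int.abs_eq_natAbs, e] at hQp
      exact absurd hQp (by simp)
    · exact huniq d hd (Int.natCast_dvd.2 hdQ)
  rw [Int.abs_eq_natAbs, hk] at hQp
  have hQp' : p < p ^ k := by exact_mod_cast hQp
  have hk2 : 2 ≤ k := by
    by_contra hh
    interval_cases k <;> simp at hQp'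
    exact hp.ne_zero hQp'
  have hpQ : (p : ℤ) ^ 2 ∣ Q := by
    rw [← Int.dvd_natAbs, hk, Nat.cast_pow]
    exact pow_dvd_pow _ hk2
  haveI := Fact.mk hp
  have hx1 : (p : ℤ) ∣ x - 1 := by
    rw [← ZMod.intCast_zmod_eq_zero_iff_dvd, Int.cast_sub, Int.cast_one, sub_eq_zero, ← ZMod.pow_card (x : ZMod p),
      ← sub_eq_zero]
    have := (ZMod.intCast_zmod_eq_zero_iff_dvd (x ^ p - 1) p).2
      (((dvd_pow_self _ two_ne_zero).trans hpQ).trans ⟨x - 1, hQx.symm⟩)
    push_cast at this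
    exact this
  obtain ⟨b, hb⟩ := hx1
  have h5 := odd_sq_dvd_geom_sum₂_sub (1 : ℤ) b (hp.odd_of_ne_two hp2)
  simp only [one_pow, mul_one] at h5
  rw [show 1 + (p : ℤ) * b = x by linarith, ← hQ] at h5
  have h6 : (p : ℤ) ^ 2 ∣ (p : ℤ) := by
    have := dvd_sub hpQ h5
    rwa [sub_sub_cancel] at this
  have h7 := Nat.le_of_dvd hp.pos (by exact_mod_cast h6 : p ^ 2 ∣ p)
  nlinarith [hp.two_le]

/-- the centraliser of an involution in `PSL(2, r ^ p)` has new primes -/
theorem false_of_invCard_pow {r0 p : ℕ} (hp : p.Prime) (hp2 : p ≠ 2) (hr : Odd r0) (h3 : 3 ≤ r0)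
    (h : ∀ r : ℕ, r.Prime → r ≠ 2 → r ≠ p → r ∣ invCard (r0 ^ p) → r ∣ r0 * (r0 - 1) * (r0 + 1)) : False := by
  obtain ⟨j, hj⟩ := hp.odd_of_ne_two hp2
  have h4 : r0 ^ p % 4 = r0 % 4 := by
    have hsq : r0 ^ 2 % 4 = 1 := by
      obtain ⟨i, rfl⟩ := hr
      ring_nf
      omega
    rw [hj, pow_succ, pow_mul, Nat.mul_mod, Nat.pow_mod, hsq]
    simp
  have h1 : 1 ≤ r0 ^ p := Nat.one_le_pow _ _ (by omega)
  have hcast : ((r0 * (r0 - 1) * (r0 + 1) : ℕ) : ℤ) = (r0 : ℤ) * ((r0 : ℤ) - 1) * ((r0 : ℤ) + 1) := by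
    push_cast [Nat.cast_sub (show 1 ≤ r0 by omega)]
    ring
  by_cases h5 : r0 % 4 = 1
  · refine false_of_no_new_prime (x := r0) hp hp2 (by exact_mod_cast hr) (by rw [Nat.abs_cast]; exact_mod_cast h3)
      fun r hrp hr2 hrne hd => ?_
    rw [← hcast, Int.natCast_dvd_natCast]
    refine h r hrp hr2 hrne ?_
    rw [invCard, if_pos (h4 ▸ h5), ← Int.natCast_dvd_natCast, Nat.cast_sub h1]
    push_cast
    exact hd
  · refine false_of_no_new_prime (x := -(r0 : ℤ)) hp hp2 (by simpa using (show Odd (r0 : ℤ) by exact_mod_cast hr))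
      (by rw [abs_neg, Nat.abs_cast]; exact_mod_cast h3) fun r hrp hr2 hrne hd => ?_
    have := h r hrp hr2 hrne (by
      rw [invCard, if_neg (h4 ▸ h5), ← Int.natCast_dvd_natCast]
      push_cast
      rw [← dvd_neg]
      refine hd.trans (dvd_of_eq ?_)
      rw [(hp.odd_of_ne_two hp2).neg_pow]
      ring)
    rw [← Int.natCast_dvd_natCast, hcast] at this
    refine (dvd_neg.2 this).trans (dvd_of_eq ?_)
    ring

variable {X : Type u} [Group X] [Finite X] {F : Type*} [Field F] [Fintype F]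
  (M : Subgroup X) [M.Normal] (e : M ≃* Matrix.ProjectiveSpecialLinearGroup (Fin 2) F)

include e in
/-- the odd elements of the centraliser of an involution in the diagonal part commute -/
theorem commute_of_cent_invol (hX : DihTwo X) (hC : Subgroup.centralizer (M : Set X) = ⊥) (h2 : (2 : F) ≠ 0)
    {t x y : X} (ht : orderOf t = 2) (hx : x ∈ diagPart M e) (hy : y ∈ diagPart M e) (hxo : Odd (orderOf x))
    (hyo : Odd (orderOf y)) (hxt : Commute x t) (hyt : Commute y t) : Commute x y := by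
  have hinj := conjVia_injective M e hC
  have hord : ∀ v : X, orderOf (conjVia M e v) = orderOf v := fun v => orderOf_injective _ hinj v
  obtain ⟨gt, hgt⟩ := (mem_diagPart M e).1 (two_mem_diagPart M e hX hC h2 (k := 1) (by rw [ht]; norm_num))
  obtain ⟨gx, hgx⟩ := (mem_diagPart M e).1 hx
  obtain ⟨gy, hgy⟩ := (mem_diagPart M e).1 hy
  have h := Two.commute_of_cent (a := gt) (b := gx) (c := gy)
    (by rw [← hgt]; exact fun h => invol_ne_one ht (hinj (h.trans (map_one _).symm)))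
    (by rw [← hgx, hord]; exact hxo) (by rw [← hgy, hord]; exact hyo)
    (by rw [← hgx, ← hgt]; exact hxt.map _) (by rw [← hgy, ← hgt]; exact hyt.map _)
  rw [← hgx, ← hgy] at h
  exact hinj (by rw [map_mul, map_mul]; exact h.eq)

include e in
/-- **(1) elements centralising the torus of an involution lie in `M`** -/
theorem mem_of_commute_torus (hX : DihTwo X) (hC : Subgroup.centralizer (M : Set X) = ⊥)
    (ho : Odd (Fintype.card F)) (h5 : 5 ≤ Fintype.card F) {p : ℕ} [Fact p.Prime] (hp : p ≠ 2) {t φ : X}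
    (ht : orderOf t = 2) (htM : t ∈ M) (hφt : Commute φ t) (hφ : ∃ k, orderOf φ = p ^ k)
    (hc : ∀ y ∈ M, Commute y t → Odd (orderOf y) → (orderOf y).Prime → ¬ p ∣ orderOf y → Commute φ y) :
    φ ∈ M := by
  classical
  have hpp : p.Prime := Fact.out
  have h2 : (2 : F) ≠ 0 := by
    intro h
    have h' : ringChar F = 2 := CharP.ringChar_of_prime_eq_zero Nat.prime_two (by exact_mod_cast h)
    have := FiniteField.even_card_of_char_two h'
    have := Nat.odd_iff.1 ho
    omega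
  have hinj := conjVia_injective M e hC
  by_contra hφM
  obtain ⟨k, hk⟩ := hφ
  have hoddφ : Odd (orderOf φ) := hk ▸ (hpp.odd_of_ne_two hp).pow
  -- the field part may be taken of order `p`
  obtain ⟨j, -, hj⟩ := (Nat.dvd_prime_pow hpp).1 (hk ▸ orderOf_map_dvd (fieldOn M e) φ)
  have hj1 : 1 ≤ j := Nat.one_le_iff_ne_zero.2 fun h => hφM (mem_of_odd M e hC h2
    (MonoidHom.mem_ker.2 (orderOf_eq_one_iff.1 (by rw [hj, h, pow_zero]))) hoddφ)
  obtain ⟨φ', hφ't, hoddφ', hσ, hc'⟩ : ∃ φ' : X, Commute φ' t ∧ Odd (orderOf φ') ∧ orderOf (fieldOn M e φ') = p ∧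
      ∀ y ∈ M, Commute y t → Odd (orderOf y) → (orderOf y).Prime → ¬ p ∣ orderOf y → Commute φ' y := by
    refine ⟨φ ^ p ^ (j - 1), hφt.pow_left _, hoddφ.of_dvd_nat (orderOf_pow_dvd _), ?_,
      fun y hy h1 h2 h3 h4 => (hc y hy h1 h2 h3 h4).pow_left _⟩
    rw [map_pow, orderOf_pow_of_dvd (pow_ne_zero _ hpp.ne_zero) (hj ▸ pow_dvd_pow _ (Nat.sub_le _ _)), hj,
      Nat.pow_div (Nat.sub_le _ _) hpp.pos, Nat.sub_sub_self hj1, pow_one]
  -- a four group of `M` through `t`
  obtain ⟨a₀, b₀, ha₀, hb₀, hne₀, hc₀, -, -⟩ := exists_fixed_four h2 (1 : RingAut F)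
  obtain ⟨m, hm, hmt⟩ := isConj_of_invol_mem M e (t := ((e.symm a₀ : M) : X))
    (by rw [Subgroup.orderOf_coe, MulEquiv.orderOf_eq, ha₀]) ht (e.symm a₀).2 htM
  set b := m * ((e.symm b₀ : M) : X) * m⁻¹ with hb'
  have hb : orderOf b = 2 := by
    rw [hb', show m * ((e.symm b₀ : M) : X) * m⁻¹ = MulAut.conj m ((e.symm b₀ : M) : X) from rfl, MulEquiv.orderOf_eq,
      Subgroup.orderOf_coe, MulEquiv.orderOf_eq, hb₀]
  have htb : t ≠ b := fun h => by
    rw [← hmt, hb'] at h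
    exact hne₀ (e.symm.injective (Subtype.ext (mul_left_cancel (mul_right_cancel h))))
  have hctb : Commute t b := by
    rw [← hmt, hb']
    exact (show Commute ((e.symm a₀ : M) : X) (e.symm b₀ : M) from
      congrArg Subtype.val (hc₀.map e.symm.toMonoidHom)).map (MulAut.conj m).toMonoidHom
  -- an element of order `p` over the same field automorphism
  obtain ⟨c, hcC, hfc⟩ := cent_four_sup M e hX hC h2 ht hb hctb htM φ'
  obtain ⟨kc, mc, hmc, hkmc⟩ := Nat.exists_eq_two_pow_mul_odd (orderOf_pos c).ne'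
  obtain ⟨i, hi⟩ : ∃ i : ℕ, (fieldOn M e φ' ^ 2 ^ kc) ^ i = fieldOn M e φ' := by
    refine exists_pow_eq_self_of_coprime ?_
    rw [hσ]
    exact Nat.Coprime.pow_left kc ((Nat.coprime_primes Nat.prime_two hpp).2 (Ne.symm hp))
  set φ₀ := (c ^ 2 ^ kc) ^ i with hφ₀
  have hφ₀odd : Odd (orderOf φ₀) := by
    refine hmc.of_dvd_nat ((orderOf_pow_dvd _).trans (dvd_of_eq ?_))
    rw [orderOf_pow_of_dvd (by positivity) ⟨mc, hkmc⟩, hkmc, Nat.mul_div_cancel_left _ (by positivity)]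
  have hfφ₀ : fieldOn M e φ₀ = fieldOn M e φ' := by rw [hφ₀, map_pow, map_pow, hfc, hi]
  have hcent := Subgroup.mem_centralizer_iff.1 hcC
  have hφ₀t : Commute φ₀ t := ((show Commute c t from (hcent t (by simp)).symm).pow_left _).pow_left _
  have hφ₀b : Commute φ₀ b := ((show Commute c b from (hcent b (by simp)).symm).pow_left _).pow_left _
  have hφ₀p : φ₀ ^ p = 1 := by
    have hd : φ₀ ^ p ∈ diagPart M e := MonoidHom.mem_ker.2 (by rw [map_pow, hfφ₀, ← hσ, pow_orderOf_eq_one])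
    have hodd : Odd (orderOf (φ₀ ^ p)) := hφ₀odd.of_dvd_nat (orderOf_pow_dvd p)
    rcases diag_cent_four M e hX hC h2 ht hb htb hctb hd (hφ₀t.pow_left p) (hφ₀b.pow_left p) with h | h | h | h
    · exact h
    all_goals exfalso; rw [h] at hodd
    · exact absurd (ht ▸ hodd) (by decide)
    · exact absurd (hb ▸ hodd) (by decide)
    · exact absurd (invol_mul_of_commute ht hb htb hctb ▸ hodd) (by decide)
  -- it centralises the same elements
  set τ := φ' * φ₀⁻¹ with hτ
  have hτD : τ ∈ diagPart M e := MonoidHom.mem_ker.2 (by rw [hτ, map_mul, map_inv, hfφ₀, mul_inv_cancel])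
  have hτt : Commute τ t := hφ't.mul_left hφ₀t.inv_left
  have hτodd : Odd (orderOf τ) := by
    obtain ⟨N, hNn, hNodd, kN, hkN⟩ := S0514' hX ht
    haveI := hNn
    have hmem : ∀ (v : X) (hv : Commute v t), Odd (orderOf v) →
        (⟨v, Subgroup.mem_centralizer_singleton_iff.2 hv.eq⟩ : Subgroup.centralizer ({t} : Set X)) ∈ N :=
      fun v hv ho => mem_of_coprime_index N hNodd hkN (by
        rw [← Subgroup.orderOf_coe]; exact ho.not_two_dvd_nat)
    have h1 := mul_mem (hmem φ' hφ't hoddφ') (inv_mem (hmem φ₀ hφ₀t hφ₀odd))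
    have h3 := hNodd.of_dvd_nat (Subgroup.orderOf_dvd_natCard N h1)
    rwa [← Subgroup.orderOf_coe] at h3
  have hcy : ∀ y ∈ M, Commute y t → Odd (orderOf y) → (orderOf y).Prime → ¬ p ∣ orderOf y → Commute φ₀ y := by
    intro y hy h1 h3 hpr h4
    have h := (commute_of_cent_invol M e hX hC h2 ht hτD (le_diagPart M e hy) hτodd h3 hτt h1).inv_left.mul_left
      (hc' y hy h1 h3 hpr h4)
    rwa [hτ, _root_.mul_inv_rev, inv_inv, inv_mul_cancel_right] at h
  -- it is a standard field automorphism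
  obtain ⟨σ, g, hg⟩ := exists_ind (conjVia M e φ₀)
  have hσo : orderOf σ = p := by
    have : σ = fieldOn M e φ₀ := by
      show σ = fieldPartHom (conjVia M e φ₀)
      rw [hg, fieldPartHom_ind]
    rw [this, hfφ₀, hσ]
  obtain ⟨B, hB⟩ := field_coset_conj le_rfl hσo hpp.pos g (by rw [← hg, ← map_pow, hφ₀p, map_one])
  haveI : Fintype (Descent.fixedField σ) := Fintype.ofFinite _
  obtain ⟨E⟩ := pgl_equiv_centralizer le_rfl hσo hpp.pos (Descent.fixedField σ)
    (Nat.card_eq_fintype_card (α := Descent.fixedField σ))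
  set r0 := Nat.card (Descent.fixedField σ) with hr0
  have hq : r0 ^ p = Fintype.card F := by rw [hr0, ← hσo, Descent.card_fixedField_pow]
  have hr0odd : Odd r0 := by
    rcases Nat.even_or_odd r0 with he | ho'
    · exact absurd (hq ▸ he.pow_of_ne_zero hpp.ne_zero) (Nat.not_even_iff_odd.2 ho)
    · exact ho'
  have hr03 : 3 ≤ r0 := by
    have h1 : 1 < r0 := Finite.one_lt_card
    obtain ⟨i, hi⟩ := hr0odd
    omega
  refine false_of_invCard_pow hpp hp hr0odd hr03 fun r hr hr2 hrp hd => ?_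
  haveI := Fact.mk hr
  rw [hq, ← card_cent_psl ho (e ⟨t, htM⟩) (by rw [MulEquiv.orderOf_eq, Subgroup.orderOf_mk, ht])] at hd
  obtain ⟨⟨y', hy'⟩, hy'o⟩ := exists_prime_orderOf_dvd_card' r hd
  rw [Subgroup.orderOf_mk] at hy'o
  set y : X := ((e.symm y' : M) : X)
  have hyo : orderOf y = r := by rw [Subgroup.orderOf_coe, MulEquiv.orderOf_eq, hy'o]
  have hyt : Commute y t := by
    have h := congrArg (fun v => ((e.symm v : M) : X)) (Subgroup.mem_centralizer_singleton_iff.1 hy')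
    show y * t = t * y
    simpa [y] using h
  have hyφ : Commute φ₀ y := hcy y (e.symm y').2 hyt (by rw [hyo]; exact hr.odd_of_ne_two hr2) (by rw [hyo]; exact hr)
    (by rw [hyo]; exact fun h => hrp ((Nat.prime_dvd_prime_iff_eq hpp hr).1 h).symm)
  obtain ⟨gy, hgy⟩ := (mem_diagPart M e).1 (le_diagPart M e (e.symm y').2)
  set f : MulAut (Matrix.ProjectiveSpecialLinearGroup (Fin 2) F) := ind B 1
  set z := f⁻¹ * conjVia M e y * f
  have hzI : z ∈ Cfsg.inndiagPSL 2 F := by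
    refine (Cfsg.inndiagPSL 2 F).mul_mem ((Cfsg.inndiagPSL 2 F).mul_mem (inv_mem ?_) ?_) ?_
    · exact mem_inndiag_iff.2 ⟨B, rfl⟩
    · exact mem_inndiag_iff.2 ⟨gy, hgy.trans (indHom_apply gy)⟩
    · exact mem_inndiag_iff.2 ⟨B, rfl⟩
  have hzc : z ∈ Subgroup.centralizer {ind (1 : GL (Fin 2) F) σ} := by
    have h1 : Commute (conjVia M e φ₀) (conjVia M e y) := hyφ.map _
    rw [hg, hB] at h1
    have h3 := h1.map (MulAut.conj f⁻¹).toMonoidHom
    have e1 : MulAut.conj f⁻¹ (f * ind (1 : GL (Fin 2) F) σ * f⁻¹) = ind (1 : GL (Fin 2) F) σ := by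
      rw [MulAut.conj_apply, inv_inv]; group
    simp only [MulEquiv.coe_toMonoidHom] at h3
    rw [e1, MulAut.conj_apply, inv_inv] at h3
    exact Subgroup.mem_centralizer_singleton_iff.2 h3.symm.eq
  have hzo : orderOf z = r := by
    rw [← hyo, ← orderOf_injective _ hinj y, show z = MulAut.conj f⁻¹ (conjVia M e y) by
      rw [MulAut.conj_apply, inv_inv], MulEquiv.orderOf_eq]
  have hdvd := Subgroup.orderOf_dvd_natCard _ (Subgroup.mem_inf.2 ⟨hzI, hzc⟩)
  rw [hzo, ← Nat.card_congr E.toEquiv] at hdvd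
  rwa [show Nat.card (Matrix.ProjGenLinGroup (Fin 2) (Descent.fixedField σ)) = Nat.card (G2 (Descent.fixedField σ))
    from rfl, card_G2] at hdvd

include e in
/-- **(5) the involutions of `M`** -/
theorem psl_invol_count (ho : Odd (Fintype.card F)) :
    Nat.card {u : X // orderOf u = 2 ∧ u ∈ M} * invCard (Fintype.card F) = Nat.card M := by
  classical
  have h2 : (2 : F) ≠ 0 := CfsgLib.Perm.Dickson.two_ne_zero_of_odd (F := F) (by rwa [Nat.card_eq_fintype_card])
  set L := Matrix.ProjectiveSpecialLinearGroup (Fin 2) F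
  obtain ⟨t, ht⟩ : ∃ t : L, orderOf t = 2 := by
    obtain ⟨t, -, ht, -⟩ := exists_fixed_four h2 (1 : RingAut F)
    exact ⟨t, ht⟩
  have hset : MulAction.orbit (ConjAct L) t = {g : L | orderOf g = 2} := by
    ext g
    constructor
    · rintro ⟨c, rfl⟩
      show orderOf (c • t) = 2
      rw [ConjAct.smul_def, ← MulAut.conj_apply, MulEquiv.orderOf_eq, ht]
    · intro hg
      obtain ⟨c, hc⟩ := isConj_iff.1 (CfsgLib.OddProdPSL.isConj_of_invol (x := t) (y := g) ht hg)
      exact ⟨ConjAct.toConjAct c, by show ConjAct.toConjAct c • t = g; rw [ConjAct.toConjAct_smul, hc]⟩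
  have hC : Nat.card (MulAction.stabilizer (ConjAct L) t) = invCard (Fintype.card F) := by
    rw [← card_cent_psl ho t ht, ConjAct.stabilizer_eq_centralizer]
    rfl
  have h := (MulAction.stabilizer (ConjAct L) t).card_mul_index
  rw [MulAction.index_stabilizer, hC, Nat.card_congr ConjAct.ofConjAct.toEquiv, hset,
    ← Nat.card_coe_set_eq] at h
  rw [Nat.card_congr e.toEquiv, ← h, mul_comm]
  congr 1
  refine Nat.card_congr (Equiv.ofBijective (fun u => ⟨e ⟨u.1, u.2.2⟩, ?_⟩) ⟨?_, ?_⟩)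
  · show orderOf (e ⟨u.1, u.2.2⟩) = 2
    rw [MulEquiv.orderOf_eq, Subgroup.orderOf_mk, u.2.1]
  · intro u v huv
    have huv' := e.injective (congrArg Subtype.val huv)
    exact Subtype.ext (congrArg (Subtype.val : M → X) huv')
  · rintro ⟨g, hg⟩
    exact ⟨⟨((e.symm g : M) : X), by rw [Subgroup.orderOf_coe, MulEquiv.orderOf_eq]; exact hg, (e.symm g).2⟩,
      Subtype.ext (e.apply_symm_apply g)⟩

/-- **(4) the torus of an outer involution lifts** -/
theorem outer_torus_lift {H : Type u} [Group H] [Finite H] {K : Subgroup H} [K.Normal] (hK : Odd (Nat.card K))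
    (M : Subgroup (H ⧸ K)) [M.Normal] (e : M ≃* Matrix.ProjectiveSpecialLinearGroup (Fin 2) F)
    (hX : DihTwo (H ⧸ K)) (hC : Subgroup.centralizer (M : Set (H ⧸ K)) = ⊥) (h2 : (2 : F) ≠ 0)
    (h5 : 5 ≤ Fintype.card F) {t w : H} (ht : orderOf t = 2) (hw : orderOf w = 2) (htw : Commute t w)
    (htM : QuotientGroup.mk' K t ∈ M) (hwM : QuotientGroup.mk' K w ∉ M) (htK : ∀ k ∈ K, Commute t k) :
    ∃ ξ : H, Commute ξ w ∧ t * ξ * t⁻¹ = ξ⁻¹ ∧ orderOf ξ = outerCard (Fintype.card F) / 2 := by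
  classical
  obtain ⟨T, -, hTc, hTcard, hTw, -, hTinv⟩ := outer_torus M e hX hC h2 h5 (orderOf_mk_invol hK hw) hwM
  obtain ⟨g, hg⟩ := hTc.exists_generator
  have hgo : orderOf (g : H ⧸ K) = outerCard (Fintype.card F) / 2 := by
    rw [Subgroup.orderOf_coe, orderOf_eq_card_of_forall_mem_zpowers hg, hTcard]
  obtain ⟨m, hm, hmw⟩ := exists_comm_lift hK hw (hTw _ g.2)
  set k := m * (t * m * t⁻¹) with hk
  have hkK : k ∈ K := by
    refine (QuotientGroup.eq_one_iff _).1 ?_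
    show QuotientGroup.mk' K (m * (t * m * t⁻¹)) = 1
    rw [map_mul, map_mul, map_mul, map_inv, hm,
      hTinv _ (orderOf_mk_invol hK ht) htM (htw.map _) _ g.2, mul_inv_cancel]
  have htt : t * t = 1 := by rw [← sq, ← ht, pow_orderOf_eq_one]
  have hti : t⁻¹ = t := inv_eq_of_mul_eq_one_right htt
  have hkm : Commute k m := by
    have h1 : t * k * t⁻¹ = k := mul_inv_eq_iff_eq_mul.2 (htK k hkK).eq
    have e1 : t * k * t⁻¹ = (t * m * t⁻¹) * ((t * t) * m * (t * t)⁻¹) := by rw [hk]; group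
    rw [e1, htt, one_mul, inv_one, mul_one] at h1
    show k * m = m * k
    nth_rw 2 [← h1]
    rw [hk]; group
  have hkw : Commute k w := hmw.mul_left ((htw.mul_left hmw).mul_left htw.inv_left)
  obtain ⟨j, hj⟩ : Odd (orderOf k) := hK.of_dvd_nat (Subgroup.orderOf_dvd_natCard K hkK)
  set s := k⁻¹ ^ (j + 1) with hs
  have hss : s * s = k⁻¹ := by
    rw [hs, ← pow_add, show j + 1 + (j + 1) = (2 * j + 1) + 1 by ring, pow_succ, ← hj, ← orderOf_inv k,
      pow_orderOf_eq_one, one_mul]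
  have hsK : s ∈ K := pow_mem (inv_mem hkK) _
  have hinv : t * (m * s) * t⁻¹ = (m * s)⁻¹ := by
    have e2 : t * m * t⁻¹ = m⁻¹ * k := (inv_mul_cancel_left m _).symm
    have e3 : t * s * t⁻¹ = s := mul_inv_eq_iff_eq_mul.2 (htK s hsK).eq
    calc t * (m * s) * t⁻¹ = (t * m * t⁻¹) * (t * s * t⁻¹) := by group
      _ = m⁻¹ * (k * s) := by rw [e2, e3, mul_assoc]
      _ = m⁻¹ * s⁻¹ := by
        congr 1
        exact eq_inv_of_mul_eq_one_left (by rw [mul_assoc, hss, mul_inv_cancel])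
      _ = s⁻¹ * m⁻¹ := ((hkm.inv_left.pow_left (j + 1)).symm.inv_inv).eq
      _ = (m * s)⁻¹ := (_root_.mul_inv_rev m s).symm
  have himg : QuotientGroup.mk' K (m * s) = (g : H ⧸ K) := by
    rw [map_mul, hm, show QuotientGroup.mk' K s = 1 from (QuotientGroup.eq_one_iff s).2 hsK, mul_one]
  refine ⟨m * s, hmw.mul_left ((hkw.inv_left).pow_left _), hinv, Nat.dvd_antisymm ?_
    (hgo ▸ himg ▸ orderOf_map_dvd (QuotientGroup.mk' K) (m * s))⟩
  refine orderOf_dvd_of_pow_eq_one ?_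
  set z := (m * s) ^ (outerCard (Fintype.card F) / 2) with hz
  have hzK : z ∈ K := by
    refine (QuotientGroup.eq_one_iff _).1 ?_
    show QuotientGroup.mk' K z = 1
    rw [hz, map_pow, himg, ← hgo, pow_orderOf_eq_one]
  refine eq_one_of_mem_of_sq hK hzK ?_
  have h1 : t * z * t⁻¹ = z := mul_inv_eq_iff_eq_mul.2 (htK z hzK).eq
  have h3 : t * z * t⁻¹ = z⁻¹ := by rw [hz, ← MulAut.conj_apply, map_pow, MulAut.conj_apply, hinv, inv_pow]
  exact mul_eq_one_iff_eq_inv.2 (h1.symm.trans h3)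

/-- **(2) the degrees of `PSL(2, F)`** -/
theorem psl_degree_ge {L : Type u} [Group L] (φ : L ≃* Matrix.ProjectiveSpecialLinearGroup (Fin 2) F)
    (ho : Odd (Fintype.card F)) (h5 : 5 ≤ Fintype.card F) (χ : Cfsg.IrrCharacter L) (hχ : (χ : L → ℂ) ≠ 1) :
    Fintype.card F - 1 ≤ 2 * Cfsg.charDegree (χ : L → ℂ) := by
  classical
  obtain ⟨hdeg, hcount⟩ := Cfsg.Agent.S2299.result (F := F) ho
  set f : Matrix.SpecialLinearGroup (Fin 2) F →* L := φ.symm.toMonoidHom.comp (QuotientGroup.mk' _) with hf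
  have hfs : Function.Surjective f := φ.symm.surjective.comp (QuotientGroup.mk'_surjective _)
  set ψ : Matrix.SpecialLinearGroup (Fin 2) F → ℂ := fun x => (χ : L → ℂ) (f x) with hψ
  have hψi : Cfsg.IsIrrCharacter (Matrix.SpecialLinearGroup (Fin 2) F) ψ :=
    CfsgLib.Char.isIrrCharacter_comp_surjective χ.2 f hfs
  have hψ1 : ψ 1 = (χ : L → ℂ) 1 := congrArg (χ : L → ℂ) (map_one f)
  have hne : (χ : L → ℂ) 1 ≠ 1 := fun h => by
    obtain ⟨hsub, -⟩ := Nat.card_eq_one_iff_unique.1 (hcount h5).1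
    have heq := congrArg (fun a => (a.1 : Matrix.SpecialLinearGroup (Fin 2) F → ℂ))
      (hsub.elim ⟨⟨ψ, hψi⟩, hψ1.trans h⟩ ⟨⟨fun _ => 1, CfsgLib.Char.isIrrCharacter_one⟩, rfl⟩)
    refine hχ (funext fun l => ?_)
    obtain ⟨x, rfl⟩ := hfs l
    exact congrFun heq x
  obtain ⟨d, hd, hdge⟩ : ∃ d : ℕ, (χ : L → ℂ) 1 = (d : ℂ) ∧ Fintype.card F - 1 ≤ 2 * d := by
    rw [← hψ1]
    rcases hdeg ψ hψi with h | h | h | h | h | h
    · exact absurd (hψ1.symm.trans h) hne
    · exact ⟨_, h, by omega⟩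
    · exact ⟨Fintype.card F + 1, by rw [h, Nat.cast_add, Nat.cast_one], by omega⟩
    · exact ⟨Fintype.card F - 1, by rw [h, Nat.cast_sub (by omega), Nat.cast_one], by omega⟩
    · exact ⟨_, h, by omega⟩
    · exact ⟨_, h, by obtain ⟨j, hj⟩ := ho; omega⟩
  rw [Cfsg.charDegree, hd, Complex.natCast_re, Nat.floor_natCast]
  exact hdge

/-- **(3) central `p`-subgroups of perfect groups with abelian Sylow `p`-subgroups** -/
theorem perfect_central_split {P : Type u} [Group P] [Finite P] [Group.IsPerfect P] {p : ℕ} [Fact p.Prime]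
    (Z : Subgroup P) (hZc : Z ≤ Subgroup.center P) (hZp : IsPGroup p Z)
    (hS : ∀ S : Sylow p P, IsMulCommutative (S : Subgroup P)) : Z = ⊥ := by
  classical
  obtain ⟨S, hZS⟩ := hZp.exists_le_sylow
  haveI := hS S
  letI : CommGroup (S : Subgroup P) :=
    { (inferInstance : Group (S : Subgroup P)) with mul_comm := fun a b => mul_comm' a b }
  refine (Subgroup.eq_bot_iff_forall Z).2 fun z hz => ?_
  have hcz : ∀ g : P, g * z = z * g := Subgroup.mem_center_iff.1 (hZc hz)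
  have hkey : ∀ (k : ℕ) (g₀ : P), g₀⁻¹ * z ^ k * g₀ ∈ (S : Subgroup P) → g₀⁻¹ * z ^ k * g₀ = z ^ k := fun k g _ => by
    rw [mul_assoc, ((show Commute g z from hcz g).pow_right k).symm.eq, inv_mul_cancel_left]
  have h := MonoidHom.transfer_eq_pow (MonoidHom.id (S : Subgroup P)) z hkey
  have hker : z ∈ (MonoidHom.transfer (MonoidHom.id (S : Subgroup P))).ker :=
    (Abelianization.commutator_subset_ker _) (by rw [Group.IsPerfect.commutator_eq_top]; trivial)
  rw [MonoidHom.mem_ker, h] at hker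
  have hzi : z ^ (S : Subgroup P).index = 1 := congrArg Subtype.val hker
  obtain ⟨k, hk⟩ := hZp ⟨z, hz⟩
  refine orderOf_eq_one_iff.1 (Nat.eq_one_of_dvd_coprimes
    (Nat.Coprime.pow_left k ((Fact.out : p.Prime).coprime_iff_not_dvd.2 S.not_dvd_index))
    (orderOf_dvd_of_pow_eq_one (congrArg Subtype.val hk)) (orderOf_dvd_of_pow_eq_one hzi))

end CfsgLib.GW.CaseA
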