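import Cfsg.Agent.Lib.GW.CaseA.Arith
import Cfsg.Agent.Lib.GW.CaseA.LStructure
import Cfsg.Agent.Lib.GW.CaseA.XLayer
import Cfsg.Agent.Lib.GW.CaseC
import Cfsg.Agent.Lib.GW.OrbitCount

/-!
# Case A: the index of the centraliser and the counts on the cosets of `L`

The index `n` of `C(t)` from the order formula, the incidence between the conjugates of `t` in `L` and the cosets
of `L`, the number of these conjugates, and the two numerical contradictions.
-/

set_option autoImplicit false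
set_option linter.style.haveILetI false
set_option linter.unusedSectionVars false

open Subgroup
open scoped Pointwise

namespace CfsgLib.GW

universe u

variable {G : Type u} [Group G] [Finite G]

namespace CaseA

open CfsgLib.Block.Dihedral

/-! ### The index of the centraliser -/

section Frame

variable {P : Sylow 2 G} {σ τ : G} {h : ℕ} (D : Frame P σ τ h)
include D

theorem rot_eq_of_commute {a r : G} (ha : a ∈ (P : Subgroup G)) (ha' : a ∉ zpowers σ) (hr : r ∈ zpowers σ)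
    (hc : Commute r a) : r = 1 ∨ r = σ ^ h := by
  obtain ⟨m, rfl⟩ := (isOfFinOrder_of_finite σ).mem_powers_iff_mem_zpowers.2 hr
  simp only at hc ⊢
  obtain ⟨l, rfl | rfl⟩ := D.cases a ha
  · exact absurd (npow_mem_zpowers σ l) ha'
  by_cases h1 : σ ^ m = 1
  · exact Or.inl h1
  refine Or.inr (D.eq_J h1 ?_)
  by_contra hn
  have hc' : Commute (τ * σ ^ l) (σ ^ m) := hc.symm
  exact ha' (D.mem_zpowers_of_commute ha hn hc')

theorem card_sylow_cent {a : G} (ha : a ∈ (P : Subgroup G)) (ha' : a ∉ zpowers σ) :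
    Nat.card ((P : Subgroup G) ⊓ centralizer ({a} : Set G) : Subgroup G) = 4 := by
  have haa : a * a = 1 := by
    obtain ⟨l, rfl | rfl⟩ := D.cases a ha
    · exact absurd (npow_mem_zpowers σ l) ha'
    · exact D.refl_sq l
  have hat : Commute a (σ ^ h) := D.J_comm ha
  have hset : (((P : Subgroup G) ⊓ centralizer ({a} : Set G) : Subgroup G) : Set G) = {1, σ ^ h, a, a * σ ^ h} := by
    ext x
    simp only [coe_inf, Set.mem_inter_iff, SetLike.mem_coe, mem_centralizer_singleton_iff, Set.mem_insert_iff,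
      Set.mem_singleton_iff]
    constructor
    · rintro ⟨hx, hxa⟩
      obtain ⟨m, rfl | rfl⟩ := D.cases x hx
      · exact (rot_eq_of_commute D ha ha' (npow_mem_zpowers σ m) hxa).imp_right Or.inl
      · obtain ⟨l, hl | hl⟩ := D.cases a ha
        · exact absurd (hl ▸ npow_mem_zpowers σ l) ha'
        have hrot : a * (τ * σ ^ m) ∈ zpowers σ := by
          rw [hl, show τ * σ ^ l * (τ * σ ^ m) = τ * σ ^ l * τ * σ ^ m by group]
          refine mul_mem ?_ (npow_mem_zpowers σ m)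
          nth_rewrite 2 [← D.τ_inv]
          rw [D.conjτ]
          exact inv_mem (npow_mem_zpowers σ l)
        rcases rot_eq_of_commute D ha ha' hrot ((Commute.refl a).mul_left hxa) with e | e
        · refine Or.inr (Or.inr (Or.inl ?_))
          calc τ * σ ^ m = a * a * (τ * σ ^ m) := by rw [haa, one_mul]
            _ = a := by rw [mul_assoc, e, mul_one]
        · refine Or.inr (Or.inr (Or.inr ?_))
          calc τ * σ ^ m = a * a * (τ * σ ^ m) := by rw [haa, one_mul]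
            _ = a * σ ^ h := by rw [mul_assoc, e]
    · rintro (rfl | rfl | rfl | rfl)
      · exact ⟨one_mem _, by rw [one_mul, mul_one]⟩
      · exact ⟨pow_mem D.memσ h, hat.symm.eq⟩
      · exact ⟨ha, rfl⟩
      · exact ⟨mul_mem ha (pow_mem D.memσ h), ((Commute.refl a).mul_left hat.symm).eq⟩
  have ha1 : a ≠ 1 := fun e => ha' (e ▸ one_mem _)
  have hah : a ≠ σ ^ h := fun e => ha' (e ▸ npow_mem_zpowers σ h)
  rw [← SetLike.coe_sort_coe, Nat.card_coe_set_eq, hset, Set.ncard_insert_of_notMem ?_, Set.ncard_insert_of_notMem ?_,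
    Set.ncard_pair ?_]
  · intro e
    exact D.sigma_h_ne (mul_left_cancel ((mul_one a).trans e)).symm
  · simp only [Set.mem_insert_iff, Set.mem_singleton_iff, not_or]
    refine ⟨hah.symm, fun e => ha1 ?_⟩
    exact mul_right_cancel ((one_mul _).trans e).symm
  · simp only [Set.mem_insert_iff, Set.mem_singleton_iff, not_or]
    refine ⟨D.sigma_h_ne.symm, ha1.symm, fun e => hah ?_⟩
    calc a = a * (σ ^ h * σ ^ h) := by rw [D.sigma_h_sq, mul_one]
      _ = σ ^ h := by rw [← mul_assoc, ← e, one_mul]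

theorem card_centralizer (hG : Min G) (ht : orderOf (σ ^ h) = 2) :
    Nat.card (centralizer ({σ ^ h} : Set G)) = 4 * h * Nat.card (Ocore (σ ^ h)) := by
  haveI : Fact (Nat.Prime 2) := ⟨Nat.prime_two⟩
  set C := centralizer ({σ ^ h} : Set G)
  obtain ⟨k, hk⟩ := hG.ocore_index ht
  have hcard : Nat.card C = Nat.card (Ocore (σ ^ h)) * 2 ^ k := by
    rw [← hk, relIndex, ← ((Ocore (σ ^ h)).subgroupOf C).card_mul_index,
      Nat.card_congr (subgroupOfEquivOfLe (ocore_le _)).toEquiv]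
  have hPC : (P : Subgroup G) ≤ C := fun x hx => mem_centralizer_singleton_iff.2 (D.J_comm hx).eq
  have h1 : 4 * h ∣ 2 ^ k := by
    obtain ⟨i, -, hi⟩ := D.pow2
    refine (Nat.Coprime.dvd_of_dvd_mul_left ?_ (hcard ▸ D.card ▸ card_dvd_of_le hPC))
    rw [show 4 * h = 2 ^ (i + 2) by rw [hi, pow_add]; ring]
    exact Nat.Coprime.pow_left _ (Nat.coprime_two_left.2 (odd_ocore _))
  have h2 : 2 ^ k ∣ 4 * h := by
    rw [← D.card]
    exact P.pow_dvd_card_of_pow_dvd_card ((Dvd.intro_left _ hcard.symm).trans (card_subgroup_dvd_card _))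
  rw [hcard, Nat.dvd_antisymm h2 h1, mul_comm]

/-- `C(t, a) = ⟨t, a⟩ (O(C(t)) ∩ C(a))` -/
theorem card_cent_pair (hG : Min G) (ht : orderOf (σ ^ h) = 2) {a : G} (ha : a ∈ (P : Subgroup G))
    (ha' : a ∉ zpowers σ) :
    Nat.card (centralizer ({σ ^ h, a} : Set G)) =
      4 * Nat.card (Ocore (σ ^ h) ⊓ centralizer ({a} : Set G) : Subgroup G) := by
  haveI : Fact (Nat.Prime 2) := ⟨Nat.prime_two⟩
  set t := σ ^ h with htdef
  set C := centralizer ({t} : Set G) with hCdef
  set O := Ocore t with hOdef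
  have hmem : ∀ x, x ∈ centralizer ({t, a} : Set G) ↔ Commute x t ∧ Commute x a := fun x => by
    simp only [mem_centralizer_iff, Set.mem_insert_iff, Set.mem_singleton_iff, forall_eq_or_imp, forall_eq]
    exact ⟨fun h => ⟨h.1.symm, h.2.symm⟩, fun h => ⟨h.1.symm, h.2.symm⟩⟩
  have hPC : (P : Subgroup G) ≤ C := fun x hx => mem_centralizer_singleton_iff.2 (D.J_comm hx).eq
  have hint : ∀ x ∈ O, x ∈ (P : Subgroup G) → x = 1 := fun x hxO hxP => by
    obtain ⟨i, hi⟩ := P.2.exists_card_eq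
    exact orderOf_eq_one_iff.1 (Nat.eq_one_of_dvd_coprimes (Nat.Coprime.pow_left i (Nat.coprime_two_left.2 (odd_ocore t)))
      (hi ▸ Subgroup.orderOf_dvd_natCard _ hxP) (Subgroup.orderOf_dvd_natCard _ hxO))
  have hn : (P : Subgroup G) ≤ normalizer (O : Set G) := hPC.trans (centralizer_le_normalizer_ocore t)
  have hsup := hG.ocore_sup_sylow ht (P.subtype hPC)
  rw [Sylow.coe_subtype, map_subgroupOf_eq_of_le hPC] at hsup
  have haC : a ∈ C := hPC ha
  have key : Nat.card (centralizer ({t, a} : Set G)) =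
      Nat.card ((O ⊓ centralizer ({a} : Set G) : Subgroup G) ×
        ((P : Subgroup G) ⊓ centralizer ({a} : Set G) : Subgroup G)) := by
    refine (Nat.card_congr (Equiv.ofBijective (fun q => (⟨(q.1 : G) * (q.2 : G), ?_⟩ :
      centralizer ({t, a} : Set G))) ⟨?_, ?_⟩)).symm
    · obtain ⟨h1, h2⟩ := mem_inf.1 q.1.2
      obtain ⟨h3, h4⟩ := mem_inf.1 q.2.2
      exact (hmem _).2 ⟨(show Commute (q.1 : G) t from mem_centralizer_singleton_iff.1 (ocore_le t h1)).mul_left
        (mem_centralizer_singleton_iff.1 (hPC h3)),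
        (show Commute (q.1 : G) a from mem_centralizer_singleton_iff.1 h2).mul_left
        (mem_centralizer_singleton_iff.1 h4)⟩
    · rintro ⟨⟨o, ho⟩, ⟨s, hs⟩⟩ ⟨⟨o', ho'⟩, ⟨s', hs'⟩⟩ e
      have e' : o * s = o' * s' := congrArg Subtype.val e
      have h1 : o'⁻¹ * o = s' * s⁻¹ := by
        calc o'⁻¹ * o = o'⁻¹ * (o * s) * s⁻¹ := by group
          _ = s' * s⁻¹ := by rw [e']; group
      have h2 := hint _ (mul_mem (inv_mem (mem_inf.1 ho').1) (mem_inf.1 ho).1)
        (h1 ▸ mul_mem (mem_inf.1 hs').1 (inv_mem (mem_inf.1 hs).1))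
      obtain rfl : o' = o := inv_mul_eq_one.1 h2
      obtain rfl : s = s' := mul_left_cancel e'
      rfl
    · rintro ⟨x, hx⟩
      obtain ⟨hxt, hxa⟩ := (hmem x).1 hx
      have hx' : x ∈ ((O : Set G) * ((P : Subgroup G) : Set G)) := by
        rw [← coe_mul_of_right_le_normalizer_left _ _ hn, hsup]
        exact mem_centralizer_singleton_iff.2 hxt.eq
      obtain ⟨o, ho, s, hs, rfl⟩ := Set.mem_mul.1 hx'
      have hoa : a * o * a⁻¹ ∈ O :=
        (mem_normalizer_iff.1 (centralizer_le_normalizer_ocore t haC) o).1 ho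
      have hsa : a * s * a⁻¹ ∈ (P : Subgroup G) := mul_mem (mul_mem ha hs) (inv_mem ha)
      have e : (a * o * a⁻¹) * (a * s * a⁻¹) = o * s := by
        calc (a * o * a⁻¹) * (a * s * a⁻¹) = a * (o * s) * a⁻¹ := by group
          _ = o * s := by rw [← hxa.eq, mul_inv_cancel_right]
      have h1 : o⁻¹ * (a * o * a⁻¹) = s * (a * s * a⁻¹)⁻¹ := by
        calc o⁻¹ * (a * o * a⁻¹) = o⁻¹ * ((a * o * a⁻¹) * (a * s * a⁻¹)) * (a * s * a⁻¹)⁻¹ := by group
          _ = s * (a * s * a⁻¹)⁻¹ := by rw [e]; group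
      have h2 := hint _ (mul_mem (inv_mem ho) hoa) (h1 ▸ mul_mem hs (inv_mem hsa))
      have ho2 : a * o * a⁻¹ = o := (inv_mul_eq_one.1 h2).symm
      have hs2 : a * s * a⁻¹ = s := by rw [ho2] at e; exact mul_left_cancel e
      exact ⟨⟨⟨o, mem_inf.2 ⟨ho, mem_centralizer_singleton_iff.2 (mul_inv_eq_iff_eq_mul.1 ho2).symm⟩⟩,
        ⟨s, mem_inf.2 ⟨hs, mem_centralizer_singleton_iff.2 (mul_inv_eq_iff_eq_mul.1 hs2).symm⟩⟩⟩, rfl⟩
  rw [key, Nat.card_prod, card_sylow_cent D ha ha', mul_comm]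

end Frame

/-- **the index of `C(t)`** when the other involutions of `C(t)` have the same share `1 / c` of `O(C(t))` -/
theorem index_formula (hG : Min G) (h8 : 8 ∣ Nat.card G) {t : G} (ht : orderOf t = 2) {c : ℕ}
    (hc : ∀ a : G, orderOf a = 2 → a ≠ t → Commute a t →
      c * Nat.card (Ocore t ⊓ centralizer ({a} : Set G) : Subgroup G) = Nat.card (Ocore t)) :
    ∃ (h : ℕ) (j : ℤ), 2 ≤ h ∧ (∃ i : ℕ, h = 2 ^ i) ∧ j ≠ 0 ∧
      Nat.card (centralizer ({t} : Set G)) = 4 * h * Nat.card (Ocore t) ∧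
      ((centralizer ({t} : Set G)).index : ℤ) * j ^ 2 = (c : ℤ) ^ 2 * (1 + 4 * h * j) * (1 + 2 * h * j) ∧
      j ∣ (c : ℤ) ∧ 32 * (centralizer ({t} : Set G)).index ≤ 45 * 8 * h ^ 2 * c ^ 2 := by
  obtain ⟨P, σ, τ, h, D, rfl, hdih⟩ := hG.exists_frame h8 ht
  haveI : Fact (Nat.Prime 2) := ⟨Nat.prime_two⟩
  have hτ' : τ ∉ zpowers σ := D.not_zpow
  have hστ' : σ * τ ∉ zpowers σ := fun e => D.not_zpow ((mul_mem_cancel_left (mem_zpowers σ)).1 e)
  have hinv : ∀ a ∈ (P : Subgroup G), a ∉ zpowers σ → orderOf a = 2 := fun a ha ha' => by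
    obtain ⟨l, rfl | rfl⟩ := D.cases a ha
    · exact absurd (npow_mem_zpowers σ l) ha'
    · exact orderOf_eq_prime (by rw [sq]; exact D.refl_sq l) fun e => ha' (e ▸ one_mem _)
  have hτo := hinv τ D.memτ hτ'
  have hστo := hinv (σ * τ) (mul_mem D.memσ D.memτ) hστ'
  obtain ⟨r, hr1, -, hrd, -, hform⟩ := order_formula D hdih (isConj_iff.2 (hG.isConj_invol ht hτo))
    (isConj_iff.2 (hG.isConj_invol ht hστo))
  obtain ⟨j, hj⟩ := hrd
  obtain ⟨i, -, hi⟩ := D.pow2
  have hr : r = 1 + 4 * (h : ℤ) * j := by linarith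
  have hj0 : j ≠ 0 := fun e => hr1 (by rw [hr, e]; ring)
  have hpair : ∀ a ∈ (P : Subgroup G), a ∉ zpowers σ →
      (1 : ℚ) / (Nat.card (centralizer ({σ ^ h, a} : Set G)) : ℚ) = c / (4 * (Nat.card (Ocore (σ ^ h)) : ℚ)) := by
    intro a ha ha'
    have h1 := hc a (hinv a ha ha') (fun e => ha' (e ▸ npow_mem_zpowers σ h)) (D.J_comm ha)
    rw [card_cent_pair D hG ht ha ha', ← h1]
    have hc0 : (c : ℚ) ≠ 0 := by
      intro e
      rw [Nat.cast_eq_zero.1 e, zero_mul] at h1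
      exact (Nat.card_pos (α := Ocore (σ ^ h))).ne h1
    have hp : (Nat.card (Ocore (σ ^ h) ⊓ centralizer ({a} : Set G) : Subgroup G) : ℚ) ≠ 0 := by
      exact_mod_cast Nat.card_pos.ne'
    push_cast
    field_simp
  rw [hpair τ D.memτ hτ', hpair (σ * τ) (mul_mem D.memσ D.memτ) hστ', card_centralizer D hG ht] at hform
  have hn : ((centralizer ({σ ^ h} : Set G)).index : ℚ) = 8 * (h : ℚ) ^ 2 * rho (1 + 4 * h * j) * (c : ℚ) ^ 2 := by
    rw [← (centralizer ({σ ^ h} : Set G)).card_mul_index, card_centralizer D hG ht, hr] at hform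
    have hO : (Nat.card (Ocore (σ ^ h)) : ℚ) ≠ 0 := by exact_mod_cast Nat.card_pos.ne'
    have hh : (h : ℚ) ≠ 0 := by exact_mod_cast (show h ≠ 0 by have := D.two_le; omega)
    push_cast at hform
    field_simp at hform
    linear_combination hform
  exact ⟨h, j, D.two_le, ⟨i, hi⟩, hj0, card_centralizer D hG ht, index_eq D.two_le hj0 hn⟩

/-! ### Incidence of the conjugates of `t` in `L` with the cosets of `L` -/

theorem card_tConj_mul (t : G) {L : Subgroup G} :
    Nat.card (tConj t L) * Nat.card (centralizer ({t} : Set G) ⊓ L : Subgroup G) = Nat.card L := by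
  classical
  set C := centralizer ({t} : Set G)
  let f : L ⧸ C.subgroupOf L → tConj t L := Quotient.lift
    (fun g : L => (⟨(g : G) * t * (g : G)⁻¹, g, g.2, rfl⟩ : tConj t L)) fun a b hab => Subtype.ext <| by
      have h := mem_centralizer_singleton_iff.1 (mem_subgroupOf.1 (QuotientGroup.leftRel_apply.1 hab))
      simp only [coe_mul, InvMemClass.coe_inv] at h
      calc (a : G) * t * (a : G)⁻¹ = (a : G) * (t * ((a : G)⁻¹ * b)) * (b : G)⁻¹ := by group
        _ = (b : G) * t * (b : G)⁻¹ := by rw [← h]; group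
  have hf : Function.Bijective f := by
    constructor
    · rintro ⟨a⟩ ⟨b⟩ e
      have e' : (a : G) * t * (a : G)⁻¹ = (b : G) * t * (b : G)⁻¹ := congrArg Subtype.val e
      refine Quotient.sound (QuotientGroup.leftRel_apply.2 (mem_subgroupOf.2 (mem_centralizer_singleton_iff.2 ?_)))
      simp only [coe_mul, InvMemClass.coe_inv]
      calc (a : G)⁻¹ * b * t = (a : G)⁻¹ * ((b : G) * t * (b : G)⁻¹) * b := by group
        _ = t * ((a : G)⁻¹ * b) := by rw [← e']; group
    · rintro ⟨u, g, hg, rfl⟩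
      exact ⟨Quotient.mk'' ⟨g, hg⟩, rfl⟩
  rw [← Nat.card_congr (Equiv.ofBijective f hf), mul_comm,
    ← Nat.card_congr (subgroupOfEquivOfLe (inf_le_right : C ⊓ L ≤ L)).toEquiv, inf_subgroupOf_right,
    show Nat.card (L ⧸ C.subgroupOf L) = (C.subgroupOf L).index from rfl, card_mul_index]

/-- **(2) the incidence count** -/
theorem incidence_count {t : G} {L : Subgroup G} (ht : orderOf t = 2) (htL : t ∈ L)
    (hinv : ∀ u ∈ L, orderOf u = 2 → u ∈ tConj t L)
    (hone : ∀ g ∉ L, ∀ u ∈ tConj t L, ∀ w ∈ tConj t L, g⁻¹ * u * g ∈ L → g⁻¹ * w * g ∈ L → u = w) :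
    L.index * Nat.card (tConj t L) =
        (centralizer ({t} : Set G)).index *
          (centralizer ({t} : Set G) ⊓ L).relIndex (centralizer ({t} : Set G)) ∧
      ((centralizer ({t} : Set G) ⊓ L).relIndex (centralizer ({t} : Set G)) - 1) * Nat.card (tConj t L) ≤
        L.index - 1 := by
  classical
  set C := centralizer ({t} : Set G) with hCdef
  set D := C ⊓ L
  set k := D.relIndex C with hk
  set S := Nat.card (tConj t L)
  have hkD : k * Nat.card D = Nat.card C := by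
    rw [hk, relIndex, mul_comm, ← Nat.card_congr (subgroupOfEquivOfLe (inf_le_left : D ≤ C)).toEquiv, card_mul_index]
  have hSD : S * Nat.card D = Nat.card L := card_tConj_mul t
  have hfix : Nat.card {x : G ⧸ L // t • x = x} = k := by
    have hv : Nat.card {v : L // IsConj t (v : G)} = S := by
      refine Nat.card_congr (Equiv.ofBijective (fun v => ⟨(v.1 : G), hinv _ v.1.2 ?_⟩) ⟨?_, ?_⟩)
      · obtain ⟨c, hc⟩ := isConj_iff.1 v.2
        rw [← hc, ← MulAut.conj_apply, MulEquiv.orderOf_eq, ht]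
      · intro a b e
        exact Subtype.ext (Subtype.ext (congrArg Subtype.val e :))
      · rintro ⟨u, hu⟩
        obtain ⟨g, -, hg⟩ := id hu
        exact ⟨⟨⟨u, mem_of_tConj htL hu⟩, isConj_iff.2 ⟨g, hg⟩⟩, rfl⟩
    have h1 := fix_mul L t
    rw [hv, ← hCdef, ← hkD, mul_assoc, mul_comm (Nat.card D), hSD] at h1
    exact Nat.eq_of_mul_eq_mul_right Nat.card_pos h1
  refine ⟨?_, ?_⟩
  · refine Nat.eq_of_mul_eq_mul_right (Nat.card_pos (α := D)) ?_
    calc L.index * S * Nat.card D = L.index * Nat.card L := by rw [mul_assoc, hSD]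
      _ = C.index * Nat.card C := by rw [mul_comm, L.card_mul_index, mul_comm, C.card_mul_index]
      _ = C.index * k * Nat.card D := by rw [mul_assoc, hkD]
  · rw [mul_comm, ← one_mul (L.index - 1)]
    refine incidence_le L (tConj t L) (fun u hu => mem_of_tConj htL hu) (fun u hu => ?_) fun x hx => ?_
    · obtain ⟨g, -, rfl⟩ := hu
      rw [← hfix]
      refine le_of_eq (Nat.card_congr ((MulAction.toPerm g).subtypeEquiv fun x => ?_))
      simp only [MulAction.toPerm_apply, ← mul_smul, inv_mul_cancel_right]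
      rw [mul_smul, smul_left_cancel_iff]
    · obtain ⟨g, rfl⟩ := QuotientGroup.mk_surjective x
      have hg : g ∉ L := fun h => hx (QuotientGroup.eq.2 (by rw [mul_one]; exact inv_mem h))
      refine Finite.card_le_one_iff_subsingleton.2 ⟨fun a b => Subtype.ext (Subtype.ext ?_)⟩
      exact hone g hg _ a.1.2 _ b.1.2 (smul_coset_eq_iff.1 a.2) (smul_coset_eq_iff.1 b.2)

/-! ### The number of conjugates of `t` in `L` -/

namespace Setup

variable {t v : G} {p : ℕ} {L : Subgroup G} (hS : Setup t v p L)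
include hS

variable {F : Type} [Field F] [Fintype F] {M : Subgroup (L ⧸ Cfsg.oddCore L)} [M.Normal]

/-- **(3) the conjugates of `t` in `L` are the involutions of the component** -/
theorem card_tConj (ho : Odd (Fintype.card F)) (hC : centralizer (M : Set (L ⧸ Cfsg.oddCore L)) = ⊥)
    (e : M ≃* Matrix.ProjectiveSpecialLinearGroup (Fin 2) F) :
    Nat.card (tConj t L) * invCard (Fintype.card F) = Nat.card M := by
  have hto := hS.part.hA.invol
  have htM := (hS.fused.four_mem hS.part.hA hS.part.hv hS.part.hne hS.part.hc ho hC e).1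
  set π := QuotientGroup.mk' (Cfsg.oddCore L) with hπ
  have hK := odd_oddCore L
  have himg : ∀ u (hu : u ∈ tConj t L), π ⟨u, mem_of_tConj hS.t_mem hu⟩ ∈ M ∧
      orderOf (π ⟨u, mem_of_tConj hS.t_mem hu⟩) = 2 := by
    intro u hu
    refine ⟨?_, orderOf_mk_invol hK (by rw [Subgroup.orderOf_mk, orderOf_tConj hto hu])⟩
    obtain ⟨g, hg, hgu⟩ := id hu
    rw [show (⟨u, mem_of_tConj hS.t_mem hu⟩ : L) = ⟨g, hg⟩ * ⟨t, hS.t_mem⟩ * (⟨g, hg⟩ : L)⁻¹ from
      Subtype.ext hgu.symm, map_mul, map_mul, map_inv]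
    exact (inferInstance : M.Normal).conj_mem _ htM _
  rw [← psl_invol_count M e ho]
  congr 1
  refine Nat.card_congr (Equiv.ofBijective (fun u => ⟨π ⟨u.1, mem_of_tConj hS.t_mem u.2⟩, (himg u.1 u.2).2,
    (himg u.1 u.2).1⟩) ⟨?_, ?_⟩)
  · intro a b hab
    refine Subtype.ext (congrArg Subtype.val (invol_lift_unique hK (u := (⟨a.1, mem_of_tConj hS.t_mem a.2⟩ : L))
      (v := ⟨b.1, mem_of_tConj hS.t_mem b.2⟩) (by rw [Subgroup.orderOf_mk, orderOf_tConj hto a.2])
      (by rw [Subgroup.orderOf_mk, orderOf_tConj hto b.2]) (fun k hk => ?_) (congrArg Subtype.val hab)) :)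
    exact Subtype.ext (hS.commute_ocN_tConj a.2 ⟨k, hk, rfl⟩).symm.eq
  · rintro ⟨x, hx, hxM⟩
    obtain ⟨u, hu, hux⟩ := exists_invol_lift hK hx
    obtain ⟨m, -, hm⟩ := isConj_of_invol_mem M e (orderOf_mk_two hS.t_mem hto) hx htM hxM
    obtain ⟨g, -, hg⟩ := exists_conj_lift hK (u := (⟨t, hS.t_mem⟩ : L)) (by rw [Subgroup.orderOf_mk, hto]) hu
      (x := m) (by rw [hux]; exact hm)
    exact ⟨⟨u.1, g, g.2, congrArg Subtype.val hg⟩, Subtype.ext hux⟩

/-- `S = r a` with `2 a = r + ε` and `|C_M(t)| = r - ε` -/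
theorem card_tConj_eq (ho : Odd (Fintype.card F)) (h5 : 5 ≤ Fintype.card F)
    (hC : centralizer (M : Set (L ⧸ Cfsg.oddCore L)) = ⊥)
    (e : M ≃* Matrix.ProjectiveSpecialLinearGroup (Fin 2) F) {ε : ℤ} (hε : ε = 1 ∨ ε = -1)
    (hinv : (invCard (Fintype.card F) : ℤ) = (Fintype.card F : ℤ) - ε) :
    2 * (Nat.card (tConj t L) : ℤ) = (Fintype.card F : ℤ) * ((Fintype.card F : ℤ) + ε) := by
  have h := hS.card_tConj ho hC e
  have hM : 2 * Nat.card M = Fintype.card F * ((Fintype.card F - 1) * (Fintype.card F + 1)) := by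
    have h0 := CfsgLib.Perm.Dickson.card_psl F
    rw [CfsgLib.Perm.Dickson.gcd_odd (by rwa [Nat.card_eq_fintype_card]), Nat.card_eq_fintype_card (α := F)] at h0
    rw [Nat.card_congr e.toEquiv, Nat.card_congr (CfsgLib.Perm.Dickson.pslEquiv F).toEquiv]
    exact h0
  rw [← h] at hM
  have hM' := congrArg (Nat.cast : ℕ → ℤ) hM
  push_cast [show 1 ≤ Fintype.card F by omega] at hM'
  rw [hinv] at hM'
  have h5' : (5 : ℤ) ≤ Fintype.card F := by exact_mod_cast h5
  refine mul_left_cancel₀ (show (Fintype.card F : ℤ) - ε ≠ 0 by rcases hε with rfl | rfl <;> omega) ?_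
  have hε1 : ε * ε = 1 := by rcases hε with rfl | rfl <;> norm_num
  linear_combination hM' + (Fintype.card F : ℤ) * hε1

end Setup

/-! ### The numerical contradictions -/

/-- **(4a) the first configuration** -/
theorem false_alpha_data {n nL k p b h r S : ℕ} {ε : ℤ} (hk : 3 ≤ k) (hkp : k ≤ p) (hpb : p ∣ b) (hb : Odd b)
    (hh : 2 ≤ h) (hε : ε = 1 ∨ ε = -1) (hr : (r : ℤ) = 4 * h * b + ε) (hS : (S : ℤ) = r * (2 * h * b + ε))
    (hn : 32 * n ≤ 45 * 8 * h ^ 2 * (k * b) ^ 2) (heq : nL * S = n * k) (hle : (k - 1) * S ≤ nL - 1) : False := by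
  have hh' : (2 : ℤ) ≤ h := by exact_mod_cast hh
  have hb' : (1 : ℤ) ≤ b := by exact_mod_cast hb.pos
  have hhb : (2 : ℤ) ≤ h * b := by nlinarith
  have hS0 : (0 : ℤ) < S := by
    rw [hS, hr]
    exact mul_pos (by rcases hε with rfl | rfl <;> linarith) (by rcases hε with rfl | rfl <;> linarith)
  have hnL : 1 ≤ nL := by
    by_contra hlt
    have : 0 < (k - 1) * S := Nat.mul_pos (by omega) (by exact_mod_cast hS0)
    omega
  have hle' : ((k : ℤ) - 1) * S ≤ (nL : ℤ) - 1 := by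
    have h1 : (((k - 1) * S : ℕ) : ℤ) ≤ ((nL - 1 : ℕ) : ℤ) := by exact_mod_cast hle
    push_cast [show 1 ≤ k by omega, hnL] at h1
    exact h1
  have heq' : (nL : ℤ) * S = (n : ℤ) * k := by exact_mod_cast heq
  rw [hS, ← mul_assoc] at hle' heq'
  exact alpha hk hkp hpb hb.pos.ne' hh hε hr rfl hn hle' heq'

/-- **(4b) the second configuration** -/
theorem false_beta_data {n p R k b h r : ℕ} {ε j : ℤ} (hp : p.Prime) (hp2 : p ≠ 2) (hR : Odd R) (hRp : R ≤ p)
    (hk : k = p * R) (hb : Odd b) (hpb : p ∣ b) (hh : 2 ≤ h) (hε : ε = 1 ∨ ε = -1)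
    (hr : (r : ℤ) = 4 * h * b + ε) (hrp : IsPrimePow r) (hj : j ≠ 0)
    (hn : (n : ℤ) * j ^ 2 = ((k : ℤ) * b) ^ 2 * (1 + 4 * h * j) * (1 + 2 * h * j)) (hjd : j ∣ (k : ℤ) * b)
    (hcong : ∀ q : ℕ, q.Prime → q ∣ b → (q : ℤ) ∣ (n : ℤ) - 1) (hrd : r ∣ n * k) : False := by
  obtain ⟨I, hI⟩ := hjd
  have hnI : (n : ℤ) = (I + 4 * h * k * b) * (I + 2 * h * k * b) := by
    refine mul_right_cancel₀ (pow_ne_zero 2 hj) ?_
    rw [hn, hI, show 4 * (h : ℤ) * k * b = 4 * h * (j * I) by rw [← hI]; ring,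
      show 2 * (h : ℤ) * k * b = 2 * h * (j * I) by rw [← hI]; ring]
    ring
  have hq : ∀ q : ℕ, q.Prime → q ∣ b → (q : ℤ) ∣ I * I - 1 := fun q hq hqb => by
    obtain ⟨m, hm⟩ := Int.natCast_dvd_natCast.2 hqb
    obtain ⟨m', hm'⟩ := hcong q hq hqb
    exact ⟨m' - I * (6 * h * k) * m - 8 * h ^ 2 * k ^ 2 * b * m, by
      linear_combination hm' - hnI - (I * (6 * (h : ℤ) * k) + 8 * h ^ 2 * k ^ 2 * b) * hm⟩
  have hcop : IsCoprime I (b : ℤ) := by
    rw [Int.isCoprime_iff_nat_coprime]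
    refine Nat.coprime_of_dvd fun q hqp hqI hqb => ?_
    rw [Int.natAbs_natCast] at hqb
    have h1 := dvd_sub ((Int.natCast_dvd.2 hqI).mul_right I) (hq q hqp hqb)
    rw [sub_sub_cancel] at h1
    exact hqp.one_lt.ne' (Nat.dvd_one.1 (by exact_mod_cast h1))
  have hIk : I ∣ (k : ℤ) := hcop.dvd_of_dvd_mul_right (Dvd.intro_left j hI.symm)
  rw [hk, Nat.cast_mul] at hIk
  have hIR : I ∣ (R : ℤ) :=
    (hcop.of_isCoprime_of_dvd_right (Int.natCast_dvd_natCast.2 hpb)).dvd_of_dvd_mul_left hIk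
  have hIabs : |I| ≤ (p : ℤ) := by
    refine le_trans (Int.le_of_dvd (by exact_mod_cast hR.pos) ((abs_dvd _ _).2 hIR)) ?_
    exact_mod_cast hRp
  have hIodd : Odd I := by
    have : Odd I.natAbs := hR.of_dvd_nat (Int.natAbs_dvd_natAbs.2 hIR |> fun h => by simpa using h)
    exact Int.natAbs_odd.1 this
  have hp3 : (3 : ℤ) ≤ p := by exact_mod_cast (show 3 ≤ p by have := hp.two_le; omega)
  have hIη : I = 1 ∨ I = -1 := by
    have h1 := hq p hp hpb
    rw [show I * I - 1 = (I - 1) * (I + 1) by ring] at h1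
    have hpodd : Odd (p : ℤ) := by exact_mod_cast hp.odd_of_ne_two hp2
    obtain ⟨a, ha⟩ := hIodd
    obtain ⟨b', hb'⟩ := hpodd
    obtain ⟨h2, h3⟩ := abs_le.1 hIabs
    rcases (Nat.prime_iff_prime_int.1 hp).dvd_mul.1 h1 with ⟨m, hm⟩ | ⟨m, hm⟩
    · left
      have hm1 : -1 ≤ m ∧ m ≤ 1 := ⟨by nlinarith, by nlinarith⟩
      obtain rfl | rfl | rfl : m = -1 ∨ m = 0 ∨ m = 1 := by omega
      all_goals omega
    · right
      have hm1 : -1 ≤ m ∧ m ≤ 1 := ⟨by nlinarith, by nlinarith⟩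
      obtain rfl | rfl | rfl : m = -1 ∨ m = 0 ∨ m = 1 := by omega
      all_goals omega
  refine beta hp hp2 hR hRp hk hpb hb hh hε hIη hr hrp ?_
  have : (r : ℤ) ∣ (n : ℤ) * k := by exact_mod_cast hrd
  rw [hnI] at this
  rwa [mul_comm (_ * _) (k : ℤ), ← mul_assoc] at this

end CaseA

end CfsgLib.GW
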