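import Cfsg.Agent.Lib.GW.CaseA.Basic
import Cfsg.Agent.Lib.GW.CaseB.Admissible

/-!
# Case A: subgroups containing a large part of `F(C(t))`

`Loc t p Y H`: `H` contains `t`, the centraliser in `T = O_p(C(t))` of a subgroup `Y` of `T`, and the other
`O_q(C(t))`.  Then `t` centralises `O(H)` as soon as the primes outside `π(F(C(t)))` are absent from `F(O(H))`.
-/

set_option autoImplicit false
set_option linter.style.haveILetI false
set_option linter.unusedSectionVars false

open Subgroup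
open CfsgLib.Coprime.BenderPair CfsgLib.Coprime.BenderUniqueness

namespace CfsgLib.GW.CaseA

universe u

variable {G : Type u} [Group G] [Finite G]

/-- a normal `p`-subgroup lies in `O_p` -/
theorem le_opc {p : ℕ} {A H : Subgroup G} (hA : IsPGroup p A) (hle : A ≤ H)
    (hn : H ≤ normalizer (A : Set G)) : A ≤ opc p H := by
  haveI : (A.subgroupOf H).Normal := (normal_subgroupOf_iff_le_normalizer hle).2 hn
  exact (map_subgroupOf_eq_of_le hle).ge.trans (map_mono (CfsgLib.Coprime.le_pCore hA.comap_subtype))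

/-- **Thompson's `P × Q` lemma** for one element -/
theorem commute_of_pq {p : ℕ} [Fact p.Prime] {P U : Subgroup G} (hP : IsPGroup p P) (hU : IsPGroup p U) {z : G}
    (hz : (orderOf z).Coprime p) (hzP : ∀ x ∈ P, Commute x z) (hPU : P ≤ normalizer (U : Set G))
    (hzU : z ∈ normalizer (U : Set G)) (h : ∀ u ∈ U, (∀ x ∈ P, Commute u x) → Commute u z) :
    ∀ u ∈ U, Commute u z := by
  have hle := CfsgLib.Coprime.pq_lemma (p := p) (P := P) (Q := zpowers z) (U := U) hP
    (by rwa [Nat.card_zpowers]) hU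
    (fun x hx => mem_centralizer_iff.2 fun y hy => by
      obtain ⟨i, rfl⟩ := mem_zpowers_iff.1 hy
      exact ((hzP x hx).zpow_right i).eq.symm)
    hPU (zpowers_le.2 hzU)
    (fun u hu => mem_centralizer_iff.2 fun y hy => by
      obtain ⟨i, rfl⟩ := mem_zpowers_iff.1 hy
      exact ((h u hu.1 fun x hx => (mem_centralizer_iff.1 hu.2 x hx).symm).zpow_right i).eq.symm)
  exact fun u hu => mem_centralizer_iff.1 (hle (mem_zpowers z)) u hu

theorem orderOf_coprime_two {p : ℕ} (hp : p.Prime) (hp2 : p ≠ 2) {t : G} (ht : orderOf t = 2) :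
    (orderOf t).Coprime p := by
  rw [ht]
  exact (Nat.coprime_primes Nat.prime_two hp).2 (Ne.symm hp2)

theorem coprime_of_pGroup {p s : ℕ} [Fact p.Prime] [Fact s.Prime] (hne : s ≠ p) {A : Subgroup G}
    (hA : IsPGroup s A) {x : G} (hx : x ∈ A) : (orderOf x).Coprime p := by
  obtain ⟨k, hk⟩ := hA ⟨x, hx⟩
  exact Nat.Coprime.coprime_dvd_left (orderOf_dvd_of_pow_eq_one (congrArg Subtype.val hk))
    (Nat.Coprime.pow_left k ((Nat.coprime_primes (Fact.out : s.Prime) (Fact.out : p.Prime)).2 hne))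

theorem orderOf_odd {p : ℕ} [Fact p.Prime] (hp : p ≠ 2) {A : Subgroup G} (hA : IsPGroup p A) {x : G}
    (hx : x ∈ A) : Odd (orderOf x) :=
  CaseB.orderOf_odd_of_mem (CaseB.odd_card_of_pGroup hp hA) hx

/-! ### The centraliser of `t` -/

/-- the elements of odd order of `C(t)` lie in `O(C(t))` -/
theorem mem_ocore {t : G} (hG : Min G) (ht : orderOf t = 2) {x : G} (hx : Commute x t)
    (hodd : Odd (orderOf x)) : x ∈ Ocore t := by
  set C := centralizer ({t} : Set G)
  have hxC : x ∈ C := mem_centralizer_singleton_iff.2 hx.eq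
  haveI : ((Ocore t).subgroupOf C).Normal :=
    (normal_subgroupOf_iff_le_normalizer (ocore_le t)).2 (centralizer_le_normalizer_ocore t)
  obtain ⟨k, hk⟩ := hG.ocore_index ht
  have h1 : QuotientGroup.mk' ((Ocore t).subgroupOf C) ⟨x, hxC⟩ = 1 := by
    refine orderOf_eq_one_iff.1 (Nat.eq_one_of_dvd_coprimes
      (Nat.Coprime.pow_left k (Nat.coprime_two_left.2 hodd)) ?_ ?_)
    · refine (_root_.orderOf_dvd_natCard _).trans ?_
      rw [← Subgroup.index_eq_card, ← relIndex, hk]
    · exact (orderOf_map_dvd _ _).trans (by rw [Subgroup.orderOf_mk])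
  exact mem_subgroupOf.1 ((QuotientGroup.eq_one_iff _).1 h1)

theorem coreAt_le (p : ℕ) (t : G) : coreAt p t ≤ centralizer ({t} : Set G) := map_subtype_le _

theorem isPGroup_coreAt (p : ℕ) (t : G) : IsPGroup p (coreAt p t) := isPGroup_opc p _

theorem commute_coreAt {p : ℕ} {t x : G} (hx : x ∈ coreAt p t) : Commute x t :=
  mem_centralizer_singleton_iff.1 (coreAt_le p t hx)

theorem mem_normalizer_coreAt {p : ℕ} {t x : G} (hx : Commute x t) :
    x ∈ normalizer (coreAt p t : Set G) :=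
  le_normalizer_opc p _ (mem_centralizer_singleton_iff.2 hx.eq)

theorem coreAt_conj (p : ℕ) (g t : G) :
    coreAt p (g * t * g⁻¹) = (coreAt p t).map (MulAut.conj g).toMonoidHom := by
  rw [coreAt, ← map_conj_centralizer, CaseB.opc_map]

theorem mem_coreAt_conj {p : ℕ} {g t x : G} : x ∈ coreAt p (g * t * g⁻¹) ↔ g⁻¹ * x * g ∈ coreAt p t := by
  rw [coreAt_conj, CaseB.mem_conj]

theorem coreAt_le_ocore {p : ℕ} [Fact p.Prime] (hp : p ≠ 2) (t : G) : coreAt p t ≤ Ocore t :=
  GW.le_ocore (coreAt_le p t) (le_normalizer_opc p _)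
    (CaseB.odd_card_of_pGroup hp (isPGroup_coreAt p t))

/-- `F(O(C(t)))` is generated by the `O_q(C(t))` -/
theorem fit_ocore_le {t : G} {X : Subgroup G}
    (h : ∀ q : ℕ, q.Prime → q ≠ 2 → coreAt q t ≤ X) : fit (Ocore t) ≤ X := by
  refine fit_le fun q hq => ?_
  haveI := Fact.mk hq
  rcases eq_or_ne q 2 with rfl | hq2
  · refine le_trans (le_of_eq ?_) bot_le
    refine Subgroup.eq_bot_of_card_eq _ ?_
    obtain ⟨k, hk⟩ := (isPGroup_opc 2 (Ocore t)).exists_card_eq
    have hodd : Odd (Nat.card (opc 2 (Ocore t))) := (odd_ocore t).of_dvd_nat (card_dvd_of_le (map_subtype_le _))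
    rw [hk] at hodd ⊢
    rcases Nat.eq_zero_or_pos k with rfl | hk0
    · rfl
    · exact absurd hodd (Nat.not_odd_iff_even.2 (Nat.even_pow.2 ⟨even_two, hk0.ne'⟩))
  · refine le_trans (le_opc (isPGroup_opc q _) ((map_subtype_le _).trans (ocore_le t)) ?_) (h q hq hq2)
    haveI := CfsgLib.Coprime.pCore_characteristic (G := Ocore t) q
    exact (centralizer_le_normalizer_ocore t).trans (CfsgLib.PGroup.le_normalizer_map_char _)

/-- `O_s` of `C(t)` is self-centralising among the odd primes -/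
theorem mem_coreAt_of_commute {t : G} {s : ℕ} [Fact s.Prime] {x : G} (hx : x ∈ Ocore t)
    (hs : ∃ k, orderOf x = s ^ k)
    (h : ∀ q : ℕ, q.Prime → q ≠ 2 → ∀ y ∈ coreAt q t, Commute y x) : x ∈ coreAt s t := by
  by_cases hs2 : s = 2
  · subst hs2
    obtain ⟨k, hk⟩ := hs
    have hodd : Odd (orderOf x) := CaseB.orderOf_odd_of_mem (odd_ocore t) hx
    rw [hk] at hodd
    rcases Nat.eq_zero_or_pos k with rfl | hk0
    · rw [pow_zero, orderOf_eq_one_iff] at hk
      rw [hk]
      exact one_mem _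
    · exact absurd hodd (Nat.not_odd_iff_even.2 (Nat.even_pow.2 ⟨even_two, hk0.ne'⟩))
  have hxF : x ∈ fit (Ocore t) := by
    refine CaseB.mem_fit_ocN (M := centralizer ({t} : Set G)) hx fun f hf => ?_
    have hle : fit (Ocore t) ≤ centralizer ({x} : Set G) := fit_ocore_le fun q hq hq2 y hy =>
      mem_centralizer_singleton_iff.2 (h q hq hq2 y hy).eq
    exact mem_centralizer_singleton_iff.1 (hle hf)
  obtain ⟨y, hy, rfl⟩ := hxF
  obtain ⟨k, hk⟩ := hs
  have hp : IsPGroup s (zpowers (⟨y, hy⟩ : Cfsg.fittingSubgroup (Ocore t))) := IsPGroup.of_card (n := k) (by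
    rw [Nat.card_zpowers, Subgroup.orderOf_mk, ← hk]
    exact (Subgroup.orderOf_coe y).symm)
  obtain ⟨R, hR⟩ := hp.exists_le_sylow
  refine le_opc (isPGroup_opc s _) ((map_subtype_le _).trans (ocore_le t)) ?_
    (sylow_le_opc R ⟨_, ⟨⟨y, hy⟩, hR (mem_zpowers _), rfl⟩, rfl⟩)
  haveI := CfsgLib.Coprime.pCore_characteristic (G := Ocore t) s
  exact (centralizer_le_normalizer_ocore t).trans (CfsgLib.PGroup.le_normalizer_map_char _)

/-- an involution centralising every `O_q(C(t))` centralises `O(C(t))` -/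
theorem ocore_le_centralizer {t u : G} (hu : orderOf u = 2) (hut : Commute u t)
    (h : ∀ q : ℕ, q.Prime → q ≠ 2 → ∀ y ∈ coreAt q t, Commute y u) :
    Ocore t ≤ centralizer ({u} : Set G) := by
  refine CaseB.ocN_le_of_fit (M := centralizer ({t} : Set G)) hu (mem_centralizer_singleton_iff.2 hut.eq)
    fun f hf => ?_
  have hle : fit (Ocore t) ≤ centralizer ({u} : Set G) := fit_ocore_le fun q hq hq2 y hy =>
    mem_centralizer_singleton_iff.2 (h q hq hq2 y hy).eq
  exact mem_centralizer_singleton_iff.1 (hle hf)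

/-- **no second involution centralises `O(C(t))`** -/
theorem false_of_centralized {t u : G} (hA : CaseA t) (hO : Ocore t ≠ ⊥) (hu : orderOf u = 2) (hne : u ≠ t)
    (hut : Commute u t) (h : ∀ q : ℕ, q.Prime → q ≠ 2 → ∀ y ∈ coreAt q t, Commute y u) : False := by
  have hG := hA.min
  haveI := hG.simple
  have hle : Ocore t ≤ Ocore u := fun x hx =>
    mem_ocore hG hu (mem_centralizer_singleton_iff.1 (ocore_le_centralizer hu hut h hx))
      (CaseB.orderOf_odd_of_mem (odd_ocore t) hx)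
  obtain ⟨g, hg⟩ := hG.isConj_invol hA.invol hu
  have heq : Ocore t = Ocore u := Subgroup.eq_of_le_of_card_ge hle (by
    rw [← hg, ← ocore_conj, ← Nat.card_congr (equivMapOfInjective _ _ (MulAut.conj g).injective).toEquiv])
  have hN := norm_eq (hA.maximal t hA.invol) hO (ocore_le t) (centralizer_le_normalizer_ocore t)
  have hCu : centralizer ({u} : Set G) ≤ centralizer ({t} : Set G) :=
    ((centralizer_le_normalizer_ocore u).trans (heq ▸ le_rfl)).trans hN.le
  have hc1 : centralizer ({u} : Set G) = centralizer ({t} : Set G) :=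
    ((hA.maximal u hu).le_iff.1 hCu).resolve_left (hG.centralizer_ne_top hA.invol) |>.symm
  obtain ⟨e, he⟩ := hG.exists_cyc hu hA.invol hne hut
  have he' : centralizer ({e * u * e⁻¹} : Set G) = centralizer ({u} : Set G) := by rw [he.1, hc1]
  have heN : e ∈ normalizer (centralizer ({u} : Set G) : Set G) := by
    refine mem_normalizer_iff.2 fun x => ?_
    rw [← map_conj_centralizer] at he'
    conv_rhs => rw [← he']
    rw [CaseB.mem_conj]
    simp [mul_assoc]
  have hCne : centralizer ({u} : Set G) ≠ ⊥ := fun h => Invol.invol_ne_one hu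
    (mem_bot.1 (h ▸ mem_centralizer_singleton_iff.2 rfl))
  rw [norm_eq (hA.maximal u hu) hCne le_rfl le_normalizer, mem_centralizer_singleton_iff] at heN
  exact hne ((mul_inv_eq_iff_eq_mul.2 heN).symm.trans he.1)

/-! ### Local subgroups -/

/-- `H` contains `t`, `C_T(Y)` and the other `O_q(C(t))` -/
structure Loc (t : G) (p : ℕ) (Y H : Subgroup G) : Prop where
  mem : t ∈ H
  ne_bot : Y ≠ ⊥
  le_core : Y ≤ coreAt p t
  le : Y ≤ H
  cent : coreAt p t ⊓ centralizer (Y : Set G) ≤ H
  others : ∀ q : ℕ, q.Prime → q ≠ 2 → q ≠ p → coreAt q t ≤ H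

namespace Loc

variable {t : G} {p : ℕ} [Fact p.Prime] {Y H : Subgroup G} (hL : Loc t p Y H)
include hL

theorem core_ne_bot : coreAt p t ≠ ⊥ := fun e => hL.ne_bot (le_bot_iff.1 (hL.le_core.trans e.le))

theorem ctr_le : ctr p (centralizer ({t} : Set G)) ≤ coreAt p t ⊓ centralizer (Y : Set G) := fun z hz =>
  ⟨hz.1, mem_centralizer_iff.2 fun y hy => mem_centralizer_iff.1 hz.2 y (hL.le_core hy)⟩

omit hL in
/-- elements of `H` and of `O_q(C(t))` in mutually normalising positions commute -/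
theorem commute_opc {s q : ℕ} [Fact s.Prime] [Fact q.Prime] (hqs : q ≠ s) {t x y : G} {H : Subgroup G}
    (hx : x ∈ opc s H) (hxt : Commute x t) (hy : y ∈ coreAt q t) (hyH : y ∈ H) : Commute y x :=
  CaseB.commute_of_disjoint (IsPGroup.disjoint_of_ne q s hqs _ _ (isPGroup_coreAt q t) (isPGroup_opc s H))
    hy hx (le_normalizer_opc s H hyH) (mem_normalizer_coreAt hxt)

theorem fixed_eq_one (hA : CaseA t) (hp : p ≠ 2) {s : ℕ} [Fact s.Prime] (hs : s ≠ 2) (hs0 : coreAt s t = ⊥) {x : G}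
    (hx : x ∈ opc s H) (hxt : Commute x t) : x = 1 := by
  have hsp : s ≠ p := fun e => hL.core_ne_bot (e ▸ hs0)
  have hall : ∀ q : ℕ, q.Prime → q ≠ 2 → ∀ y ∈ coreAt q t, Commute y x := by
    intro q hq hq2 y hy
    haveI := Fact.mk hq
    rcases eq_or_ne q p with rfl | hqp
    · refine commute_of_pq (P := Y) ((isPGroup_coreAt q t).to_le hL.le_core) (isPGroup_coreAt q t)
        (coprime_of_pGroup hsp (isPGroup_opc s H) hx)
        (fun z hz => commute_opc hsp.symm hx hxt (hL.le_core hz) (hL.le hz))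
        (hL.le_core.trans le_normalizer) (mem_normalizer_coreAt hxt)
        (fun u hu h => commute_opc hsp.symm hx hxt hu (hL.cent ⟨hu, mem_centralizer_iff.2 fun z hz => (h z hz).eq.symm⟩)) y hy
    · rcases eq_or_ne q s with rfl | hqs
      · rw [hs0, mem_bot] at hy
        rw [hy]
        exact Commute.one_left x
      · exact commute_opc hqs hx hxt hy (hL.others q hq hq2 hqp hy)
  have h1 := mem_coreAt_of_commute (s := s) (mem_ocore hA.min hA.invol hxt (orderOf_odd hs (isPGroup_opc s H) hx))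
    (IsPGroup.iff_orderOf.1 (isPGroup_opc s H) ⟨x, hx⟩ |>.imp fun k hk => by rwa [Subgroup.orderOf_mk] at hk) hall
  rwa [hs0, mem_bot] at h1

theorem commute_of_pi (hA : CaseA t) (hp : p ≠ 2) {s : ℕ} [Fact s.Prime] (hs : s ≠ 2)
    (hs0 : coreAt s t ≠ ⊥) : ∀ x ∈ opc s H, Commute x t := by
  haveI := hA.min.simple
  have hM := hA.maximal t hA.invol
  have key : ∀ P : Subgroup G, P ≤ coreAt s t → P ≤ H → ctr s (centralizer ({t} : Set G)) ≤ P →
      ∀ x ∈ opc s H, Commute x t := fun P hP hPH hctr =>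
    commute_of_pq ((isPGroup_coreAt s t).to_le hP) (isPGroup_opc s H) (orderOf_coprime_two Fact.out hs hA.invol)
      (fun z hz => commute_coreAt (hP hz)) (hPH.trans (le_normalizer_opc s H)) (le_normalizer_opc s H hL.mem)
      fun u _ h => mem_centralizer_singleton_iff.1 (centralizer_ctr_le hM hs0
        (mem_centralizer_iff.2 fun z hz => (h z (hctr hz)).eq.symm))
  rcases eq_or_ne s p with rfl | hsp
  · exact key _ inf_le_left hL.cent hL.ctr_le
  · exact key _ le_rfl (hL.others s Fact.out hs hsp) inf_le_left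

/-- `t` centralises `O(H)` when no prime outside `π(F(C(t)))` is present -/
theorem commute_ocN (hA : CaseA t) (hp : p ≠ 2)
    (hfree : ∀ s : ℕ, s.Prime → s ≠ 2 → coreAt s t = ⊥ → opc s H = ⊥) :
    CaseB.ocN H ≤ centralizer ({t} : Set G) := by
  refine CaseB.ocN_le_of_fit hA.invol hL.mem fun f hf => ?_
  suffices hle : fit (CaseB.ocN H) ≤ centralizer ({t} : Set G) from mem_centralizer_singleton_iff.1 (hle hf)
  refine fit_le fun q hq => ?_
  haveI := Fact.mk hq
  intro x hx
  have hxodd : Odd (orderOf x) := CaseB.orderOf_odd_of_mem (CaseB.odd_ocN H) (map_subtype_le _ hx)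
  by_cases hx1 : x = 1
  · rw [hx1]
    exact one_mem _
  have hq2 : q ≠ 2 := by
    rintro rfl
    obtain ⟨k, hk⟩ := IsPGroup.iff_orderOf.1 (isPGroup_opc 2 _) ⟨x, hx⟩
    rw [Subgroup.orderOf_mk] at hk
    rw [hk] at hxodd
    rcases Nat.eq_zero_or_pos k with rfl | hk0
    · exact hx1 (orderOf_eq_one_iff.1 (by rw [hk, pow_zero]))
    · exact absurd hxodd (Nat.not_odd_iff_even.2 (Nat.even_pow.2 ⟨even_two, hk0.ne'⟩))
  have hxH : x ∈ opc q H := by
    refine le_opc (isPGroup_opc q _) ((map_subtype_le _).trans (CaseB.ocN_le H)) ?_ hx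
    haveI := CfsgLib.Coprime.pCore_characteristic (G := CaseB.ocN H) q
    exact (CaseB.le_normalizer_ocN H).trans (CfsgLib.PGroup.le_normalizer_map_char _)
  by_cases h0 : coreAt q t = ⊥
  · rw [hfree q hq hq2 h0, mem_bot] at hxH
    exact absurd hxH hx1
  · exact mem_centralizer_singleton_iff.2 (hL.commute_of_pi hA hp hq2 h0 x hxH).eq

/-- fused involutions leave no room for primes outside `π(F(C(t)))` -/
theorem opc_eq_bot_of_fused (hA : CaseA t) (hp : p ≠ 2) {v : G} (hv : orderOf v = 2) (hne : t ≠ v)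
    (hc : Commute t v) (hvH : v ∈ H) (hfv : ∃ h ∈ H, h * t * h⁻¹ = v) (hftv : ∃ h ∈ H, h * t * h⁻¹ = t * v)
    {s : ℕ} [Fact s.Prime] (hs : s ≠ 2) (hs0 : coreAt s t = ⊥) : opc s H = ⊥ := by
  have hfix : ∀ u : G, (∃ h ∈ H, h * t * h⁻¹ = u) → ∀ x ∈ opc s H, Commute x u → x ∈ (⊥ : Subgroup G) := by
    rintro u ⟨h, hh, rfl⟩ x hx hxu
    have hmem : h⁻¹ * x * h ∈ opc s H := (mem_normalizer_iff''.1 (le_normalizer_opc s H hh) x).1 hx
    have := hL.fixed_eq_one hA hp hs hs0 hmem (by
      show h⁻¹ * x * h * t = t * (h⁻¹ * x * h)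
      calc h⁻¹ * x * h * t = h⁻¹ * (x * (h * t * h⁻¹)) * h := by group
        _ = t * (h⁻¹ * x * h) := by rw [hxu.eq]; group)
    rw [mem_bot]
    simpa [mul_assoc, eq_comm] using congrArg (fun z => h * z * h⁻¹) this
  exact le_bot_iff.1 (CaseB.le_of_four hA.invol hv hne hc (CaseB.odd_card_of_pGroup hs (isPGroup_opc s H))
    (le_normalizer_opc s H hL.mem) (le_normalizer_opc s H hvH)
    (fun x hx hxt => mem_bot.2 (hL.fixed_eq_one hA hp hs hs0 hx hxt)) (hfix v hfv) (hfix (t * v) hftv))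

/-- `t` centralises `O(H)` if it is fused in `H` with the other involutions of a four group -/
theorem commute_ocN_of_fused (hA : CaseA t) (hp : p ≠ 2) {v : G} (hv : orderOf v = 2) (hne : t ≠ v)
    (hc : Commute t v) (hvH : v ∈ H) (hfv : ∃ h ∈ H, h * t * h⁻¹ = v) (hftv : ∃ h ∈ H, h * t * h⁻¹ = t * v) :
    CaseB.ocN H ≤ centralizer ({t} : Set G) :=
  hL.commute_ocN hA hp fun s hs hs2 h0 => by
    haveI := Fact.mk hs
    exact hL.opc_eq_bot_of_fused hA hp hv hne hc hvH hfv hftv hs2 h0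

end Loc

end CfsgLib.GW.CaseA
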