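import Cfsg.Agent.Lib.GW.CaseA.NormaliserY

/-!
# Case A: the component of a fused subgroup over a part of `F(C(t))`

A subgroup with `⟨t, v⟩` fused containing a large part of `F(C(t))` has component `PSL(2, r)`, not `A7`, and the
image of each `O_q(C(t))` lies in that component, in the torus of `t`.
-/

set_option autoImplicit false
set_option linter.style.haveILetI false
set_option linter.unusedSectionVars false

open Subgroup
open CfsgLib.Coprime.BenderPair CfsgLib.Coprime.BenderUniqueness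

namespace CfsgLib.GW.CaseA

universe u

variable {G : Type u} [Group G] [Finite G]

/-- a lift commuting with `t` of an involution commuting with the image of `t` can be taken an involution -/
theorem exists_invol_comm_lift {H : Subgroup G} {t : G} (htH : t ∈ H) (ht : orderOf t = 2)
    {x : H ⧸ Cfsg.oddCore H} (hx : orderOf x = 2)
    (hc : Commute x (QuotientGroup.mk' (Cfsg.oddCore H) ⟨t, htH⟩)) :
    ∃ u : G, ∃ huH : u ∈ H, orderOf u = 2 ∧ Commute u t ∧ QuotientGroup.mk' (Cfsg.oddCore H) ⟨u, huH⟩ = x := by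
  obtain ⟨m, hm, hmt⟩ := exists_comm_lift (odd_oddCore H) (u := (⟨t, htH⟩ : H))
    (by rw [Subgroup.orderOf_mk, ht]) hc
  obtain ⟨k, hk, hk'⟩ := exists_invol_pow (odd_oddCore H) (g := m) (by rw [hm, hx])
  exact ⟨((m ^ k : H) : G), (m ^ k).2, by rw [Subgroup.orderOf_coe, hk],
    congrArg Subtype.val (hmt.pow_left k).eq, hk'.trans hm⟩

/-- an element centralising `u` modulo the odd core centralises it, if `u` centralises the odd core -/
theorem commute_of_image_commute {H : Subgroup G} {u : G} (hu : orderOf u = 2) (huH : u ∈ H)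
    (hle : ∀ k ∈ CaseB.ocN H, Commute k u) {x : G} (hxH : x ∈ H)
    (h : Commute (QuotientGroup.mk' (Cfsg.oddCore H) ⟨x, hxH⟩) (QuotientGroup.mk' (Cfsg.oddCore H) ⟨u, huH⟩)) :
    Commute x u :=
  commute_of_image hu (fun k hk => mem_centralizer_singleton_iff.2 (hle k hk).eq) hxH huH h

namespace Fused

variable {t v : G} {p : ℕ} {Y H : Subgroup G}

/-- the component is `PSL(2, F)` -/
theorem exists_psl (hF : Fused t v H) (hL : Loc t p Y H) (hA : CaseA t) (hp : p.Prime) (hp2 : p ≠ 2)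
    (hv : orderOf v = 2) (hne : t ≠ v) (hc : Commute t v) :
    ∃ (F : Type) (_ : Field F) (_ : Fintype F) (M : Subgroup (H ⧸ Cfsg.oddCore H)) (_ : M.Normal),
      Odd (Fintype.card F) ∧ 5 ≤ Fintype.card F ∧ IsSimpleGroup M ∧
      centralizer (M : Set (H ⧸ Cfsg.oddCore H)) = ⊥ ∧
      Nonempty (M ≃* Matrix.ProjectiveSpecialLinearGroup (Fin 2) F) := by
  classical
  haveI := Fact.mk hp
  obtain ⟨M, hMn, hMs, hC, hM7⟩ := (typeC_cases hF.typeC).resolve_left hF.not_four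
  haveI := hMn
  rcases hM7 with ⟨F, i, j, ho, h3, ⟨e⟩⟩ | ⟨⟨e⟩⟩
  · exact ⟨F, i, j, M, hMn, ho, by obtain ⟨k, hk⟩ := ho; omega, hMs, hC, ⟨e⟩⟩
  exfalso
  have hX : DihTwo (H ⧸ Cfsg.oddCore H) := dihTwo_mod_core hA.min hA.invol hv hne hc hF.tH hF.vH
  have hMtop := eq_top_of_alt7 hX M e hC
  set π := QuotientGroup.mk' (Cfsg.oddCore H) with hπ
  have hmem : ∀ x, x ∈ M := fun x => hMtop ▸ mem_top x
  let a : alternatingGroup (Fin 7) := e ⟨π ⟨t, hF.tH⟩, hmem _⟩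
  have ha : orderOf a = 2 := by
    rw [MulEquiv.orderOf_eq, Subgroup.orderOf_mk, orderOf_mk_two hF.tH hA.invol]
  obtain ⟨-, -, u₀, hu₀, hu₀a, hu₀c, hu₀all⟩ := alt_seven_torus ha
  set ub : H ⧸ Cfsg.oddCore H := ((e.symm u₀ : M) : H ⧸ Cfsg.oddCore H) with hub
  have hubo : orderOf ub = 2 := by rw [hub, Subgroup.orderOf_coe, MulEquiv.orderOf_eq, hu₀]
  have hback : ∀ x y : H ⧸ Cfsg.oddCore H, Commute (e ⟨x, hmem x⟩) (e ⟨y, hmem y⟩) → Commute x y := fun x y h =>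
    congrArg Subtype.val (e.injective (by rw [map_mul, map_mul]; exact h.eq) :
      (⟨x, hmem x⟩ : M) * ⟨y, hmem y⟩ = ⟨y, hmem y⟩ * ⟨x, hmem x⟩)
  have hubt : Commute ub (π ⟨t, hF.tH⟩) := hback _ _ (by
    rw [show (⟨ub, hmem ub⟩ : M) = e.symm u₀ from rfl, MulEquiv.apply_symm_apply]
    exact hu₀c)
  obtain ⟨u, huH, hu, hut, huim⟩ := exists_invol_comm_lift hF.tH hA.invol hubo hubt
  -- `u` is conjugate to `t` and centralises the odd core
  have hconj : ∃ h ∈ H, h * t * h⁻¹ = u := by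
    obtain ⟨g, hg⟩ := isConj_iff.1 (alt_seven_one_class ha hu₀)
    obtain ⟨h, -, hh⟩ := exists_conj_lift (odd_oddCore H) (u := (⟨t, hF.tH⟩ : H)) (v := ⟨u, huH⟩)
      (x := ((e.symm g : M) : H ⧸ Cfsg.oddCore H))
      (by rw [Subgroup.orderOf_mk, hA.invol]) (by rw [Subgroup.orderOf_mk, hu]) (by
        rw [huim, hub, ← hg, map_mul, map_mul, map_inv]
        simp [a, hπ])
    exact ⟨h, h.2, congrArg Subtype.val hh⟩
  have hKu : ∀ k ∈ CaseB.ocN H, Commute k u := by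
    obtain ⟨h, hh, rfl⟩ := hconj
    intro k hk
    have h1 := mem_centralizer_singleton_iff.1
      (hF.ocN_le ((mem_normalizer_iff''.1 (CaseB.le_normalizer_ocN H hh) k).1 hk))
    show k * (h * t * h⁻¹) = h * t * h⁻¹ * k
    calc k * (h * t * h⁻¹) = h * ((h⁻¹ * k * h) * t) * h⁻¹ := by group
      _ = h * t * h⁻¹ * k := by rw [h1]; group
  have hut' : u ≠ t := by
    intro h
    subst h
    refine hu₀a ?_
    have h2 : (⟨π ⟨u, hF.tH⟩, hmem _⟩ : M) = e.symm u₀ := Subtype.ext huim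
    show u₀ = e ⟨π ⟨u, hF.tH⟩, hmem _⟩
    rw [h2, MulEquiv.apply_symm_apply]
  have hcore : ∀ q : ℕ, q.Prime → q ≠ 2 → ∀ x ∈ coreAt q t, x ∈ H → Commute x u := by
    intro q hq hq2 x hx hxH
    haveI := Fact.mk hq
    refine commute_of_image_commute hu huH hKu hxH ?_
    rw [huim]
    refine hback _ _ ?_
    rw [show (⟨ub, hmem ub⟩ : M) = e.symm u₀ from rfl, MulEquiv.apply_symm_apply]
    refine hu₀all _ ?_ ?_
    · exact ((show Commute (⟨x, hxH⟩ : H) ⟨t, hF.tH⟩ from Subtype.ext (commute_coreAt hx).eq).map π |>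
        fun h => (show Commute (⟨π ⟨x, hxH⟩, hmem _⟩ : M) ⟨π ⟨t, hF.tH⟩, hmem _⟩ from Subtype.ext h.eq)).map
        e.toMonoidHom
    · rw [MulEquiv.orderOf_eq, Subgroup.orderOf_mk]
      exact orderOf_mk_odd hxH (orderOf_odd hq2 (isPGroup_coreAt q t) hx)
  refine false_of_centralized hA ?_ hu hut' hut fun q hq hq2 y hy => ?_
  · exact fun h => hL.core_ne_bot (le_bot_iff.1 (h ▸ coreAt_le_ocore hp2 t))
  rcases eq_or_ne q p with rfl | hqp
  · exact commute_of_pq (P := Y) ((isPGroup_coreAt q t).to_le hL.le_core) (isPGroup_coreAt q t)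
      (orderOf_coprime_two hp hp2 hu) (fun z hz => hcore q hq hq2 z (hL.le_core hz) (hL.le hz))
      (hL.le_core.trans le_normalizer) (mem_normalizer_coreAt hut)
      (fun z hz h => hcore q hq hq2 z hz (hL.cent ⟨hz, mem_centralizer_iff.2 fun w hw => (h w hw).eq.symm⟩)) y hy
  · exact hcore q hq hq2 y hy (hL.others q hq hq2 hqp hy)

/-! ### Inside the component -/

variable {F : Type} [Field F] [Fintype F] {M : Subgroup (H ⧸ Cfsg.oddCore H)} [M.Normal]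

/-- `t`, `v` and `t v` map into the component -/
theorem four_mem (hF : Fused t v H) (hA : CaseA t) (hv : orderOf v = 2) (hne : t ≠ v) (hc : Commute t v)
    (ho : Odd (Fintype.card F)) (hC : centralizer (M : Set (H ⧸ Cfsg.oddCore H)) = ⊥)
    (e : M ≃* Matrix.ProjectiveSpecialLinearGroup (Fin 2) F) :
    QuotientGroup.mk' (Cfsg.oddCore H) ⟨t, hF.tH⟩ ∈ M ∧ QuotientGroup.mk' (Cfsg.oddCore H) ⟨v, hF.vH⟩ ∈ M := by
  have hX : DihTwo (H ⧸ Cfsg.oddCore H) := dihTwo_mod_core hA.min hA.invol hv hne hc hF.tH hF.vH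
  have h2 : (2 : F) ≠ 0 := CfsgLib.Perm.Dickson.two_ne_zero_of_odd (F := F) (by rwa [Nat.card_eq_fintype_card])
  set π := QuotientGroup.mk' (Cfsg.oddCore H)
  have key : ∀ a b : G, ∀ haH : a ∈ H, ∀ hbH : b ∈ H, (∃ h ∈ H, h * a * h⁻¹ = b) →
      (π ⟨a, haH⟩ ∈ M ↔ π ⟨b, hbH⟩ ∈ M) := by
    rintro a b haH hbH ⟨h, hh, hb⟩
    have hsub : (⟨b, hbH⟩ : H) = ⟨h, hh⟩ * ⟨a, haH⟩ * (⟨h, hh⟩ : H)⁻¹ := Subtype.ext hb.symm
    rw [hsub, map_mul, map_mul, map_inv]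
    refine ⟨fun ha => ‹M.Normal›.conj_mem _ ha _, fun ha => ?_⟩
    have := ‹M.Normal›.conj_mem _ ha (π ⟨h, hh⟩)⁻¹
    simpa [mul_assoc] using this
  have htv : t * v ∈ H := mul_mem hF.tH hF.vH
  have h1 := key t v hF.tH hF.vH hF.fuse_v
  have h3 := key t (t * v) hF.tH htv hF.fuse_tv
  suffices ht : π ⟨t, hF.tH⟩ ∈ M from ⟨ht, h1.1 ht⟩
  rcases four_meets M e hX hC h2 (orderOf_mk_two hF.tH hA.invol) (orderOf_mk_two hF.vH hv) with h | h | h
  · exact h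
  · exact h1.2 h
  · rw [← map_mul] at h
    exact h3.2 h

/-- the image of `O_q(C(t))` lies in the component -/
theorem image_mem (hF : Fused t v H) (hA : CaseA t) (hv : orderOf v = 2) (hne : t ≠ v) (hc : Commute t v)
    (ho : Odd (Fintype.card F)) (h5 : 5 ≤ Fintype.card F)
    (hC : centralizer (M : Set (H ⧸ Cfsg.oddCore H)) = ⊥)
    (e : M ≃* Matrix.ProjectiveSpecialLinearGroup (Fin 2) F) {q : ℕ} (hq : q.Prime) (hq2 : q ≠ 2) {x : G}
    (hx : x ∈ coreAt q t) (hxH : x ∈ H) : QuotientGroup.mk' (Cfsg.oddCore H) ⟨x, hxH⟩ ∈ M := by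
  haveI := Fact.mk hq
  have hX : DihTwo (H ⧸ Cfsg.oddCore H) := dihTwo_mod_core hA.min hA.invol hv hne hc hF.tH hF.vH
  have h2 : (2 : F) ≠ 0 := CfsgLib.Perm.Dickson.two_ne_zero_of_odd (F := F) (by rwa [Nat.card_eq_fintype_card])
  set π := QuotientGroup.mk' (Cfsg.oddCore H)
  have htM := (hF.four_mem hA hv hne hc ho hC e).1
  have hto := orderOf_mk_two hF.tH hA.invol
  have hxt : Commute (π ⟨x, hxH⟩) (π ⟨t, hF.tH⟩) :=
    (show Commute (⟨x, hxH⟩ : H) ⟨t, hF.tH⟩ from Subtype.ext (commute_coreAt hx).eq).map π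
  have hpow : ∀ (c : G) (hcH : c ∈ H), c ∈ coreAt q t → ∃ k, orderOf (π ⟨c, hcH⟩) = q ^ k := by
    intro c hcH hc
    obtain ⟨k, hk⟩ := IsPGroup.iff_orderOf.1 (isPGroup_coreAt q t) ⟨c, hc⟩
    rw [Subgroup.orderOf_mk] at hk
    obtain ⟨j, -, hj⟩ := (Nat.dvd_prime_pow hq).1 (show orderOf (π ⟨c, hcH⟩) ∣ q ^ k from
      (orderOf_map_dvd _ _).trans (by rw [Subgroup.orderOf_mk, hk]))
    exact ⟨j, hj⟩
  refine mem_of_commute_torus M e hX hC ho h5 hq2 hto htM hxt (hpow x hxH hx) fun y hy hyt hyo _ hyq => ?_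
  obtain ⟨m, hm, hmt⟩ := exists_comm_lift (odd_oddCore H) (u := (⟨t, hF.tH⟩ : H))
    (by rw [Subgroup.orderOf_mk, hA.invol]) hyt
  have hmt' : Commute (m : G) t := congrArg Subtype.val hmt.eq
  have hcq : x * m * x⁻¹ * (m : G)⁻¹ ∈ coreAt q t := CaseB.commutator_mem (mem_normalizer_coreAt hmt') hx
  have hcH : x * m * x⁻¹ * (m : G)⁻¹ ∈ H := mul_mem (mul_mem (mul_mem hxH m.2) (inv_mem hxH)) (inv_mem m.2)
  obtain ⟨j, hj⟩ := hpow _ hcH hcq
  have hcim : π ⟨_, hcH⟩ = π ⟨x, hxH⟩ * y * (π ⟨x, hxH⟩)⁻¹ * y⁻¹ := by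
    rw [← hm, ← map_inv, ← map_inv, ← map_mul, ← map_mul, ← map_mul]
    rfl
  set z := π ⟨x, hxH⟩ * y * (π ⟨x, hxH⟩)⁻¹ with hz
  have hzo : orderOf z = orderOf y := by
    rw [hz, ← MulAut.conj_apply, MulEquiv.orderOf_eq]
  have hzy : Commute z y := psl_torus_comm M e hX hC h2 hto (‹M.Normal›.conj_mem y hy _) hy (hzo ▸ hyo) hyo
    ((hxt.mul_left hyt).mul_left hxt.inv_left) hyt
  have hdvd : orderOf (z * y⁻¹) ∣ orderOf y := by
    refine orderOf_dvd_of_pow_eq_one ?_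
    rw [hzy.inv_right.mul_pow, inv_pow, pow_orderOf_eq_one, inv_one, mul_one, ← hzo, pow_orderOf_eq_one]
  have h1 : z * y⁻¹ = 1 := by
    refine orderOf_eq_one_iff.1 ?_
    rw [hcim] at hj
    rw [hj] at hdvd ⊢
    rcases Nat.eq_zero_or_pos j with rfl | hj0
    · rfl
    · exact absurd ((dvd_pow_self q hj0.ne').trans hdvd) hyq
  show π ⟨x, hxH⟩ * y = y * π ⟨x, hxH⟩
  exact mul_inv_eq_iff_eq_mul.1 (mul_inv_eq_one.1 h1)

/-- what `v` fixes in `O_q(C(t)) ∩ H` lies in the odd core -/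
theorem mem_ocN_of_fixed (hF : Fused t v H) (hL : Loc t p Y H) (hA : CaseA t) (hp : p.Prime) (hp2 : p ≠ 2)
    (hv : orderOf v = 2) (hne : t ≠ v) (hc : Commute t v) {q : ℕ} (hq : q.Prime) (hq2 : q ≠ 2) {x : G}
    (hx : x ∈ coreAt q t) (hxH : x ∈ H) (hxv : Commute x v) : x ∈ CaseB.ocN H := by
  haveI := Fact.mk hq
  obtain ⟨F, iF, jF, M, hMn, ho, h5, -, hC, ⟨e⟩⟩ := hF.exists_psl hL hA hp hp2 hv hne hc
  have hX : DihTwo (H ⧸ Cfsg.oddCore H) := dihTwo_mod_core hA.min hA.invol hv hne hc hF.tH hF.vH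
  have h2 : (2 : F) ≠ 0 := CfsgLib.Perm.Dickson.two_ne_zero_of_odd (F := F) (by rwa [Nat.card_eq_fintype_card])
  set π := QuotientGroup.mk' (Cfsg.oddCore H)
  refine ⟨⟨x, hxH⟩, (QuotientGroup.eq_one_iff _).1 ?_, rfl⟩
  show π ⟨x, hxH⟩ = 1
  have hD := le_diagPart M e (hF.image_mem hA hv hne hc ho h5 hC e hq hq2 hx hxH)
  have hto := orderOf_mk_two hF.tH hA.invol
  have hvo := orderOf_mk_two hF.vH hv
  have hctv : Commute (π ⟨t, hF.tH⟩) (π ⟨v, hF.vH⟩) :=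
    (show Commute (⟨t, hF.tH⟩ : H) ⟨v, hF.vH⟩ from Subtype.ext hc.eq).map π
  have hntv : π ⟨t, hF.tH⟩ ≠ π ⟨v, hF.vH⟩ := fun h => hne (congrArg Subtype.val
    (invol_lift_unique (odd_oddCore H) (u := (⟨t, hF.tH⟩ : H)) (v := ⟨v, hF.vH⟩)
      (by rw [Subgroup.orderOf_mk, hA.invol]) (by rw [Subgroup.orderOf_mk, hv])
      (fun k hk => Subtype.ext (mem_centralizer_singleton_iff.1 (hF.ocN_le ⟨k, hk, rfl⟩)).symm) h))
  have hodd : Odd (orderOf (π ⟨x, hxH⟩)) := orderOf_mk_odd hxH (orderOf_odd hq2 (isPGroup_coreAt q t) hx)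
  rcases diag_cent_four M e hX hC h2 hto hvo hntv hctv hD
    ((show Commute (⟨x, hxH⟩ : H) ⟨t, hF.tH⟩ from Subtype.ext (commute_coreAt hx).eq).map π)
    ((show Commute (⟨x, hxH⟩ : H) ⟨v, hF.vH⟩ from Subtype.ext hxv.eq).map π) with h | h | h | h
  · exact h
  all_goals exfalso; rw [h] at hodd
  · exact absurd (hto ▸ hodd) (by decide)
  · exact absurd (hvo ▸ hodd) (by decide)
  · exact absurd (invol_mul_of_commute hto hvo hntv hctv ▸ hodd) (by decide)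

end Fused

end CfsgLib.GW.CaseA
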