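import Cfsg.Agent.Lib.GW.CaseA.XLayer
import Cfsg.Agent.Lib.GW.AltSevenCent
import Cfsg.Agent.Lib.Invol.AltEightSubgroups

/-!
# `A7`, the four types and tori in the first case
-/

set_option autoImplicit false
set_option linter.style.haveILetI false
set_option linter.unusedSectionVars false

namespace CfsgLib.GW.CaseA

open Matrix CfsgLib.Invol CfsgLib.AutPSL CfsgLib.GW

universe u

theorem cent_altInvol_table : ∀ a : Equiv.Perm {i : Fin 7 // i.val < 4}, ∀ b : Equiv.Perm {i : Fin 7 // ¬ i.val < 4},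
    Equiv.Perm.sign (Equiv.Perm.subtypeCongr a b) = 1 →
    Equiv.Perm.subtypeCongr a b * (Equiv.swap 0 1 * Equiv.swap 2 3) =
      (Equiv.swap 0 1 * Equiv.swap 2 3) * Equiv.Perm.subtypeCongr a b →
    Equiv.Perm.subtypeCongr a b ^ 12 = 1 ∧ (Equiv.Perm.subtypeCongr a b ^ 3 = 1 →
      Equiv.Perm.subtypeCongr a b = 1 ∨ Equiv.Perm.subtypeCongr a b = Equiv.swap 4 5 * Equiv.swap 5 6 ∨
        Equiv.Perm.subtypeCongr a b = (Equiv.swap 4 5 * Equiv.swap 5 6) ^ 2) := by decide +kernel

/-- the odd elements centralising the standard involution -/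
theorem odd_cent_altInvol {x : alternatingGroup (Fin 7)} (hx : Commute x altInvol) (ho : Odd (orderOf x)) :
    (x : Equiv.Perm (Fin 7)) = 1 ∨ (x : Equiv.Perm (Fin 7)) = Equiv.swap 4 5 * Equiv.swap 5 6 ∨
      (x : Equiv.Perm (Fin 7)) = (Equiv.swap 4 5 * Equiv.swap 5 6) ^ 2 := by
  have hc : (x : Equiv.Perm (Fin 7)) * (Equiv.swap 0 1 * Equiv.swap 2 3) =
      (Equiv.swap 0 1 * Equiv.swap 2 3) * (x : Equiv.Perm (Fin 7)) := congrArg Subtype.val hx.eq
  set s : Equiv.Perm (Fin 7) := (x : Equiv.Perm (Fin 7)) with hs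
  set t : Equiv.Perm (Fin 7) := Equiv.swap 0 1 * Equiv.swap 2 3
  have hmov : ∀ i : Fin 7, i.val < 4 ↔ t i ≠ i := by decide +kernel
  have hpres : ∀ i : Fin 7, (s i).val < 4 ↔ i.val < 4 := fun i => by
    have h := congrArg (fun p : Equiv.Perm (Fin 7) => p i) hc
    simp only [Equiv.Perm.mul_apply] at h
    rw [hmov, hmov, ← h]
    exact s.injective.ne_iff
  have hpres' : ∀ i : Fin 7, ¬ (s i).val < 4 ↔ ¬ i.val < 4 := fun i => not_congr (hpres i)
  have hsplit : s = Equiv.Perm.subtypeCongr (s.subtypePerm (p := fun i => i.val < 4) hpres) (s.subtypePerm (p := fun i => ¬ i.val < 4) hpres') := by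
    ext i
    by_cases hi : i.val < 4
    · rw [Equiv.Perm.subtypeCongr.apply, dif_pos hi]; rfl
    · rw [Equiv.Perm.subtypeCongr.apply, dif_neg hi]; rfl
  obtain ⟨h12, h3⟩ := cent_altInvol_table (s.subtypePerm (p := fun i => i.val < 4) hpres) (s.subtypePerm (p := fun i => ¬ i.val < 4) hpres')
    (hsplit ▸ Equiv.Perm.mem_alternatingGroup.1 x.2) (hsplit ▸ hc)
  rw [← hsplit] at h12 h3
  refine h3 (orderOf_dvd_iff_pow_eq_one.1 ?_)
  refine Nat.Coprime.dvd_of_dvd_mul_right (k := orderOf s) (n := 4) ?_ (orderOf_dvd_of_pow_eq_one h12)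
  rw [hs, Subgroup.orderOf_coe, show 4 = 2 ^ 2 from rfl]
  exact Nat.Coprime.pow_right 2 (Nat.coprime_two_right.2 ho)

/-- centralisers of nontrivial odd elements of `A7` are solvable -/
theorem alt_seven_cent_solvable {x : alternatingGroup (Fin 7)} (hx1 : x ≠ 1) (ho : Odd (orderOf x)) :
    Group.IsSolvable (Subgroup.centralizer ({x} : Set (alternatingGroup (Fin 7)))) := by
  classical
  refine CfsgLib.Invol.AltEightSubgroups.solvable_of_card_lt_sixty _ rfl ?_
  set s : Equiv.Perm (Fin 7) := (x : Equiv.Perm (Fin 7)) with hs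
  set C := Subgroup.centralizer ({s} : Set (Equiv.Perm (Fin 7)))
  set D := (Subgroup.centralizer ({x} : Set (alternatingGroup (Fin 7)))).map (alternatingGroup (Fin 7)).subtype
  have hDC : D ≤ C := by
    rintro _ ⟨y, hy, rfl⟩
    exact Subgroup.mem_centralizer_singleton_iff.2 (congrArg Subtype.val (Subgroup.mem_centralizer_singleton_iff.1 hy))
  have hcard : Nat.card (Subgroup.centralizer ({x} : Set (alternatingGroup (Fin 7)))) = Nat.card D :=
    Nat.card_congr (Subgroup.equivMapOfInjective _ _ (alternatingGroup (Fin 7)).subtype_injective).toEquiv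
  have hformula := Equiv.Perm.nat_card_centralizer s
  rw [Fintype.card_fin] at hformula
  have hle := Equiv.Perm.sum_cycleType s
  have h7 := s.support.card_le_univ
  rw [Fintype.card_fin] at h7
  have hpart : ∀ n ∈ s.cycleType, 3 ≤ n ∧ Odd n := fun n hn => by
    have h2 := Equiv.Perm.two_le_of_mem_cycleType hn
    have hodd : Odd n := ho.of_dvd_nat (by
      rw [← Subgroup.orderOf_coe, ← Equiv.Perm.lcm_cycleType]
      exact Multiset.dvd_lcm hn)
    refine ⟨?_, hodd⟩
    obtain ⟨j, hj⟩ := hodd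
    omega
  have hne : s.cycleType ≠ 0 := fun h => hx1 (Subtype.ext (Equiv.Perm.cycleType_eq_zero.1 h))
  have hcases : s.cycleType = {3} ∨ s.cycleType = {5} ∨ s.cycleType = {7} ∨ s.cycleType = {3, 3} := by
    obtain ⟨a, ha⟩ := Multiset.exists_mem_of_ne_zero hne
    obtain ⟨m, hm⟩ := Multiset.exists_cons_of_mem ha
    obtain ⟨ha3, ja, hja⟩ := hpart a ha
    rcases Multiset.empty_or_exists_mem m with rfl | ⟨b, hb⟩
    · rw [hm] at hle
      simp at hle
      have : a = 3 ∨ a = 5 ∨ a = 7 := by omega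
      rcases this with rfl | rfl | rfl
      · exact Or.inl hm
      · exact Or.inr (Or.inl hm)
      · exact Or.inr (Or.inr (Or.inl hm))
    obtain ⟨m', hm'⟩ := Multiset.exists_cons_of_mem hb
    have hb' : b ∈ s.cycleType := by rw [hm]; exact Multiset.mem_cons_of_mem hb
    obtain ⟨hb3, jb, hjb⟩ := hpart b hb'
    rw [hm, hm', Multiset.sum_cons, Multiset.sum_cons] at hle
    rcases Multiset.empty_or_exists_mem m' with rfl | ⟨c, hc⟩
    · simp at hle
      have : a = 3 ∧ b = 3 := by omega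
      obtain ⟨rfl, rfl⟩ := this
      exact Or.inr (Or.inr (Or.inr (by rw [hm, hm']; rfl)))
    · have := (hpart c (by rw [hm, hm']; exact Multiset.mem_cons_of_mem (Multiset.mem_cons_of_mem hc))).1
      have := Multiset.le_sum_of_mem hc
      omega
  rw [hcard]
  rcases hcases with h | h | h | h
  · -- an odd permutation centralises a three-cycle
    have h72 : Nat.card C = 72 := by
      rw [hformula, h]
      norm_num [Nat.factorial]
    obtain ⟨i, hi, j, hj, hij⟩ : ∃ i ∈ s.supportᶜ, ∃ j ∈ s.supportᶜ, i ≠ j := by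
      refine Finset.one_lt_card.1 ?_
      rw [Finset.card_compl, Fintype.card_fin, ← Equiv.Perm.sum_cycleType, h]
      decide
    rw [Finset.mem_compl, Equiv.Perm.notMem_support] at hi hj
    have hw : Equiv.swap i j ∈ C := by
      refine Subgroup.mem_centralizer_singleton_iff.2 (Equiv.Perm.Disjoint.commute fun k => ?_).eq
      rcases eq_or_ne k i with rfl | hki
      · exact Or.inr hi
      rcases eq_or_ne k j with rfl | hkj
      · exact Or.inr hj
      · exact Or.inl (Equiv.swap_apply_of_ne_of_ne hki hkj)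
    have hwD : Equiv.swap i j ∉ D := by
      rintro ⟨y, -, hy⟩
      have h1 := Equiv.Perm.mem_alternatingGroup.1 y.2
      rw [show (y : Equiv.Perm (Fin 7)) = Equiv.swap i j from hy, Equiv.Perm.sign_swap hij] at h1
      exact absurd h1 (by decide)
    have hidx : (D.subgroupOf C).index ≠ 1 := fun h1 =>
      hwD (Subgroup.subgroupOf_eq_top.1 (Subgroup.index_eq_one.1 h1) hw)
    have h0 : (D.subgroupOf C).index ≠ 0 := Subgroup.FiniteIndex.index_ne_zero
    have hmul := (D.subgroupOf C).card_mul_index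
    rw [Nat.card_congr (Subgroup.subgroupOfEquivOfLe hDC).toEquiv, h72] at hmul
    have h2 : 2 ≤ (D.subgroupOf C).index := by omega
    nlinarith
  all_goals
    refine lt_of_le_of_lt (Subgroup.card_le_of_le hDC) ?_
    rw [hformula, h]
    norm_num [Nat.factorial]

/-- **(6a) the torus of an involution of `A7`** -/
theorem alt_seven_torus {t : alternatingGroup (Fin 7)} (ht : orderOf t = 2) :
    (∀ x y, Commute x t → Commute y t → Odd (orderOf x) → Odd (orderOf y) → Commute x y) ∧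
    (∀ x : alternatingGroup (Fin 7), x ≠ 1 → Odd (orderOf x) →
      Group.IsSolvable (Subgroup.centralizer ({x} : Set (alternatingGroup (Fin 7))))) ∧
    ∃ u, orderOf u = 2 ∧ u ≠ t ∧ Commute u t ∧ ∀ x, Commute x t → Odd (orderOf x) → Commute x u := by
  classical
  obtain ⟨φ, hφ⟩ := exists_aut_altInvol ht
  have hmap : ∀ x, Commute x t → Odd (orderOf x) → Commute (φ x) altInvol ∧ Odd (orderOf (φ x)) := fun x hx ho =>
    ⟨hφ ▸ hx.map φ.toMonoidHom, by rwa [MulEquiv.orderOf_eq]⟩
  have hback : ∀ x y, Commute (φ x) (φ y) → Commute x y := fun x y h => φ.injective (by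
    rw [map_mul, map_mul]; exact h.eq)
  refine ⟨fun x y hx hy hox hoy => hback x y ?_, fun x => alt_seven_cent_solvable, ?_⟩
  · obtain ⟨hx1, hx2⟩ := hmap x hx hox
    obtain ⟨hy1, hy2⟩ := hmap y hy hoy
    refine Subtype.ext ?_
    rw [Subgroup.coe_mul, Subgroup.coe_mul]
    rcases odd_cent_altInvol hx1 hx2 with e1 | e1 | e1 <;> rcases odd_cent_altInvol hy1 hy2 with e2 | e2 | e2 <;>
      rw [e1, e2] <;> decide +kernel
  · set u₀ : alternatingGroup (Fin 7) := ⟨Equiv.swap 0 2 * Equiv.swap 1 3, by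
      rw [Equiv.Perm.mem_alternatingGroup, map_mul, Equiv.Perm.sign_swap (by decide), Equiv.Perm.sign_swap (by decide)]
      rfl⟩ with hu₀
    refine ⟨φ.symm u₀, ?_, ?_, hback _ _ ?_, fun x hx ho => hback _ _ ?_⟩
    · rw [MulEquiv.orderOf_eq]
      exact CfsgLib.Invol.invol_iff.2 ⟨by decide +kernel, by decide +kernel⟩
    · intro h
      have h1 := congrArg φ h
      rw [MulEquiv.apply_symm_apply, hφ] at h1
      exact absurd h1 (by decide +kernel)
    · rw [MulEquiv.apply_symm_apply, hφ]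
      show u₀ * altInvol = altInvol * u₀
      decide +kernel
    · rw [MulEquiv.apply_symm_apply]
      obtain ⟨hx1, hx2⟩ := hmap x hx ho
      refine Subtype.ext ?_
      rw [Subgroup.coe_mul, Subgroup.coe_mul]
      rcases odd_cent_altInvol hx1 hx2 with e1 | e1 | e1 <;> rw [e1] <;> decide +kernel

/-- **(6b) centralisers of involutions in the four types** -/
theorem four_type_cent_invol {X : Type u} [Group X] [Finite X] (hX : IsFourType X) {v r : X} (hv : orderOf v = 2)
    (hr : Odd (orderOf r)) (hrv : Commute r v) : r = 1 := by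
  classical
  obtain ⟨V, hVn, hV4, hVC, hcard⟩ := hX
  haveI := hV4
  haveI : Fintype V := Fintype.ofFinite _
  haveI : Nontrivial V := Finite.one_lt_card_iff_nontrivial.1 (by rw [hV4.card_four]; norm_num)
  have hVV : ∀ x ∈ V, x * x = 1 := fun x hx => congrArg Subtype.val (IsKleinFour.mul_self (⟨x, hx⟩ : V))
  have hVc : ∀ x ∈ V, ∀ y ∈ V, Commute x y := fun x hx y hy => by
    have h : x ∈ Subgroup.centralizer (V : Set X) := hVC.symm ▸ hx
    exact (Subgroup.mem_centralizer_iff.1 h y hy).symm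
  have hmemV : ∀ {a b x : X}, a ∈ V → b ∈ V → a ≠ 1 → b ≠ 1 → a ≠ b → x ∈ V → x = 1 ∨ x = a ∨ x = b ∨ x = a * b := by
    intro a b x ha hb ha1 hb1 hab hx
    have h : ({(1 : V), ⟨a, ha⟩, ⟨b, hb⟩, ⟨a, ha⟩ * ⟨b, hb⟩} : Finset V) = Finset.univ := by
      refine Finset.eq_univ_of_card _ ?_
      rw [← Nat.card_eq_fintype_card, hV4.card_four]
      have e1 : (⟨a, ha⟩ : V) ≠ 1 := fun e => ha1 (congrArg Subtype.val e)
      have e2 : (⟨b, hb⟩ : V) ≠ 1 := fun e => hb1 (congrArg Subtype.val e)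
      have e3 : (⟨a, ha⟩ : V) ≠ ⟨b, hb⟩ := fun e => hab (congrArg Subtype.val e)
      have e4 : (⟨a, ha⟩ : V) * ⟨b, hb⟩ ≠ 1 := fun e => hab (by
        have := congrArg Subtype.val (eq_inv_of_mul_eq_one_left e)
        rw [Subgroup.coe_inv, inv_eq_of_mul_eq_one_right (hVV b hb)] at this
        exact this)
      have e5 : (⟨a, ha⟩ : V) * ⟨b, hb⟩ ≠ ⟨a, ha⟩ := fun e => e2 (mul_eq_left.1 e)
      have e6 : (⟨a, ha⟩ : V) * ⟨b, hb⟩ ≠ ⟨b, hb⟩ := fun e => e1 (mul_eq_right.1 e)
      rw [Finset.card_insert_of_notMem, Finset.card_insert_of_notMem, Finset.card_pair e6.symm] <;>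
        simp only [Finset.mem_insert, Finset.mem_singleton, not_or]
      · exact ⟨e3, e5.symm⟩
      · exact ⟨e1.symm, e2.symm, e4.symm⟩
    have hm : (⟨x, hx⟩ : V) ∈ ({(1 : V), ⟨a, ha⟩, ⟨b, hb⟩, ⟨a, ha⟩ * ⟨b, hb⟩} : Finset V) := by rw [h]; exact Finset.mem_univ _
    simp only [Finset.mem_insert, Finset.mem_singleton, Subtype.ext_iff, Subgroup.coe_mul, Subgroup.coe_one] at hm
    exact hm
  -- an element fixed by `r` and not trivial would be centralised with all of `V`
  have hfix : ∀ a ∈ V, a ≠ 1 → Commute r a → r = 1 := by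
    intro a ha ha1 hra
    have hrV : r ∈ V := hVC ▸ Subgroup.mem_centralizer_iff.2 fun y hy => by
      by_cases hy1 : y = 1
      · rw [hy1, one_mul, mul_one]
      by_cases hya : a = y
      · exact hya ▸ hra.symm.eq
      have hcy : r * y * r⁻¹ ∈ V := hVn.conj_mem y hy r
      rcases hmemV ha hy ha1 hy1 hya hcy with e | e | e | e
      · exact absurd (mul_inv_eq_one.1 e) (fun h => hy1 (mul_eq_left.1 h))
      · exact absurd (mul_left_cancel ((mul_inv_eq_iff_eq_mul.1 e).trans hra.symm.eq)) (Ne.symm hya)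
      · exact (mul_inv_eq_iff_eq_mul.1 e).symm
      · exfalso
        have e2 : r ^ 2 * y * (r ^ 2)⁻¹ = y := by
          calc r ^ 2 * y * (r ^ 2)⁻¹ = r * (r * y * r⁻¹) * r⁻¹ := by rw [sq]; group
            _ = (r * a * r⁻¹) * (r * y * r⁻¹) := by conv_lhs => rw [e]
                                                    group
            _ = y := by
              rw [e, hra.eq, mul_inv_cancel_right, ← mul_assoc, hVV a ha, one_mul]
        have hc2 : Commute (r ^ 2) y := mul_inv_eq_iff_eq_mul.1 e2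
        obtain ⟨j, hj⟩ := hr
        have hcr := hc2.pow_left (j + 1)
        rw [← pow_mul, show 2 * (j + 1) = (2 * j + 1) + 1 by ring, pow_succ, ← hj, pow_orderOf_eq_one, one_mul] at hcr
        rw [hcr.eq, mul_inv_cancel_right] at e
        exact ha1 (mul_eq_right.1 e.symm)
    obtain ⟨j, hj⟩ := hr
    have h := pow_orderOf_eq_one r
    rwa [hj, pow_succ, pow_mul, sq, hVV r hrV, one_pow, one_mul] at h
  -- `v` fixes some nontrivial element `a`
  have hvv : v * v = 1 := by rw [← sq, ← hv, pow_orderOf_eq_one]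
  have hvi : v⁻¹ = v := inv_eq_of_mul_eq_one_right hvv
  obtain ⟨⟨a₀, ha₀⟩, ha₀1⟩ := exists_ne (1 : V)
  obtain ⟨a, ha, ha1, hva⟩ : ∃ a ∈ V, a ≠ 1 ∧ v * a * v⁻¹ = a := by
    by_cases h : v * a₀ * v⁻¹ = a₀
    · exact ⟨a₀, ha₀, fun e => ha₀1 (Subtype.ext e), h⟩
    · refine ⟨a₀ * (v * a₀ * v⁻¹), mul_mem ha₀ (hVn.conj_mem a₀ ha₀ v), fun e => h ?_, ?_⟩
      · rw [← inv_eq_of_mul_eq_one_right e, inv_eq_of_mul_eq_one_right (hVV a₀ ha₀)]
      · calc v * (a₀ * (v * a₀ * v⁻¹)) * v⁻¹ = (v * a₀ * v⁻¹) * ((v * v) * a₀ * (v * v)⁻¹) := by group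
          _ = a₀ * (v * a₀ * v⁻¹) := by
            rw [hvv, one_mul, inv_one, mul_one]
            exact (hVc _ (hVn.conj_mem a₀ ha₀ v) a₀ ha₀).eq
  by_contra hr1
  set b := r * a * r⁻¹
  have hb : b ∈ V := hVn.conj_mem a ha r
  have hba : a ≠ b := fun e => hr1 (hfix a ha ha1 (mul_inv_eq_iff_eq_mul.1 e.symm))
  have hb1 : b ≠ 1 := fun e => ha1 (by
    rwa [mul_inv_eq_one, mul_eq_left] at e)
  have hva' : Commute v a := mul_inv_eq_iff_eq_mul.1 hva
  have hvb : Commute v b := (hrv.symm.mul_right hva').mul_right hrv.symm.inv_right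
  have hvV : v ∈ V := hVC ▸ Subgroup.mem_centralizer_iff.2 fun y hy => by
    rcases hmemV ha hb ha1 hb1 hba hy with rfl | rfl | rfl | rfl
    · rw [one_mul, mul_one]
    · exact hva'.symm.eq
    · exact hvb.symm.eq
    · exact (hva'.mul_right hvb).symm.eq
  exact hr1 (hfix v hvV (invol_ne_one hv) hrv)

variable {X : Type u} [Group X] [Finite X] {F : Type*} [Field F] [Fintype F]
  (M : Subgroup X) [M.Normal] (e : M ≃* Matrix.ProjectiveSpecialLinearGroup (Fin 2) F)

include e in
/-- **(6c) the primes of the torus of an involution** -/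
theorem psl_torus_prime (hX : DihTwo X) (hC : Subgroup.centralizer (M : Set X) = ⊥) (ho : Odd (Fintype.card F))
    (h5 : 5 ≤ Fintype.card F) {a c : X} (ha : orderOf a = 2) (hc : c ∈ diagPart M e) (hc1 : c ≠ 1)
    (hca : Commute c a) {p k : ℕ} [Fact p.Prime] (hp : p ≠ 2) (hck : orderOf c = p ^ k) :
    (a ∈ M → p ∣ invCard (Fintype.card F)) ∧ (a ∉ M → p ∣ outerCard (Fintype.card F) / 2) := by
  have h2 : (2 : F) ≠ 0 := CfsgLib.Perm.Dickson.two_ne_zero_of_odd (F := F) (by rwa [Nat.card_eq_fintype_card])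
  have hpp : p.Prime := Fact.out
  have hco : Odd (orderOf c) := hck ▸ (hpp.odd_of_ne_two hp).pow
  have hpk : p ∣ orderOf c := by
    rw [hck]
    refine dvd_pow_self p fun h => hc1 (orderOf_eq_one_iff.1 ?_)
    rw [hck, h, pow_zero]
  refine ⟨fun haM => hpk.trans (orderOf_dvd_invCard M e ho ha haM (mem_of_odd M e hC h2 hc hco) hca), fun haM => ?_⟩
  obtain ⟨T, -, -, hTcard, -, hTmem, -⟩ := outer_torus M e hX hC h2 h5 ha haM
  exact hTcard ▸ hpk.trans (Subgroup.orderOf_dvd_natCard T (hTmem c hc hco hca))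

include e in
/-- **(6d) the torus of an involution of `M` is abelian** -/
theorem psl_torus_comm (hX : DihTwo X) (hC : Subgroup.centralizer (M : Set X) = ⊥) (h2 : (2 : F) ≠ 0) {t x y : X}
    (ht : orderOf t = 2) (hx : x ∈ M) (hy : y ∈ M) (hxo : Odd (orderOf x)) (hyo : Odd (orderOf y))
    (hxt : Commute x t) (hyt : Commute y t) : Commute x y :=
  commute_of_cent_invol M e hX hC h2 ht (le_diagPart M e hx) (le_diagPart M e hy) hxo hyo hxt hyt

end CfsgLib.GW.CaseA
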