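import Cfsg.Agent.Lib.GW.CaseA.Local
import Cfsg.Agent.Lib.GW.CaseA.XLayerSeven
import Cfsg.Agent.Lib.GW.CaseCOne
import Cfsg.Agent.Lib.GW.TypeCInvariant
import Cfsg.Agent.Lib.GW.CaseC

/-!
# Case A, an involution acting partially on `O_p(C(t))`: the normaliser of its fixed points

`Y = C_T(v)` with `T = O_p(C(t))`, `Y ≠ 1, T`.  The normaliser of `Y` has the four group `⟨t, v⟩` fused and
its odd core is centralised by it; the same holds for every maximal subgroup over it.
-/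

set_option autoImplicit false
set_option linter.style.haveILetI false
set_option linter.unusedSectionVars false

open Subgroup
open CfsgLib.Coprime.BenderPair CfsgLib.Coprime.BenderUniqueness

namespace CfsgLib.GW.CaseA

universe u

variable {G : Type u} [Group G] [Finite G]

/-- `v` acts on `O_p(C(t))` neither trivially nor without fixed points -/
structure Partial (t v : G) (p : ℕ) : Prop where
  hA : CaseA t
  prime : p.Prime
  odd : p ≠ 2
  hv : orderOf v = 2
  hne : t ≠ v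
  hc : Commute t v
  moved : ∃ x ∈ coreAt p t, ¬ Commute x v
  fixed : ∃ x ∈ coreAt p t, x ≠ 1 ∧ Commute x v

/-- the fixed points `Y` of `v` on `O_p(C(t))` -/
noncomputable def fixAt (p : ℕ) (t v : G) : Subgroup G := coreAt p t ⊓ centralizer ({v} : Set G)

theorem mem_fixAt {p : ℕ} {t v x : G} : x ∈ fixAt p t v ↔ x ∈ coreAt p t ∧ Commute x v := by
  rw [fixAt, mem_inf, mem_centralizer_singleton_iff]
  rfl

namespace Partial

variable {t v : G} {p : ℕ} (hP : Partial t v p)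
include hP

theorem commute_tv : Commute (t * v) t := ((Commute.refl t).mul_left hP.hc.symm)

theorem fixAt_mul : fixAt p t (t * v) = fixAt p t v := by
  ext x
  rw [mem_fixAt, mem_fixAt]
  refine and_congr_right fun hx => ⟨fun h => ?_, fun h => (commute_coreAt hx).mul_right h⟩
  have h1 : Commute x (t⁻¹ * (t * v)) := ((commute_coreAt hx).inv_right).mul_right h
  rwa [inv_mul_cancel_left] at h1

/-- the symmetry `v ↦ tv` -/
theorem swap : Partial t (t * v) p where
  hA := hP.hA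
  prime := hP.prime
  odd := hP.odd
  hv := CaseB.invol_mul hP.hA.invol hP.hv hP.hne hP.hc
  hne := fun e => Invol.invol_ne_one hP.hv (mul_eq_left.1 e.symm)
  hc := (Commute.refl t).mul_right hP.hc
  moved := by
    obtain ⟨x, hx, h⟩ := hP.moved
    exact ⟨x, hx, fun h' => h (mem_fixAt.1 (hP.fixAt_mul ▸ mem_fixAt.2 ⟨hx, h'⟩)).2⟩
  fixed := by
    obtain ⟨x, hx, h1, h⟩ := hP.fixed
    exact ⟨x, hx, h1, (commute_coreAt hx).mul_right h⟩

theorem fixAt_ne_bot : fixAt p t v ≠ ⊥ := by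
  obtain ⟨x, hx, h1, h⟩ := hP.fixed
  exact fun e => h1 (mem_bot.1 (e ▸ mem_fixAt.2 ⟨hx, h⟩))

theorem four_le_normalizer {x : G} (hxt : Commute x t) (hxv : Commute x v) :
    x ∈ normalizer (fixAt p t v : Set G) :=
  CfsgLib.Coprime.inf_le_normalizer (A := zpowers x) (zpowers_le.2 (mem_normalizer_coreAt hxt))
    (zpowers_le.2 (le_normalizer (mem_centralizer_singleton_iff.2 hxv.eq))) (mem_zpowers x)

theorem loc_normalizer : Loc t p (fixAt p t v) (normalizer (fixAt p t v : Set G)) where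
  mem := hP.four_le_normalizer (Commute.refl t) hP.hc
  ne_bot := hP.fixAt_ne_bot
  le_core := inf_le_left
  le := le_normalizer
  cent := inf_le_right.trans (centralizer_le_normalizer _)
  others := fun q hq _ hqp x hx => centralizer_le_normalizer _ (mem_centralizer_iff.2 fun y hy => by
    haveI := Fact.mk hq
    haveI := Fact.mk hP.prime
    exact (commute_opc hqp (mem_fixAt.1 hy).1 hx).eq)

theorem loc_above {H : Subgroup G} (hH : normalizer (fixAt p t v : Set G) ≤ H) : Loc t p (fixAt p t v) H where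
  mem := hH hP.loc_normalizer.mem
  ne_bot := hP.fixAt_ne_bot
  le_core := inf_le_left
  le := le_normalizer.trans hH
  cent := hP.loc_normalizer.cent.trans hH
  others := fun q hq hq2 hqp => (hP.loc_normalizer.others q hq hq2 hqp).trans hH

theorem normalizer_ne_top : normalizer (fixAt p t v : Set G) ≠ ⊤ := by
  refine CaseB.normalizer_ne_top hP.hA.min hP.fixAt_ne_bot fun e => ?_
  exact hP.hA.min.centralizer_ne_top hP.hA.invol (top_le_iff.1 (e ▸ (inf_le_left.trans (coreAt_le p t))))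

/-- a prime outside `π(F(C(t)))` has no fixed points of `v` in `O_s(N(Y))` -/
theorem fixed_v_eq_one {s : ℕ} [Fact s.Prime] (hs : s ≠ 2) (hs0 : coreAt s t = ⊥) {x : G}
    (hx : x ∈ opc s (normalizer (fixAt p t v : Set G))) (hxv : Commute x v) : x = 1 := by
  haveI := Fact.mk hP.prime
  have hA := hP.hA
  set H := normalizer (fixAt p t v : Set G) with hH
  have hLH : Loc t p (fixAt p t v) H := hP.loc_normalizer
  obtain ⟨e, he⟩ := hA.min.exists_cyc hA.invol hP.hv hP.hne hP.hc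
  have hsp : s ≠ p := fun e' => hLH.core_ne_bot (e' ▸ hs0)
  have hxH : x ∈ H := map_subtype_le _ hx
  -- `t` inverts `x`
  have hinv : t * x * t⁻¹ = x⁻¹ := eq_inv_of_mul_eq_one_left (mem_bot.1 (CaseB.inverts_mod
    (CaseB.odd_card_of_pGroup hs (isPGroup_opc s H)) hA.invol (le_normalizer_opc s H hLH.mem)
    (fun z hz hzt => mem_bot.2 (hLH.fixed_eq_one hA hP.odd hs hs0 hz hzt)) hx
    (by rw [normalizer_eq_top]; exact mem_top x)))
  have hcomm : ∀ {q : ℕ}, q.Prime → q ≠ s → ∀ {y : G}, y ∈ coreAt q v → y ∈ H → Commute y x := fun {q} hq hqs {y} hy hyH => by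
    haveI := Fact.mk hq
    exact CaseB.commute_of_disjoint (IsPGroup.disjoint_of_ne q s hqs _ _ (isPGroup_coreAt q v) (isPGroup_opc s H))
      hy hx (le_normalizer_opc s H hyH) (mem_normalizer_coreAt hxv)
  have hall : ∀ q : ℕ, q.Prime → q ≠ 2 → ∀ y ∈ coreAt q v, Commute y x := by
    intro q hq hq2 y hy
    haveI := Fact.mk hq
    by_cases hqs : q = s
    · subst hqs
      rw [← he.1, coreAt_conj, hs0, Subgroup.map_bot, mem_bot] at hy
      rw [hy]
      exact Commute.one_left x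
    rcases eq_or_ne q p with rfl | hqp
    · refine commute_of_pq (P := fixAt q t v) ((isPGroup_coreAt q t).to_le inf_le_left) (isPGroup_coreAt q v)
        (coprime_of_pGroup (fun e' => hqs e'.symm) (isPGroup_opc s H) hx) (fun z hz => ?_)
        (fun z hz => mem_normalizer_coreAt (mem_fixAt.1 hz).2) (mem_normalizer_coreAt hxv)
        (fun u hu h => hcomm hq hqs hu (centralizer_le_normalizer _
          (mem_centralizer_iff.2 fun z hz => (h z hz).eq.symm))) y hy
      exact CaseB.commute_of_disjoint (IsPGroup.disjoint_of_ne q s hqs _ _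
        ((isPGroup_coreAt q t).to_le inf_le_left) (isPGroup_opc s H)) hz hx
        (le_normalizer_opc s H (le_normalizer hz)) hxH
    · exact CaseB.invert_centralizes (isPGroup_coreAt q v) hq2 hA.invol (mem_normalizer_coreAt hP.hc)
        (mem_normalizer_coreAt hxv) (orderOf_odd hs (isPGroup_opc s H) hx)
        (coprime_of_pGroup (Ne.symm hqs) (isPGroup_opc s H) hx) hinv
        (fun z hz hzt => hcomm hq hqs hz (hP.four_le_normalizer hzt (commute_coreAt hz))) y hy
  have hx' : Commute (e⁻¹ * x * e) t := by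
    show e⁻¹ * x * e * t = t * (e⁻¹ * x * e)
    calc e⁻¹ * x * e * t = e⁻¹ * (x * (e * t * e⁻¹)) * e := by group
      _ = e⁻¹ * ((e * t * e⁻¹) * x) * e := by rw [he.1, hxv.eq]
      _ = t * (e⁻¹ * x * e) := by group
  have hord : orderOf (e⁻¹ * x * e) = orderOf x := by
    rw [show e⁻¹ * x * e = MulAut.conj e⁻¹ x by simp [MulAut.conj_apply], MulEquiv.orderOf_eq]
  have h1 := mem_coreAt_of_commute (s := s) (mem_ocore hA.min hA.invol hx' (hord ▸ orderOf_odd hs (isPGroup_opc s H) hx))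
    (by
      obtain ⟨k, hk⟩ := IsPGroup.iff_orderOf.1 (isPGroup_opc s H) ⟨x, hx⟩
      exact ⟨k, by rw [hord, ← hk, Subgroup.orderOf_mk]⟩)
    (fun q hq hq2 y hy => by
      have hy' : e * y * e⁻¹ ∈ coreAt q v := by
        rw [← he.1, mem_coreAt_conj]
        simpa [mul_assoc] using hy
      have h := hall q hq hq2 _ hy'
      show y * (e⁻¹ * x * e) = e⁻¹ * x * e * y
      calc y * (e⁻¹ * x * e) = e⁻¹ * ((e * y * e⁻¹) * x) * e := by group
        _ = e⁻¹ * x * e * y := by rw [h.eq]; group)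
  rw [hs0, mem_bot] at h1
  calc x = e * (e⁻¹ * x * e) * e⁻¹ := by group
    _ = 1 := by rw [h1, mul_one, mul_inv_cancel]

/-- `t` centralises `O(N(Y))` -/
theorem ocN_normalizer_le :
    CaseB.ocN (normalizer (fixAt p t v : Set G)) ≤ centralizer ({t} : Set G) := by
  haveI := Fact.mk hP.prime
  have hA := hP.hA
  refine hP.loc_normalizer.commute_ocN hA hP.odd fun s hs hs2 hs0 => ?_
  haveI := Fact.mk hs
  have hvH : v ∈ normalizer (fixAt p t v : Set G) := hP.four_le_normalizer hP.hc.symm (Commute.refl v)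
  have hswap : ∀ x ∈ opc s (normalizer (fixAt p t v : Set G)), Commute x (t * v) → x = 1 := fun x hx hxv =>
    hP.swap.fixed_v_eq_one hs2 hs0 (by rwa [hP.fixAt_mul]) hxv
  exact le_bot_iff.1 (CaseB.le_of_four hA.invol hP.hv hP.hne hP.hc
    (CaseB.odd_card_of_pGroup hs2 (isPGroup_opc s _)) (le_normalizer_opc s _ hP.loc_normalizer.mem)
    (le_normalizer_opc s _ hvH)
    (fun x hx hxt => mem_bot.2 (hP.loc_normalizer.fixed_eq_one hA hP.odd hs2 hs0 hx hxt))
    (fun x hx hxv => mem_bot.2 (hP.fixed_v_eq_one hs2 hs0 hx hxv))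
    (fun x hx hxv => mem_bot.2 (hswap x hx hxv)))

/-- `t` moves an element of `C_{T_v}(Y)` -/
theorem exists_moved_at : ∃ x ∈ coreAt p v, (∀ y ∈ fixAt p t v, Commute x y) ∧ ¬ Commute x t := by
  haveI := Fact.mk hP.prime
  have hA := hP.hA
  by_contra! hall
  have h1 : ∀ x ∈ coreAt p v, Commute x t := commute_of_pq (P := fixAt p t v)
    ((isPGroup_coreAt p t).to_le inf_le_left) (isPGroup_coreAt p v) (orderOf_coprime_two hP.prime hP.odd hA.invol)
    (fun z hz => commute_coreAt (mem_fixAt.1 hz).1) (fun z hz => mem_normalizer_coreAt (mem_fixAt.1 hz).2)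
    (mem_normalizer_coreAt hP.hc) fun u hu h => hall u hu h
  obtain ⟨e, he⟩ := hA.min.exists_cyc hA.invol hP.hv hP.hne hP.hc
  obtain ⟨x, hx, hxv⟩ := hP.moved
  refine hxv ?_
  have h2 := h1 (e * x * e⁻¹) (by rw [← he.1, mem_coreAt_conj]; simpa [mul_assoc] using hx)
  have h3 : Commute x (e⁻¹ * t * e) := by
    show x * (e⁻¹ * t * e) = e⁻¹ * t * e * x
    calc x * (e⁻¹ * t * e) = e⁻¹ * ((e * x * e⁻¹) * t) * e := by group
      _ = e⁻¹ * t * e * x := by rw [h2.eq]; group
  rw [show e⁻¹ * t * e = t * v by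
    nth_rewrite 1 [← he.third hP.hv hP.hc]
    group] at h3
  have h4 : Commute x (t⁻¹ * (t * v)) := ((commute_coreAt hx).inv_right).mul_right h3
  rwa [inv_mul_cancel_left] at h4

end Partial

/-- elements of odd order of a subgroup of type 2 lie in its odd core -/
theorem mem_ocN_of_typeTwo {H : Subgroup G} (hH : IsTypeTwo H) {x : G} (hx : x ∈ H) (ho : Odd (orderOf x)) :
    x ∈ CaseB.ocN H := by
  obtain ⟨k, hk⟩ := hH
  refine ⟨⟨x, hx⟩, ?_, rfl⟩
  show _ ∈ Cfsg.oddCore H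
  rw [← QuotientGroup.eq_one_iff, ← QuotientGroup.mk'_apply]
  refine orderOf_eq_one_iff.1 (Nat.eq_one_of_dvd_coprimes (Nat.Coprime.pow_left k (Nat.coprime_two_left.2 ho)) ?_ ?_)
  · exact (_root_.orderOf_dvd_natCard _).trans (by rw [← Subgroup.index_eq_card, hk])
  · exact (orderOf_map_dvd _ _).trans (by rw [Subgroup.orderOf_mk])

/-- a subgroup with a four group has dihedral Sylow 2-subgroups, also modulo its odd core -/
theorem dihTwo_mod_core (hG : Min G) {H : Subgroup G} {t v : G} (ht : orderOf t = 2) (hv : orderOf v = 2)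
    (hne : t ≠ v) (hc : Commute t v) (htH : t ∈ H) (hvH : v ∈ H) : DihTwo (H ⧸ Cfsg.oddCore H) := by
  refine dihTwo_quotient ?_ _ (odd_oddCore H).not_two_dvd_nat
  rcases (hG.dihLE.subgroup H).cyclic_or_dihTwo with ⟨R, hR⟩ | h
  · exfalso
    exact no_four_of_cyclic_sylow (fun R' => (Sylow.equiv R' R).isCyclic.2 hR) (u := (⟨t, htH⟩ : H))
      (v := ⟨v, hvH⟩) (by rw [Subgroup.orderOf_mk, ht]) (by rw [Subgroup.orderOf_mk, hv])
      (fun e => hne (congrArg Subtype.val e)) (Subtype.ext hc.eq)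
  · exact h

/-- an involution centralising `O(H)` centralises what it centralises modulo `O(H)` -/
theorem commute_of_image {H : Subgroup G} {t : G} (ht : orderOf t = 2)
    (hle : CaseB.ocN H ≤ centralizer ({t} : Set G)) {x : G} (hxH : x ∈ H) (htH : t ∈ H)
    (h : Commute (QuotientGroup.mk' (Cfsg.oddCore H) ⟨x, hxH⟩) (QuotientGroup.mk' (Cfsg.oddCore H) ⟨t, htH⟩)) :
    Commute x t := by
  have hmem : (⟨x, hxH⟩ * ⟨t, htH⟩ * (⟨x, hxH⟩ : H)⁻¹ * (⟨t, htH⟩ : H)⁻¹ : H) ∈ Cfsg.oddCore H := by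
    rw [← QuotientGroup.eq_one_iff, ← QuotientGroup.mk'_apply, map_mul, map_mul, map_mul, map_inv, map_inv, h.eq,
      mul_inv_cancel_right, mul_inv_cancel]
  have hc : x * t * x⁻¹ * t⁻¹ ∈ CaseB.ocN H := ⟨_, hmem, rfl⟩
  exact CaseB.commute_of_cmt_eq_one (CaseB.eq_one_of_inv_fix (CaseB.cmt_inverted ht)
    (mem_centralizer_singleton_iff.1 (hle hc)).symm (CaseB.orderOf_odd_of_mem (CaseB.odd_ocN H) hc))

theorem orderOf_mk_odd {H : Subgroup G} {K : Subgroup H} [K.Normal] {x : G} (hxH : x ∈ H) (h : Odd (orderOf x)) :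
    Odd (orderOf (QuotientGroup.mk' K ⟨x, hxH⟩)) :=
  h.of_dvd_nat ((orderOf_map_dvd _ _).trans (by rw [Subgroup.orderOf_mk]))

theorem orderOf_mk_two {H : Subgroup G} {x : G} (hxH : x ∈ H) (h : orderOf x = 2) :
    orderOf (QuotientGroup.mk' (Cfsg.oddCore H) ⟨x, hxH⟩) = 2 :=
  orderOf_mk_invol (odd_oddCore H) (by rw [Subgroup.orderOf_mk, h])

/-- in type c, the simple normal subgroup together with its model -/
theorem typeC_cases {X : Type u} [Group X] [Finite X] (hX : TypeC X) :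
    IsFourType X ∨ ∃ M : Subgroup X, M.Normal ∧ IsSimpleGroup M ∧ centralizer (M : Set X) = ⊥ ∧
      IsPSLTwoOrA7 M :=
  hX.imp id fun ⟨M, h1, h2, _, _, h5, h6⟩ => ⟨M, h1, h2, h5, h6⟩

/-- the data of a subgroup of type c over `⟨t, v⟩` with `v` fused to `t` -/
structure Fused (t v : G) (H : Subgroup G) : Prop where
  tH : t ∈ H
  vH : v ∈ H
  fuse_v : ∃ h ∈ H, h * t * h⁻¹ = v
  fuse_tv : ∃ h ∈ H, h * t * h⁻¹ = t * v
  typeC : IsTypeC H
  not_four : ¬ IsFourType (H ⧸ Cfsg.oddCore H)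
  ocN_le : CaseB.ocN H ≤ centralizer ({t} : Set G)

theorem Fused.ocN_le_conj {t v : G} {H : Subgroup G} (hF : Fused t v H) :
    CaseB.ocN H ≤ centralizer ({v} : Set G) := by
  obtain ⟨h, hh, rfl⟩ := hF.fuse_v
  intro x hx
  have h1 := mem_centralizer_singleton_iff.1
    (hF.ocN_le ((mem_normalizer_iff''.1 (CaseB.le_normalizer_ocN H hh) x).1 hx))
  refine mem_centralizer_singleton_iff.2 ?_
  calc x * (h * t * h⁻¹) = h * ((h⁻¹ * x * h) * t) * h⁻¹ := by group
    _ = h * t * h⁻¹ * x := by rw [h1]; group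

namespace Partial

variable {t v : G} {p : ℕ} (hP : Partial t v p)
include hP

theorem v_mem : v ∈ normalizer (fixAt p t v : Set G) := hP.four_le_normalizer hP.hc.symm (Commute.refl v)

theorem t_mem_cent : t ∈ centralizer (fixAt p t v : Set G) :=
  mem_centralizer_iff.2 fun _ hy => (commute_coreAt (mem_fixAt.1 hy).1).eq

theorem v_mem_cent : v ∈ centralizer (fixAt p t v : Set G) :=
  mem_centralizer_iff.2 fun _ hy => (mem_fixAt.1 hy).2.eq

/-- the images in a subgroup over `N(Y)`: `t` moves something centralised by `v`, and `v` something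
centralised by `t` -/
theorem exists_image_moved {H : Subgroup G} (hH : centralizer (fixAt p t v : Set G) ≤ H)
    (hle : CaseB.ocN H ≤ centralizer ({t} : Set G)) :
    ∃ x : G, ∃ hxH : x ∈ H, (∃ k, orderOf x = p ^ k) ∧ Commute x v ∧
      ¬ Commute (QuotientGroup.mk' (Cfsg.oddCore H) ⟨x, hxH⟩)
        (QuotientGroup.mk' (Cfsg.oddCore H) ⟨t, hH hP.t_mem_cent⟩) := by
  haveI := Fact.mk hP.prime
  obtain ⟨x, hx, hxY, hxt⟩ := hP.exists_moved_at
  refine ⟨x, hH (mem_centralizer_iff.2 fun y hy => (hxY y hy).eq.symm), ?_,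
    commute_coreAt hx, fun h => hxt (commute_of_image hP.hA.invol hle _ _ h)⟩
  obtain ⟨k, hk⟩ := IsPGroup.iff_orderOf.1 (isPGroup_coreAt p v) ⟨x, hx⟩
  exact ⟨k, by rwa [Subgroup.orderOf_mk] at hk⟩

theorem not_typeTwo {H : Subgroup G} (hH : centralizer (fixAt p t v : Set G) ≤ H)
    (hle : CaseB.ocN H ≤ centralizer ({t} : Set G)) : ¬ IsTypeTwo H := by
  intro h2
  haveI := Fact.mk hP.prime
  obtain ⟨x, hxH, ⟨k, hk⟩, -, hxt⟩ := hP.exists_image_moved hH hle
  have hodd : Odd (orderOf x) := hk ▸ (hP.prime.odd_of_ne_two hP.odd).pow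
  exact hxt ((show Commute (⟨x, hxH⟩ : H) ⟨t, hH hP.t_mem_cent⟩ from
    Subtype.ext (mem_centralizer_singleton_iff.1 (hle (mem_ocN_of_typeTwo h2 hxH hodd)))).map _)

theorem not_fourType {H : Subgroup G} (hH : centralizer (fixAt p t v : Set G) ≤ H)
    (hle : CaseB.ocN H ≤ centralizer ({t} : Set G)) : ¬ IsFourType (H ⧸ Cfsg.oddCore H) := by
  intro h4
  haveI := Fact.mk hP.prime
  obtain ⟨x, hxH, ⟨k, hk⟩, hxv, hxt⟩ := hP.exists_image_moved hH hle
  refine hxt ?_
  rw [four_type_cent_invol h4 (orderOf_mk_two (hH hP.v_mem_cent) hP.hv)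
    (orderOf_mk_odd hxH (hk ▸ (hP.prime.odd_of_ne_two hP.odd).pow))
    ((show Commute (⟨x, hxH⟩ : H) ⟨v, hH hP.v_mem_cent⟩ from Subtype.ext hxv.eq).map _)]
  exact Commute.one_left _

/-- `v` moves something of `C_T(Y)` modulo `O(H)` -/
theorem exists_image_moved_t {H : Subgroup G} (hH : normalizer (fixAt p t v : Set G) ≤ H)
    (hle : CaseB.ocN H ≤ centralizer ({t} : Set G)) {M : Subgroup (H ⧸ Cfsg.oddCore H)} [M.Normal]
    (hM : IsSimpleGroup M) (hC : centralizer (M : Set (H ⧸ Cfsg.oddCore H)) = ⊥)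
    (hY : fixAt p t v ≤ CaseB.ocN H) :
    ∃ x ∈ coreAt p t, ∃ hxH : x ∈ H,
      ¬ Commute (QuotientGroup.mk' (Cfsg.oddCore H) ⟨x, hxH⟩)
        (QuotientGroup.mk' (Cfsg.oddCore H) ⟨v, hH hP.v_mem⟩) := by
  haveI := Fact.mk hP.prime
  haveI := hP.hA.min.simple
  have hA := hP.hA
  have hL := hP.loc_above hH
  set Z := ctr p (centralizer ({t} : Set G)) with hZ
  have hZT : Z ≤ coreAt p t := inf_le_left
  by_contra! hall
  -- then `Z(T)` lies in the odd core
  have hZK : Z ≤ CaseB.ocN H := by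
    intro z hz
    have hzH : z ∈ H := hL.cent (hL.ctr_le hz)
    obtain ⟨k, hk⟩ := IsPGroup.iff_orderOf.1 (isPGroup_coreAt p t) ⟨z, hZT hz⟩
    rw [Subgroup.orderOf_mk] at hk
    have h1 := hall z (hZT hz) hzH
    have hcK : z * (v * z⁻¹ * v⁻¹) ∈ CaseB.ocN H := by
      refine ⟨⟨z, hzH⟩ * (⟨v, hH hP.v_mem⟩ * (⟨z, hzH⟩ : H)⁻¹ * (⟨v, hH hP.v_mem⟩ : H)⁻¹), ?_, rfl⟩
      show _ ∈ Cfsg.oddCore H
      rw [← QuotientGroup.eq_one_iff, ← QuotientGroup.mk'_apply]
      simp only [map_mul, map_inv]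
      rw [← mul_assoc, ← mul_assoc, h1.eq, mul_inv_cancel_right, mul_inv_cancel]
    have hvN : v ∈ normalizer (Z : Set G) :=
      le_normalizer_ctr p _ (mem_centralizer_singleton_iff.2 hP.hc.symm.eq)
    have hz' : v * z * v⁻¹ ∈ Z := (mem_normalizer_iff.1 hvN z).1 hz
    have hzc : Commute z (v * z * v⁻¹) := mem_centralizer_iff.1 hz'.2 z (hZT hz)
    have hy : z * (v * z * v⁻¹) ∈ CaseB.ocN H := by
      refine hY (mem_fixAt.2 ⟨mul_mem (hZT hz) (hZT hz'), ?_⟩)
      refine (mul_inv_eq_iff_eq_mul.1 ?_).symm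
      calc v * (z * (v * z * v⁻¹)) * v⁻¹ = (v * z * v⁻¹) * ((v * v) * z * (v * v)⁻¹) := by group
        _ = z * (v * z * v⁻¹) := by rw [Invol.invol_mul_self hP.hv]; simp [hzc.eq]
    have hsq : z * z ∈ CaseB.ocN H := by
      have hc' : Commute (v * z * v⁻¹) z := hzc.symm
      rw [show z * z = (z * (v * z * v⁻¹)) * (z * (v * z⁻¹ * v⁻¹)) by
        rw [show z * (v * z * v⁻¹) * (z * (v * z⁻¹ * v⁻¹)) = z * ((v * z * v⁻¹) * z) * (v * z * v⁻¹)⁻¹ by group,
          hc'.eq]
        group]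
      exact mul_mem hy hcK
    obtain ⟨j, hj⟩ := orderOf_odd hP.odd (isPGroup_coreAt p t) (hZT hz)
    have := pow_mem hsq (j + 1)
    rwa [← sq, ← pow_mul, show 2 * (j + 1) = orderOf z + 1 by omega, pow_succ, pow_orderOf_eq_one, one_mul] at this
  -- so the centraliser of the odd core is in `C(t)`
  have hcentle : centralizer (CaseB.ocN H : Set G) ≤ centralizer ({t} : Set G) :=
    (centralizer_le hZK).trans (centralizer_ctr_le (hA.maximal t hA.invol) hL.core_ne_bot)
  set C : Subgroup H := (centralizer (CaseB.ocN H : Set G)).subgroupOf H with hCdef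
  haveI : C.Normal := by
    refine ⟨fun c hc g => ?_⟩
    have hg : (g : G) ∈ normalizer (centralizer (CaseB.ocN H : Set G) : Set G) :=
      (CaseB.le_normalizer_ocN H).trans (CfsgLib.Coprime.normalizer_le_normalizer_centralizer _) g.2
    exact mem_subgroupOf.2 ((mem_normalizer_iff.1 hg _).1 (mem_subgroupOf.1 hc))
  set tb := QuotientGroup.mk' (Cfsg.oddCore H) ⟨t, hH hP.loc_normalizer.mem⟩ with htb
  set N := C.map (QuotientGroup.mk' (Cfsg.oddCore H)) with hN
  haveI : N.Normal := ‹C.Normal›.map _ (QuotientGroup.mk'_surjective _)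
  have htN : tb ∈ N := ⟨⟨t, hL.mem⟩, mem_subgroupOf.2 (mem_centralizer_iff.2 fun x hx =>
    mem_centralizer_singleton_iff.1 (hle hx)), rfl⟩
  have hNt : N ≤ centralizer ({tb} : Set (H ⧸ Cfsg.oddCore H)) := by
    rintro _ ⟨c, hc, rfl⟩
    refine mem_centralizer_singleton_iff.2 ?_
    exact ((show Commute c ⟨t, hH hP.loc_normalizer.mem⟩ from
      Subtype.ext (mem_centralizer_singleton_iff.1 (hcentle (mem_subgroupOf.1 hc)))).map _).eq
  haveI := hM
  have htb1 : tb ≠ 1 := Invol.invol_ne_one (orderOf_mk_two hL.mem hA.invol)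
  rcases ((‹N.Normal›).comap M.subtype).eq_bot_or_eq_top with h | h
  · refine htb1 (mem_bot.1 (hC ▸ mem_centralizer_iff.2 fun m hm => ?_))
    have hd : Disjoint M N := by
      rw [disjoint_iff, eq_bot_iff]
      rintro x ⟨hxM, hxN⟩
      have hx0 : (⟨x, hxM⟩ : M) ∈ N.comap M.subtype := hxN
      rw [h, mem_bot] at hx0
      exact mem_bot.2 (congrArg Subtype.val hx0)
    exact (CaseB.commute_of_disjoint hd hm htN (by rw [normalizer_eq_top]; exact mem_top m)
      (by rw [normalizer_eq_top]; exact mem_top tb)).eq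
  · refine htb1 (mem_bot.1 (hC ▸ mem_centralizer_iff.2 fun m hm => ?_))
    have hm' : (⟨m, hm⟩ : M) ∈ N.comap M.subtype := h ▸ mem_top _
    exact mem_centralizer_singleton_iff.1 (hNt hm')

/-- the fusion in `N(Y)` -/
theorem fused_normalizer : Fused t v (normalizer (fixAt p t v : Set G)) := by
  classical
  haveI := Fact.mk hP.prime
  have hA := hP.hA
  set H := normalizer (fixAt p t v : Set G) with hH
  have hle : CaseB.ocN H ≤ centralizer ({t} : Set G) := hP.ocN_normalizer_le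
  have htH : t ∈ H := hP.loc_normalizer.mem
  have hvH : v ∈ H := hP.v_mem
  have htvH : t * v ∈ H := mul_mem htH hvH
  have hc : IsTypeC H := (hA.min.proper_cases hP.normalizer_ne_top).resolve_left (hP.not_typeTwo (centralizer_le_normalizer _) hle)
  have h4 := hP.not_fourType (centralizer_le_normalizer _) hle
  obtain ⟨M, hMn, hMs, hC, hM7⟩ := (typeC_cases hc).resolve_left h4
  haveI := hMn
  have hY : fixAt p t v ≤ CaseB.ocN H := CaseB.le_ocN le_normalizer le_rfl
    (CaseB.odd_card_of_pGroup hP.odd ((isPGroup_coreAt p t).to_le inf_le_left))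
  set π := QuotientGroup.mk' (Cfsg.oddCore H) with hπ
  have hX : DihTwo (H ⧸ Cfsg.oddCore H) := dihTwo_mod_core hA.min hA.invol hP.hv hP.hne hP.hc htH hvH
  have hto := orderOf_mk_two htH hA.invol
  have hvo := orderOf_mk_two hvH hP.hv
  have htvo := orderOf_mk_two htvH (CaseB.invol_mul hA.invol hP.hv hP.hne hP.hc)
  -- all three involutions lie in `M`
  have hmem : ∀ u ∈ ({π ⟨t, htH⟩, π ⟨v, hvH⟩, π ⟨t * v, htvH⟩} : Set (H ⧸ Cfsg.oddCore H)), u ∈ M := by
    rcases hM7 with ⟨F, i, j, ho, h3, ⟨e⟩⟩ | ⟨⟨e⟩⟩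
    · have h2 : (2 : F) ≠ 0 := CfsgLib.Perm.Dickson.two_ne_zero_of_odd (F := F) (by rwa [Nat.card_eq_fintype_card])
      have h5 : 5 ≤ Fintype.card F := by obtain ⟨i, hi⟩ := ho; omega
      -- an element of `p`-power order centralising `a`, moved by `b`
      have key : ∀ a b : G, ∀ haH : a ∈ H, ∀ hbH : b ∈ H, orderOf a = 2 → orderOf b = 2 → Commute a b →
          (∃ x : G, ∃ hxH : x ∈ H, (∃ k, orderOf x = p ^ k) ∧ Commute x a ∧ ¬ Commute (π ⟨x, hxH⟩) (π ⟨b, hbH⟩) ∧
            ∃ R : Subgroup G, IsPGroup p R ∧ x ∈ R ∧ b ∈ normalizer (R : Set G)) →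
          (π ⟨a, haH⟩ ∈ M → p ∣ invCard (Fintype.card F)) ∧
            (π ⟨a, haH⟩ ∉ M → p ∣ outerCard (Fintype.card F) / 2) := by
        rintro a b haH hbH ha hb hab ⟨x, hxH, -, hxa, hxb, R, hR, hxR, hbR⟩
        set c : G := x * b * x⁻¹ * b⁻¹ with hcdef
        have hcR : c ∈ R := CaseB.commutator_mem hbR hxR
        have hcH : c ∈ H := mul_mem (mul_mem (mul_mem hxH hbH) (inv_mem hxH)) (inv_mem hbH)
        obtain ⟨k, hk⟩ := IsPGroup.iff_orderOf.1 hR ⟨c, hcR⟩
        rw [Subgroup.orderOf_mk] at hk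
        have hcπ : π ⟨c, hcH⟩ = π ⟨x, hxH⟩ * π ⟨b, hbH⟩ * (π ⟨x, hxH⟩)⁻¹ * (π ⟨b, hbH⟩)⁻¹ := by
          rw [← map_inv, ← map_inv, ← map_mul, ← map_mul, ← map_mul]
          rfl
        have hbD := two_mem_diagPart M e hX hC h2 (k := 1) (show orderOf (π ⟨b, hbH⟩) = 2 ^ 1 by
          rw [pow_one]; exact orderOf_mk_two hbH hb)
        have hcD : π ⟨c, hcH⟩ ∈ diagPart M e := by
          rw [hcπ]
          exact mul_mem ((diagPart_normal M e).conj_mem _ hbD _) (inv_mem hbD)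
        have hc1 : π ⟨c, hcH⟩ ≠ 1 := fun h => hxb (by
          rw [hcπ, mul_inv_eq_one, mul_inv_eq_iff_eq_mul] at h
          exact h)
        have hca : Commute (π ⟨c, hcH⟩) (π ⟨a, haH⟩) := by
          refine (show Commute (⟨c, hcH⟩ : H) ⟨a, haH⟩ from Subtype.ext ?_).map π
          exact (((hxa.mul_left hab.symm).mul_left hxa.inv_left).mul_left hab.symm.inv_left).eq
        obtain ⟨j, -, hj⟩ := (Nat.dvd_prime_pow hP.prime).1 (show orderOf (π ⟨c, hcH⟩) ∣ p ^ k from
          (orderOf_map_dvd _ _).trans (by rw [Subgroup.orderOf_mk, hk]))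
        exact psl_torus_prime M e hX hC ho h5 (orderOf_mk_two haH ha) hcD hc1 hca hP.odd hj
      obtain ⟨x, hx, hxY, hxt⟩ := hP.exists_moved_at
      have hxH : x ∈ H := centralizer_le_normalizer _ (mem_centralizer_iff.2 fun y hy => (hxY y hy).eq.symm)
      have k1 := key v t hvH htH hP.hv hA.invol hP.hc.symm ⟨x, hxH, by
        obtain ⟨k, hk⟩ := IsPGroup.iff_orderOf.1 (isPGroup_coreAt p v) ⟨x, hx⟩
        exact ⟨k, by rwa [Subgroup.orderOf_mk] at hk⟩, commute_coreAt hx,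
        fun h => hxt (commute_of_image hA.invol hle hxH htH h), coreAt p v, isPGroup_coreAt p v, hx,
        mem_normalizer_coreAt hP.hc⟩
      obtain ⟨y, hy, hyY, hyt⟩ := hP.swap.exists_moved_at
      have hyH : y ∈ H := centralizer_le_normalizer _ (mem_centralizer_iff.2 fun z hz =>
        (hyY z (hP.fixAt_mul.symm ▸ hz)).eq.symm)
      have k2 := key (t * v) t htvH htH (CaseB.invol_mul hA.invol hP.hv hP.hne hP.hc) hA.invol hP.commute_tv
        ⟨y, hyH, by
          obtain ⟨k, hk⟩ := IsPGroup.iff_orderOf.1 (isPGroup_coreAt p (t * v)) ⟨y, hy⟩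
          exact ⟨k, by rwa [Subgroup.orderOf_mk] at hk⟩, commute_coreAt hy,
          fun h => hyt (commute_of_image hA.invol hle hyH htH h), coreAt p (t * v), isPGroup_coreAt p (t * v), hy,
          mem_normalizer_coreAt hP.swap.hc⟩
      obtain ⟨z, hzT, hzH, hzv⟩ := hP.exists_image_moved_t le_rfl hle hMs hC hY
      have k3 := key t v htH hvH hA.invol hP.hv hP.hc ⟨z, hzH, by
        obtain ⟨k, hk⟩ := IsPGroup.iff_orderOf.1 (isPGroup_coreAt p t) ⟨z, hzT⟩
        exact ⟨k, by rwa [Subgroup.orderOf_mk] at hk⟩, commute_coreAt hzT, hzv, coreAt p t, isPGroup_coreAt p t,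
        hzT, mem_normalizer_coreAt hP.hc.symm⟩
      have hsame : p ∣ invCard (Fintype.card F) → ¬ p ∣ outerCard (Fintype.card F) / 2 := fun h1 h2' =>
        hP.prime.ne_one (Nat.eq_one_of_dvd_coprimes (outerCard_half_coprime ho) h2' h1)
      have hall : π ⟨t, htH⟩ ∈ M ∧ π ⟨v, hvH⟩ ∈ M ∧ π ⟨t * v, htvH⟩ ∈ M := by
        by_cases hd : p ∣ invCard (Fintype.card F)
        · exact ⟨not_not.1 fun h => hsame hd (k3.2 h), not_not.1 fun h => hsame hd (k1.2 h),
            not_not.1 fun h => hsame hd (k2.2 h)⟩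
        · exfalso
          rcases four_meets M e hX hC h2 hto hvo with h | h | h
          · exact hd (k3.1 h)
          · exact hd (k1.1 h)
          · rw [← map_mul] at h
            exact hd (k2.1 h)
      rintro u (rfl | rfl | rfl)
      exacts [hall.1, hall.2.1, hall.2.2]
    · intro u _
      rw [eq_top_of_alt7 hX M e hC]
      exact mem_top u
  -- fusion
  have hfuse : ∀ u : G, ∀ huH : u ∈ H, orderOf u = 2 → π ⟨u, huH⟩ ∈ M → ∃ h ∈ H, h * t * h⁻¹ = u := by
    intro u huH hu huM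
    have htM := hmem _ (Or.inl rfl)
    obtain ⟨m, hm⟩ : ∃ m, m * π ⟨t, htH⟩ * m⁻¹ = π ⟨u, huH⟩ := by
      rcases hM7 with ⟨F, i, j, ho, h3, ⟨e⟩⟩ | ⟨⟨e⟩⟩
      · obtain ⟨m, -, hm⟩ := isConj_of_invol_mem M e hto (orderOf_mk_two huH hu) htM huM
        exact ⟨m, hm⟩
      · obtain ⟨g, hg⟩ := isConj_iff.1 (alt_seven_one_class (a := e ⟨_, htM⟩) (b := e ⟨_, huM⟩)
          (by rw [MulEquiv.orderOf_eq, Subgroup.orderOf_mk, hto])
          (by rw [MulEquiv.orderOf_eq, Subgroup.orderOf_mk]; exact orderOf_mk_two huH hu))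
        refine ⟨((e.symm g : M) : H ⧸ Cfsg.oddCore H), ?_⟩
        have h := congrArg (fun z => ((e.symm z : M) : H ⧸ Cfsg.oddCore H)) hg
        simpa using h
    obtain ⟨h, -, hh⟩ := exists_conj_lift (odd_oddCore H) (u := (⟨t, htH⟩ : H)) (v := ⟨u, huH⟩)
      (by rw [Subgroup.orderOf_mk, hA.invol]) (by rw [Subgroup.orderOf_mk, hu]) hm
    exact ⟨h, h.2, congrArg Subtype.val hh⟩
  exact ⟨htH, hvH, hfuse v hvH hP.hv (hmem _ (Or.inr (Or.inl rfl))),
    hfuse _ htvH (CaseB.invol_mul hA.invol hP.hv hP.hne hP.hc) (hmem _ (Or.inr (Or.inr rfl))), hc, h4, hle⟩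

/-- every subgroup over `N(Y)` other than `G` has the same properties -/
theorem fused_above {L : Subgroup G} (hL : normalizer (fixAt p t v : Set G) ≤ L) (hne : L ≠ ⊤) : Fused t v L := by
  haveI := Fact.mk hP.prime
  have hH := hP.fused_normalizer
  obtain ⟨h, hh, hh'⟩ := hH.fuse_v
  obtain ⟨k, hk, hk'⟩ := hH.fuse_tv
  have hle : CaseB.ocN L ≤ centralizer ({t} : Set G) := (hP.loc_above hL).commute_ocN_of_fused hP.hA hP.odd hP.hv
    hP.hne hP.hc (hL hH.vH) ⟨h, hL hh, hh'⟩ ⟨k, hL hk, hk'⟩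
  have hL' := (centralizer_le_normalizer _).trans hL
  exact ⟨hL hH.tH, hL hH.vH, ⟨h, hL hh, hh'⟩, ⟨k, hL hk, hk'⟩,
    (hP.hA.min.proper_cases hne).resolve_left (hP.not_typeTwo hL' hle), hP.not_fourType hL' hle, hle⟩

end Partial

end CfsgLib.GW.CaseA
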